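import Groth.Agent.CurveRR.Easy
import Groth.Agent.Rigid.Smooth
import Groth.Agent.SmoothRed.Scheme
import Groth.Agent.SmLocalST.Basic
import Groth.Agent.S0558
import Groth.Prelude

/-!
# Smooth morphisms with geometrically connected fibres have geometrically integral fibres
-/

set_option autoImplicit false

universe u

open CategoryTheory AlgebraicGeometry Limits TopologicalSpace

namespace Groth.Agent.RGDev

/-- A connected quasi-compact smooth scheme over a field is integral. -/
theorem isIntegral_of_smooth_connected {K : Type u} [Field K] {X : Scheme.{u}} (f : X ⟶ Spec (CommRingCat.of K))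
    [Smooth f] [CompactSpace X] [ConnectedSpace X] : IsIntegral X := by
  haveI : IsLocallyNoetherian X := LocallyOfFiniteType.isLocallyNoetherian f
  haveI : AlgebraicGeometry.IsNoetherian X := {}
  haveI : IsReduced X := Groth.Agent.SmoothRed.isReduced_of_smooth_scheme f
  have hdom : ∀ x : X, IsDomain (X.presheaf.stalk x) := fun x => by
    haveI := SmLocalST.isRegularLocalRing_stalk_of_smooth_field f x
    exact Groth.Agent.S0558.result _
  haveI : IrreducibleSpace X := Groth.Agent.CurveRR.Easy.irreducibleSpace_of_domain_stalks hdom
  exact isIntegral_of_irreducibleSpace_of_isReduced X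

/-- Smooth quasi-compact morphisms with geometrically connected fibres have geometrically integral fibres. -/
theorem geometricallyIntegral_of_smooth {X S : Scheme.{u}} (f : X ⟶ S) [Smooth f] [QuasiCompact f]
    [GeometricallyConnected f] : GeometricallyIntegral f := by
  refine ⟨fun K _ y Z fst snd hZ => ?_⟩
  haveI : ConnectedSpace Z := GeometricallyConnected.geometrically_connectedSpace (f := f) y fst snd hZ
  haveI : Smooth snd := MorphismProperty.of_isPullback hZ ‹_›
  haveI : QuasiCompact snd := MorphismProperty.of_isPullback hZ ‹_›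
  haveI : CompactSpace Z := QuasiCompact.compactSpace_of_compactSpace snd
  exact isIntegral_of_smooth_connected snd

/-- An open mapped surjectively to a monomorphism of bases, of a morphism with geometrically integral
fibres. -/
theorem geometricallyIntegral_openImmersion_lift {U X S' S : Scheme.{u}} (j : U ⟶ X) [IsOpenImmersion j]
    (f : X ⟶ S) [GeometricallyIntegral f] (f' : U ⟶ S') [hsurj : AlgebraicGeometry.Surjective f'] (ι : S' ⟶ S)
    [Mono ι] (w : f' ≫ ι = j ≫ f) : GeometricallyIntegral f' := by
  refine ⟨fun K _ y Z fst snd hZ => ?_⟩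
  have h1 : IsIntegral (pullback f (y ≫ ι)) :=
    GeometricallyIntegral.geometrically_isIntegral (f := f) (y ≫ ι) (pullback.fst _ _) (pullback.snd _ _) (.of_hasPullback _ _)
  have hp2 : IsPullback fst snd (j ≫ f) (y ≫ ι) := by
    rw [← w]
    exact ⟨⟨by rw [← Category.assoc, hZ.w, Category.assoc]⟩, ⟨PullbackCone.isLimitOfCompMono f' y ι _ hZ.isLimit⟩⟩
  let m : Z ⟶ pullback f (y ≫ ι) := pullback.lift (fst ≫ j) snd (by rw [Category.assoc]; exact hp2.w)
  have hm : IsPullback fst m j (pullback.fst f (y ≫ ι)) :=
    IsPullback.of_bot (by rw [show m ≫ pullback.snd f (y ≫ ι) = snd from pullback.lift_snd _ _ _]; exact hp2)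
      (pullback.lift_fst _ _ _).symm (IsPullback.of_hasPullback f (y ≫ ι))
  haveI : IsOpenImmersion m := MorphismProperty.of_isPullback hm ‹_›
  haveI : AlgebraicGeometry.Surjective snd := MorphismProperty.of_isPullback hZ ‹_›
  haveI : Nonempty Z := by
    obtain ⟨w, -⟩ := snd.surjective (Classical.arbitrary _)
    exact ⟨w⟩
  exact isIntegral_of_isOpenImmersion m

/-- Polynomial rings are standard smooth of relative dimension the number of variables. -/
theorem smoothRelDim_mvPolynomial (R : Type u) [CommRing R] (n : ℕ) :
    Algebra.IsStandardSmoothOfRelativeDimension n R (MvPolynomial (ULift.{u} (Fin n)) R) := by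
  classical
  let σ := ULift.{u} (Fin n)
  let v : PEmpty.{u + 1} → MvPolynomial σ R := PEmpty.elim
  let P₀ : Algebra.PreSubmersivePresentation R (MvPolynomial σ R ⧸ Ideal.span (Set.range v)) σ PEmpty.{u + 1} :=
    Algebra.PreSubmersivePresentation.naive PEmpty.elim (fun a => a.elim)
  let P₁ : Algebra.SubmersivePresentation R (MvPolynomial σ R ⧸ Ideal.span (Set.range v)) σ PEmpty.{u + 1} :=
    { toPreSubmersivePresentation := P₀
      jacobian_isUnit := by
        rw [Algebra.PreSubmersivePresentation.jacobian_eq_jacobiMatrix_det, Matrix.det_isEmpty, map_one]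
        exact isUnit_one }
  have h : Ideal.span (Set.range v) = ⊥ := by
    rw [Set.range_eq_empty, Ideal.span_empty]
  refine (P₁.ofAlgEquiv ((Ideal.quotientEquivAlgOfEq R h).trans (AlgEquiv.quotientBot R _))).isStandardSmoothOfRelativeDimension ?_
  simp [Algebra.Presentation.dimension, σ]

end Groth.Agent.RGDev
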