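import Groth.Agent.RG.Dev.Transfer

/-!
Finite presentation across an elementary dévissage.
-/

set_option autoImplicit false
set_option backward.isDefEq.respectTransparency false

universe u

namespace Groth.Agent.RG.Dev

open TensorProduct

/-- over a finite and finitely presented algebra, finite presentation may be tested on the base -/
theorem fp_restrict_iff {A B M : Type u} [CommRing A] [CommRing B] [Algebra A B] [Module.FinitePresentation A B]
    [AddCommGroup M] [Module A M] [Module B M] [IsScalarTower A B M] :
    Module.FinitePresentation A M ↔ Module.FinitePresentation B M := by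
  refine ⟨fun h => ?_, fun h => haveI := h; Module.FinitePresentation.trans A M B⟩
  haveI := h
  haveI : Module.Finite B M := Module.Finite.of_restrictScalars_finite A B M
  obtain ⟨r, π, hπ⟩ := Module.Finite.exists_fin' B M
  refine Module.finitePresentation_of_surjective π hπ ?_
  obtain ⟨t, ht⟩ := Module.FinitePresentation.fg_ker (π.restrictScalars A) hπ
  refine ⟨t, le_antisymm (Submodule.span_le.2 fun x hx => ?_) fun x hx => ?_⟩
  · exact (ht ▸ Submodule.subset_span hx : x ∈ LinearMap.ker (π.restrictScalars A))
  · exact Submodule.span_subset_span A B _ (ht.symm ▸ hx : x ∈ Submodule.span A (t : Set (Fin r → B)))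

section

variable {S W N : Type u} [CommRing S] [CommRing W] [Algebra S W] [AddCommGroup N] [Module S N]

/-- finite presentation of a localisation passes to an algebra where the denominators are units -/
theorem fp_tensor_localized (U : Submonoid S) (hu : ∀ s : U, IsUnit (algebraMap S W s))
    (h : Module.FinitePresentation (Localization U) (LocalizedModule U N)) :
    Module.FinitePresentation W (W ⊗[S] N) := by
  let SU := Localization U
  letI : Algebra SU W := (IsLocalization.lift (S := SU) hu).toAlgebra
  haveI : IsScalarTower S SU W := IsScalarTower.of_algebraMap_eq fun b => by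
    rw [RingHom.algebraMap_toAlgebra, IsLocalization.lift_eq]
  haveI := h
  exact Module.FinitePresentation.of_equiv (R := W)
    ((TensorProduct.AlgebraTensorModule.congr (LinearEquiv.refl W W) (LocalizedModule.equivTensorProduct U N)).trans
      (TensorProduct.AlgebraTensorModule.cancelBaseChange S SU W W N))

/-- finite presentation of a localisation of a finite module descends from a flat algebra surjective
on its spectrum -/
theorem fp_localized_of_tensor [Module.Flat S W] [Module.Finite S N] (U : Submonoid S)
    (hu : ∀ s : U, IsUnit (algebraMap S W s))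
    (hsurj : ∀ P : Ideal S, P.IsPrime → Disjoint (U : Set S) P →
      ∃ Q : Ideal W, Q.IsPrime ∧ Q.comap (algebraMap S W) = P)
    (h : Module.FinitePresentation W (W ⊗[S] N)) :
    Module.FinitePresentation (Localization U) (LocalizedModule U N) := by
  let SU := Localization U
  letI : Algebra SU W := (IsLocalization.lift (S := SU) hu).toAlgebra
  haveI : IsScalarTower S SU W := IsScalarTower.of_algebraMap_eq fun b => by
    rw [RingHom.algebraMap_toAlgebra, IsLocalization.lift_eq]
  haveI : Module.Flat SU W := (Module.flat_iff_of_isLocalization SU U W).2 inferInstance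
  haveI : Module.FaithfullyFlat SU W := by
    refine Module.FaithfullyFlat.of_comap_surjective fun P => ?_
    obtain ⟨Q, hQ, hQc⟩ := hsurj (P.asIdeal.comap (algebraMap S SU)) inferInstance
      (Set.disjoint_left.2 fun s hs hs' => P.isPrime.ne_top
        (Ideal.eq_top_of_isUnit_mem _ hs' (IsLocalization.map_units SU ⟨s, hs⟩)))
    refine ⟨⟨Q, hQ⟩, PrimeSpectrum.ext ?_⟩
    change Q.comap (algebraMap SU W) = P.asIdeal
    have h1 := congrArg (Ideal.map (algebraMap S SU)) hQc
    rw [IsScalarTower.algebraMap_eq S SU W, ← Ideal.comap_comap, IsLocalization.map_comap U SU,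
      IsLocalization.map_comap U SU] at h1
    exact h1
  haveI : Module.Finite SU (LocalizedModule U N) := Module.Finite.of_isLocalizedModule U (LocalizedModule.mkLinearMap U N)
  haveI := h
  exact RG.Loc.fp_of_ff (C := W) _ (Module.FinitePresentation.of_equiv (R := W)
    ((TensorProduct.AlgebraTensorModule.congr (LinearEquiv.refl W W) (LocalizedModule.equivTensorProduct U N)).trans
      (TensorProduct.AlgebraTensorModule.cancelBaseChange S SU W W N)).symm)

/-- enlarging the denominators keeps finite presentation -/
theorem fp_of_units (U V : Submonoid S) (hu : ∀ s : U, IsUnit (algebraMap S (Localization V) s))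
    (h : Module.FinitePresentation (Localization U) (LocalizedModule U N)) :
    Module.FinitePresentation (Localization V) (LocalizedModule V N) :=
  haveI := fp_tensor_localized (W := Localization V) U hu h
  Module.FinitePresentation.of_equiv (R := Localization V) (LocalizedModule.equivTensorProduct V N).symm

end

/-- localising at a submonoid of the base or at its image gives the same finite presentation -/
theorem fp_image_iff {D C G : Type u} [CommRing D] [CommRing C] [Algebra D C] [Module.FinitePresentation D C]
    [AddCommGroup G] [Module C G] [Module D G] [IsScalarTower D C G] (U : Submonoid D) :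
    Module.FinitePresentation (Localization U) (LocalizedModule U G) ↔
      Module.FinitePresentation (Localization (Algebra.algebraMapSubmonoid C U))
        (LocalizedModule (Algebra.algebraMapSubmonoid C U) G) := by
  let L := Localization U
  let UC := Algebra.algebraMapSubmonoid C U
  let A' := Localization UC
  have hu : ∀ s : U, IsUnit (algebraMap D A' s) := fun s => by
    rw [IsScalarTower.algebraMap_apply D C A']
    exact IsLocalization.map_units A' (⟨_, ⟨s, s.2, rfl⟩⟩ : UC)
  letI : Algebra L A' := (IsLocalization.lift (S := L) hu).toAlgebra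
  haveI : IsScalarTower D L A' := IsScalarTower.of_algebraMap_eq fun b => by
    rw [RingHom.algebraMap_toAlgebra, IsLocalization.lift_eq]
  haveI : IsLocalizedModule U (IsScalarTower.toAlgHom D C A').toLinearMap :=
    isLocalizedModule_iff_isLocalization.2 inferInstance
  have hbc : IsBaseChange L (IsScalarTower.toAlgHom D C A').toLinearMap :=
    (isLocalizedModule_iff_isBaseChange U L _).1 inferInstance
  haveI : Module.FinitePresentation L A' := FinitePresentation.of_isBaseChange _ hbc
  let Y := LocalizedModule UC G
  letI : Module L Y := Module.compHom Y (algebraMap L A')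
  haveI : IsScalarTower L A' Y := IsScalarTower.of_algebraMap_smul fun _ _ => rfl
  haveI : IsScalarTower D L Y := IsScalarTower.of_algebraMap_smul fun d x => by
    rw [← algebraMap_smul A' (algebraMap D L d) x, ← IsScalarTower.algebraMap_apply D L A',
      IsScalarTower.algebraMap_apply D C A', algebraMap_smul, algebraMap_smul]
  let gB : G →ₗ[D] Y := (LocalizedModule.mkLinearMap UC G).restrictScalars D
  haveI : IsLocalizedModule U gB := IsLocalizedModule.restrictScalars _ _
  have e : LocalizedModule U G ≃ₗ[L] Y :=
    (IsLocalizedModule.iso U gB).extendScalarsOfIsLocalization U L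
  refine Iff.trans ⟨fun h => haveI := h; Module.FinitePresentation.of_equiv e,
    fun h => haveI := h; Module.FinitePresentation.of_equiv e.symm⟩ fp_restrict_iff

/-- `G` localised, seen as base change of `N` -/
theorem fp_tensor_iff {S S' C N G : Type u} [CommRing S] [CommRing S'] [CommRing C] [Algebra S S'] [Algebra S' C]
    [Module.FinitePresentation S' C] [AddCommGroup N] [Module S N] [AddCommGroup G] [Module C G] [Module S' G]
    [IsScalarTower S' C G] [Module S G] [IsScalarTower S S' G] (g : N →ₗ[S] G) (hg : IsBaseChange S' g)
    (U : Submonoid S') :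
    Module.FinitePresentation (Localization U) (Localization U ⊗[S] N) ↔
      Module.FinitePresentation (Localization (Algebra.algebraMapSubmonoid C U))
        (LocalizedModule (Algebra.algebraMapSubmonoid C U) G) := by
  let e1 : Localization U ⊗[S] N ≃ₗ[Localization U] LocalizedModule U G :=
    ((TensorProduct.AlgebraTensorModule.cancelBaseChange S S' (Localization U) (Localization U) N).symm ≪≫ₗ
      TensorProduct.AlgebraTensorModule.congr (LinearEquiv.refl _ _) hg.equiv ≪≫ₗ
      (LocalizedModule.equivTensorProduct U G).symm)
  exact Iff.trans ⟨fun h => haveI := h; Module.FinitePresentation.of_equiv e1,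
    fun h => haveI := h; Module.FinitePresentation.of_equiv e1.symm⟩ (fp_image_iff U)

end Groth.Agent.RG.Dev

namespace Groth.Agent.RG.Dev

/-- finite presentation over the base gives it over a finite algebra -/
theorem fp_of_restrict_finite {A B M : Type u} [CommRing A] [CommRing B] [Algebra A B] [Module.Finite A B]
    [AddCommGroup M] [Module A M] [Module B M] [IsScalarTower A B M] (h : Module.FinitePresentation A M) :
    Module.FinitePresentation B M := by
  haveI := h
  haveI : Module.Finite B M := Module.Finite.of_restrictScalars_finite A B M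
  obtain ⟨r, π, hπ⟩ := Module.Finite.exists_fin' B M
  refine Module.finitePresentation_of_surjective π hπ ?_
  obtain ⟨t, ht⟩ := Module.FinitePresentation.fg_ker (π.restrictScalars A) hπ
  refine ⟨t, le_antisymm (Submodule.span_le.2 fun x hx => ?_) fun x hx => ?_⟩
  · exact (ht ▸ Submodule.subset_span hx : x ∈ LinearMap.ker (π.restrictScalars A))
  · exact Submodule.span_subset_span A B _ (ht.symm ▸ hx : x ∈ Submodule.span A (t : Set (Fin r → B)))

theorem projective_pi {A : Type u} [CommRing A] {ι : Type*} [Finite ι] (F : ι → Type u) [∀ i, AddCommGroup (F i)]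
    [∀ i, Module A (F i)] [∀ i, Module.Projective A (F i)] : Module.Projective A (∀ i, F i) := by
  classical
  haveI := Fintype.ofFinite ι
  haveI : Module.Projective A (DirectSum ι F) := inferInstance
  exact Module.Projective.of_equiv (DirectSum.linearEquivFunOnFintype A ι F)

theorem exists_split_equiv {A X M P : Type u} [CommRing A] [AddCommGroup X] [Module A X] [AddCommGroup M] [Module A M]
    [AddCommGroup P] [Module A P] [Module.Projective A P] (f : X →ₗ[A] M) (g : M →ₗ[A] P)
    (hf : Function.Injective f) (hex : ∀ x, g x = 0 ↔ x ∈ LinearMap.range f) (hg : Function.Surjective g) :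
    Nonempty (M ≃ₗ[A] X × P) := by
  obtain ⟨s, hs⟩ := Module.projective_lifting_property g LinearMap.id hg
  have hs' : ∀ p, g (s p) = p := fun p => LinearMap.congr_fun hs p
  have hgf : ∀ x, g (f x) = 0 := fun x => (hex _).2 ⟨x, rfl⟩
  let T : X × P →ₗ[A] M := LinearMap.coprod f s
  refine ⟨(LinearEquiv.ofBijective T ⟨?_, fun m => ?_⟩).symm⟩
  · rw [injective_iff_map_eq_zero]
    rintro ⟨x, p⟩ h
    have h' : f x + s p = 0 := h
    have hp : p = 0 := by simpa [hgf, hs'] using congrArg g h'
    subst hp
    simp only [map_zero, add_zero] at h'
    simp [hf (h'.trans (map_zero f).symm)]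
  · obtain ⟨x, hx⟩ := (hex (m - s (g m))).1 (by simp [hs'])
    exact ⟨(x, g m), by simp [T, hx]⟩

/-- splitting off the smallest index -/
noncomputable def piInsert {A : Type u} [CommRing A] {n : ℕ} (F : Fin n → Type u) [∀ j, AddCommGroup (F j)]
    [∀ j, Module A (F j)] (i : ℕ) (hi : i < n) :
    (∀ j : {j : Fin n // i ≤ (j : ℕ)}, F j.1) ≃ₗ[A] F ⟨i, hi⟩ × (∀ j : {j : Fin n // i + 1 ≤ (j : ℕ)}, F j.1) :=
  LinearEquiv.ofBijective
    (LinearMap.prod (LinearMap.proj (R := A) (⟨⟨i, hi⟩, le_rfl⟩ : {j : Fin n // i ≤ (j : ℕ)}))
      (LinearMap.pi fun j : {j : Fin n // i + 1 ≤ (j : ℕ)} =>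
        LinearMap.proj (R := A) (φ := fun j : {j : Fin n // i ≤ (j : ℕ)} => F j.1) ⟨j.1, by have := j.2; omega⟩))
    ⟨fun a b h => by
      funext j
      obtain ⟨j, hj⟩ := j
      by_cases hji : j = ⟨i, hi⟩
      · subst hji; exact congrArg Prod.fst h
      · exact congrFun (congrArg Prod.snd h) ⟨j, by
          have : (j : ℕ) ≠ i := fun h => hji (Fin.ext h)
          omega⟩,
     fun p => ⟨fun j => if h : i + 1 ≤ (j.1 : ℕ) then p.2 ⟨j.1, h⟩
        else (show j.1 = ⟨i, hi⟩ from Fin.ext (by have := j.2; change (j.1 : ℕ) = i; omega)) ▸ p.1, by
      refine Prod.ext ?_ (funext fun j => ?_)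
      · simp
      · exact dif_pos j.2⟩⟩

end Groth.Agent.RG.Dev
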