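import Groth.Agent.RG.Dev.Step
import Groth.Agent.RG.Fibres
import Groth.Agent.RG.Dev.FpIff
import Groth.Agent.S4887
import Mathlib.AlgebraicGeometry.Geometrically.Irreducible

/-!
Spreading out a complete dévissage from a prime to a basic open neighbourhood.
-/

set_option autoImplicit false
set_option linter.style.haveILetI false
set_option backward.isDefEq.respectTransparency false

universe u

open TensorProduct

namespace Groth.Agent.RG.Dev

variable {R : Type u} [CommRing R]

/-- base change preserves smooth algebras with geometrically irreducible fibres -/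
theorem geomIrred_baseChange {B : Type u} [CommRing B] [Algebra R B] (L : Type u) [CommRing L] [Algebra R L]
    (h : FlatCA.GeomIrredFibres R B) : FlatCA.GeomIrredFibres L (L ⊗[R] B) := by
  have h2 := AlgebraicGeometry.isPullback_SpecMap_of_isPushout _ _ _ _ (CommRingCat.isPushout_tensorProduct R L B)
  exact CategoryTheory.MorphismProperty.of_isPullback
    (P := @AlgebraicGeometry.GeometricallyIrreducible) h2.flip h

/-- the generic point of the fibre of a smooth algebra with geometrically irreducible fibres lies over the prime -/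
theorem comap_map_prime {B : Type u} [CommRing B] [Algebra R B] [Algebra.Smooth R B]
    (h : FlatCA.GeomIrredFibres R B) (rr : Ideal R) [rr.IsPrime] :
    (rr.map (algebraMap R B)).comap (algebraMap R B) = rr := by
  haveI := geomIntegral_of_smooth h
  obtain ⟨Q, hQ⟩ := (inferInstance : AlgebraicGeometry.Surjective
    (AlgebraicGeometry.Spec.map (CommRingCat.ofHom (algebraMap R B)))).surj ⟨rr, inferInstance⟩
  have hQ' : Q.asIdeal.comap (algebraMap R B) = rr := congrArg PrimeSpectrum.asIdeal hQ
  refine le_antisymm (fun x hx => ?_) Ideal.le_comap_map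
  have hle : rr.map (algebraMap R B) ≤ Q.asIdeal := Ideal.map_le_iff_le_comap.2 hQ'.ge
  exact hQ' ▸ (Ideal.mem_comap.2 (hle (Ideal.mem_comap.1 hx)) : x ∈ Q.asIdeal.comap (algebraMap R B))

/-- injectivity on the fibre, from injectivity at its generic point -/
theorem residue_injective {B M : Type u} [CommRing B] [Algebra R B] (rr : Ideal R) [rr.IsPrime]
    [(rr.map (algebraMap R B)).IsPrime] (hover : (rr.map (algebraMap R B)).comap (algebraMap R B) = rr)
    [AddCommGroup M] [Module B M] [Module R M] [IsScalarTower R B M] {r : ℕ} (α : (Fin r → B) →ₗ[B] M)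
    (hα : Function.Injective (α.baseChange (rr.map (algebraMap R B)).ResidueField)) :
    Function.Injective ((α.restrictScalars R).lTensor rr.ResidueField) := by
  rw [injective_iff_map_eq_zero]
  intro z hz
  obtain ⟨c, hc, x, hx⟩ := exists_smul_eq_one_tmul_mod rr z
  let ξ := rr.map (algebraMap R B)
  let κ := ξ.ResidueField
  have h1 : (1 : rr.ResidueField) ⊗ₜ[R] α x = 0 := by
    have h := congrArg ((α.restrictScalars R).lTensor rr.ResidueField) hx
    rw [map_smul, hz, smul_zero, LinearMap.lTensor_tmul] at h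
    exact h.symm
  obtain ⟨d, hd, hdx⟩ := (one_tmul_eq_zero_iff (p := rr) (α x)).1 h1
  have hdκ : algebraMap B κ (algebraMap R B d) ≠ 0 := fun h0 =>
    hd (hover ▸ (Ideal.algebraMap_residueField_eq_zero.1 h0 : algebraMap R B d ∈ ξ))
  have h0 : ∀ y : M, y ∈ rr • (⊤ : Submodule R M) → (1 : κ) ⊗ₜ[B] y = 0 := fun y hy => by
    refine Submodule.smul_induction_on hy (fun a ha w _ => ?_) fun a b ha hb => by rw [tmul_add, ha, hb, add_zero]
    rw [← algebraMap_smul B a w, ← smul_tmul, Algebra.smul_def,
      (Ideal.algebraMap_residueField_eq_zero (I := ξ)).2 (Ideal.mem_map_of_mem _ ha), zero_mul, zero_tmul]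
  have h2 : (1 : κ) ⊗ₜ[B] α x = 0 := by
    have h := h0 _ hdx
    rw [← algebraMap_smul B d (α x), tmul_smul, ← algebraMap_smul κ (algebraMap R B d)] at h
    exact (smul_eq_zero.1 h).resolve_left hdκ
  have h3 : (1 : κ) ⊗ₜ[B] x = 0 := hα (by simpa using h2)
  have h4 : ∀ i, x i ∈ ξ := fun i => by
    have h := congrArg ((LinearMap.proj i).baseChange κ) h3
    rw [LinearMap.baseChange_tmul, map_zero] at h
    have h' := congrArg (TensorProduct.rid B κ) h
    simp [Algebra.smul_def] at h'
    exact Ideal.algebraMap_residueField_eq_zero.1 h'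
  have h5 : x ∈ rr • (⊤ : Submodule R (Fin r → B)) := by
    rw [← Submodule.restrictScalars_top R B (Fin r → B), ← Ideal.smul_restrictScalars,
      Submodule.restrictScalars_mem, pi_eq_sum_univ' x]
    exact Submodule.sum_mem _ fun i _ => Submodule.smul_mem_smul (h4 i) trivial
  have h6 : (1 : rr.ResidueField) ⊗ₜ[R] x = 0 :=
    (one_tmul_eq_zero_iff (p := rr) x).2 ⟨1, fun h => ‹rr.IsPrime›.ne_top ((Ideal.eq_top_iff_one _).2 h), by rwa [one_smul]⟩
  rw [h6] at hx
  have hcκ : algebraMap R rr.ResidueField c ≠ 0 := fun h0 => hc (Ideal.algebraMap_residueField_eq_zero.1 h0)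
  rw [← algebraMap_smul rr.ResidueField c z] at hx
  exact (smul_eq_zero.1 hx).resolve_left hcκ

/-- over the local ring of the prime: universal injectivity and a flat cokernel -/
theorem local_step {X M C : Type u} [AddCommGroup X] [Module R X] [Module.Projective R X]
    [AddCommGroup M] [Module R M] [AddCommGroup C] [Module R C] (rr : Ideal R) [rr.IsPrime]
    (a : X →ₗ[R] M) (π : M →ₗ[R] C) (hπ : Function.Surjective π) (hex : Function.Exact a π)
    [Module.Flat (Localization.AtPrime rr) (Localization.AtPrime rr ⊗[R] M)]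
    (ha : Function.Injective (a.lTensor rr.ResidueField)) :
    (∀ x, a x = 0 → ∃ c ∉ rr, c • x = 0) ∧
      Module.Flat (Localization.AtPrime rr) (Localization.AtPrime rr ⊗[R] C) := by
  let L := Localization.AtPrime rr
  have hu : FlatCA.UnivInj L (a.baseChange L) := by
    refine RG.Loc.univInj_of_residue (a.baseChange L) fun m hm => ?_
    obtain rfl : m = IsLocalRing.maximalIdeal L := IsLocalRing.eq_maximalIdeal hm
    rw [RG.Loc.injective_lTensor_baseChange_mod]
    exact ha
  refine ⟨fun x hx => ?_, ?_⟩
  · haveI := IsLocalizedModule.iso rr.primeCompl (TensorProduct.mk R L X 1) |>.injective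
    have h1 : (1 : L) ⊗ₜ[R] x = 0 := by
      refine (TensorProduct.lid L (L ⊗[R] X)).symm.injective (hu L ?_)
      simp [hx]
    obtain ⟨⟨c, hc⟩, hcx⟩ := (IsLocalizedModule.eq_zero_iff rr.primeCompl (TensorProduct.mk R L X 1)).1 h1
    exact ⟨c, hc, hcx⟩
  · refine FlatCx.flat_quotient_of_rTensor_injective (f := a.baseChange L) (g := π.baseChange L)
      (lTensor_exact L hex hπ) (LinearMap.lTensor_surjective L hπ) fun Q _ _ => ?_
    rw [← LinearMap.comm_comp_lTensor_comp_comm_eq]
    exact (TensorProduct.comm L Q _).injective.comp ((hu Q).comp (TensorProduct.comm L _ Q).injective)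

/-- injectivity spreads out when the cokernel is flat on a basic open -/
theorem exists_inj_nhd {B X M C : Type u} [CommRing B] [Algebra R B] [Algebra.FinitePresentation R B]
    [AddCommGroup X] [Module B X] [Module R X] [IsScalarTower R B X] [Module.Finite B X]
    [AddCommGroup M] [Module B M] [Module.FinitePresentation B M]
    [AddCommGroup C] [Module B C] [Module R C] [IsScalarTower R B C] [Module.FinitePresentation B C]
    (rr : Ideal R) [rr.IsPrime] (a : X →ₗ[B] M) (π : M →ₗ[B] C) (hπ : Function.Surjective π)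
    (hex : Function.Exact a π) (g : R)
    (hC : Module.Flat R (LocalizedModule (Submonoid.powers g) C))
    (hloc : ∀ x, a x = 0 → ∃ c ∉ rr, c • x = 0) :
    ∃ c ∉ rr, ∀ x, a x = 0 → ∃ k : ℕ, (g * c) ^ k • x = 0 := by
  classical
  let U := Algebra.algebraMapSubmonoid B (Submonoid.powers g)
  let BL := Localization U
  haveI : IsLocalization.Away (algebraMap R B g) BL := by
    change IsLocalization (Submonoid.powers (algebraMap R B g)) BL
    rw [show Submonoid.powers (algebraMap R B g) = U from (Submonoid.map_powers _ _).symm]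
    infer_instance
  haveI : Algebra.FinitePresentation B BL := IsLocalization.Away.finitePresentation (algebraMap R B g)
  haveI : Algebra.FinitePresentation R BL := Algebra.FinitePresentation.trans R B BL
  haveI : Module.Flat R (BL ⊗[B] C) := by
    let gB : C →ₗ[R] LocalizedModule U C := (LocalizedModule.mkLinearMap U C).restrictScalars R
    haveI : IsLocalizedModule (Submonoid.powers g) gB := IsLocalizedModule.restrictScalars _ _
    haveI := hC
    haveI : Module.Flat R (LocalizedModule U C) := Module.Flat.of_linearEquiv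
      (IsLocalizedModule.iso (Submonoid.powers g) gB).symm
    exact Module.Flat.of_linearEquiv ((LocalizedModule.equivTensorProduct U C).restrictScalars R).symm
  have hπ' : Function.Surjective (π.baseChange BL) := LinearMap.lTensor_surjective BL hπ
  have hex' : Function.Exact (a.baseChange BL) (π.baseChange BL) := lTensor_exact BL hex hπ
  haveI hfpk : Module.FinitePresentation BL (LinearMap.ker (π.baseChange BL)) :=
    Groth.Agent.S4887.fp_ker (A := R) (π.baseChange BL) hπ'
  let a' : BL ⊗[B] X →ₗ[BL] LinearMap.ker (π.baseChange BL) :=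
    (a.baseChange BL).codRestrict _ fun z => hex'.apply_apply_eq_zero z
  have ha' : Function.Surjective a' := fun y => by
    obtain ⟨z, hz⟩ := (hex' y.1).1 y.2
    exact ⟨z, Subtype.ext hz⟩
  haveI : Module.Finite BL (BL ⊗[B] X) := inferInstance
  obtain ⟨s, hs⟩ := Module.FinitePresentation.fg_ker (R := BL) (M := BL ⊗[B] X) (N := LinearMap.ker (π.baseChange BL)) a' ha'
  let ι : X →ₗ[B] BL ⊗[B] X := TensorProduct.mk B BL X 1
  let ιM : M →ₗ[B] BL ⊗[B] M := TensorProduct.mk B BL M 1
  haveI : IsLocalizedModule U ι := (isLocalizedModule_iff_isBaseChange U BL ι).2 (TensorProduct.isBaseChange B X BL)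
  haveI : IsLocalizedModule U ιM := (isLocalizedModule_iff_isBaseChange U BL ιM).2 (TensorProduct.isBaseChange B M BL)
  have hkill : ∀ z ∈ LinearMap.ker a', ∃ c ∉ rr, algebraMap R BL c • z = 0 := by
    intro z hz
    have hz' : a.baseChange BL z = 0 := congrArg Subtype.val hz
    obtain ⟨⟨x, u⟩, hu⟩ := IsLocalizedModule.surj U ι z
    have h1 : ιM (a x) = 0 := by
      change (1 : BL) ⊗ₜ[B] a x = 0
      rw [← LinearMap.baseChange_tmul, show (1 : BL) ⊗ₜ[B] x = u • z from hu.symm, Submonoid.smul_def,
        LinearMap.map_smul_of_tower, hz', smul_zero]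
    obtain ⟨u', hu'⟩ := (IsLocalizedModule.eq_zero_iff U ιM).1 h1
    obtain ⟨c, hc, hcx⟩ := hloc ((u' : B) • x) (by rw [map_smul]; exact hu')
    refine ⟨c, hc, ?_⟩
    have h2 : (u' : B) • (u : B) • algebraMap R BL c • z = 0 := by
      rw [algebraMap_smul, smul_comm (u : B) c z, smul_comm (u' : B) c]
      rw [show (u : B) • z = ι x from hu, ← map_smul, ← LinearMap.map_smul_of_tower, hcx, map_zero]
    have hinj : ∀ (v : U) (w : BL ⊗[B] X), (v : B) • w = 0 → w = 0 := fun v w hw =>
      ((Module.End.isUnit_iff _).1 (IsLocalizedModule.map_units ι v)).1 (hw.trans (map_zero _).symm)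
    exact hinj u _ (hinj u' _ h2)
  choose! c hc hcz using hkill
  have hmem : ∀ z ∈ s, z ∈ LinearMap.ker a' := fun z hz => hs ▸ Submodule.subset_span hz
  refine ⟨∏ z ∈ s, c z, fun h => ?_, fun x hx => ?_⟩
  · obtain ⟨z, hz, hzr⟩ := (Ideal.IsPrime.prod_mem_iff (hp := ‹rr.IsPrime›)).1 h
    exact hc z (hmem z hz) hzr
  have hxk : ι x ∈ Submodule.span BL (s : Set (BL ⊗[B] X)) := by
    rw [hs]
    exact Subtype.ext (by simp [a', ι, hx])
  have h1 : algebraMap R BL (∏ z ∈ s, c z) • ι x = 0 := by
    have hle : Submodule.span BL (s : Set (BL ⊗[B] X)) ≤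
        LinearMap.ker (LinearMap.lsmul BL (BL ⊗[B] X) (algebraMap R BL (∏ z ∈ s, c z))) := by
      rw [Submodule.span_le]
      intro z hz
      change algebraMap R BL (∏ z ∈ s, c z) • z = 0
      rw [← Finset.mul_prod_erase s c hz, map_mul, mul_comm, mul_smul, hcz z (hmem z hz), smul_zero]
    exact hle hxk
  rw [algebraMap_smul, ← LinearMap.map_smul_of_tower] at h1
  obtain ⟨⟨_, _, ⟨k, rfl⟩, rfl⟩, hk⟩ := (IsLocalizedModule.eq_zero_iff U ι).1 h1
  refine ⟨k + 1, ?_⟩
  have h2 : g ^ k • (∏ z ∈ s, c z) • x = 0 := by rw [← algebraMap_smul B (g ^ k)]; exact hk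
  rw [show (g * ∏ z ∈ s, c z) ^ (k + 1) = (g * (∏ z ∈ s, c z) ^ k) * (g ^ k * ∏ z ∈ s, c z) by ring, mul_smul, mul_smul (g ^ k),
    h2, smul_zero]

/-- a localised exact sequence with projective cokernel splits -/
theorem exists_split_localized {X M C : Type u} [AddCommGroup X] [Module R X] [AddCommGroup M] [Module R M]
    [AddCommGroup C] [Module R C] (L : Type u) [CommRing L] [Algebra R L] (g : R) [IsLocalization.Away g L]
    (a : X →ₗ[R] M) (π : M →ₗ[R] C) (hπ : Function.Surjective π) (hex : Function.Exact a π)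
    (hker : ∀ x, a x = 0 → ∃ k : ℕ, g ^ k • x = 0) [Module.Projective L (L ⊗[R] C)] :
    Nonempty (L ⊗[R] M ≃ₗ[L] (L ⊗[R] X) × (L ⊗[R] C)) := by
  refine exists_split_equiv (a.baseChange L) (π.baseChange L) ?_ (lTensor_exact L hex hπ)
    (LinearMap.lTensor_surjective L hπ)
  let U := Submonoid.powers g
  haveI : IsLocalizedModule U (TensorProduct.mk R L X 1) :=
    (isLocalizedModule_iff_isBaseChange U L _).2 (TensorProduct.isBaseChange R X L)
  haveI : IsLocalizedModule U (TensorProduct.mk R L M 1) :=
    (isLocalizedModule_iff_isBaseChange U L _).2 (TensorProduct.isBaseChange R M L)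
  rw [injective_iff_map_eq_zero]
  intro z hz
  obtain ⟨⟨x, u⟩, hu⟩ := IsLocalizedModule.surj U (TensorProduct.mk R L X 1) z
  have h1 : (1 : L) ⊗ₜ[R] a x = 0 := by
    rw [← LinearMap.baseChange_tmul, show (1 : L) ⊗ₜ[R] x = u • z from hu.symm, Submonoid.smul_def,
      LinearMap.map_smul_of_tower, hz, smul_zero]
  obtain ⟨⟨_, j, rfl⟩, hj⟩ := (IsLocalizedModule.eq_zero_iff U (TensorProduct.mk R L M 1)).1 h1
  obtain ⟨k, hk⟩ := hker (g ^ j • x) (by rw [map_smul]; exact hj)
  have h2 : (1 : L) ⊗ₜ[R] x = 0 :=
    (IsLocalizedModule.eq_zero_iff U (TensorProduct.mk R L X 1)).2 ⟨⟨g ^ (k + j), k + j, rfl⟩, by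
      change g ^ (k + j) • x = 0
      rw [pow_add, mul_smul, hk]⟩
  refine ((Module.End.isUnit_iff _).1 (IsLocalizedModule.map_units (TensorProduct.mk R L X 1) u)).1 ?_
  rw [map_zero]
  exact hu.trans h2

/-- transport of an isomorphism to a further base change -/
theorem nonempty_equiv_baseChange {M P : Type u} [AddCommGroup M] [Module R M] [AddCommGroup P] [Module R P]
    (L L' : Type u) [CommRing L] [Algebra R L] [CommRing L'] [Algebra R L'] [Algebra L L'] [IsScalarTower R L L']
    (e : L ⊗[R] M ≃ₗ[L] L ⊗[R] P) : Nonempty (L' ⊗[R] M ≃ₗ[L'] L' ⊗[R] P) :=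
  ⟨(AlgebraTensorModule.cancelBaseChange R L L' L' M).symm ≪≫ₗ
    AlgebraTensorModule.congr (LinearEquiv.refl L' L') e ≪≫ₗ AlgebraTensorModule.cancelBaseChange R L L' L' P⟩

/-- one backwards step: injectivity and splitting on a smaller basic open -/
theorem exists_step {B X M C : Type u} [CommRing B] [Algebra R B] [Algebra.FinitePresentation R B]
    [AddCommGroup X] [Module B X] [Module R X] [IsScalarTower R B X] [Module.Finite B X]
    [AddCommGroup M] [Module B M] [Module R M] [IsScalarTower R B M] [Module.FinitePresentation B M]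
    [AddCommGroup C] [Module B C] [Module R C] [IsScalarTower R B C] [Module.FinitePresentation B C]
    (rr : Ideal R) [rr.IsPrime] (a : X →ₗ[B] M) (π : M →ₗ[B] C) (hπ : Function.Surjective π)
    (hex : Function.Exact a π) (hloc : ∀ x, a x = 0 → ∃ c ∉ rr, c • x = 0)
    (g : R) (hg : g ∉ rr) [Module.Projective (Localization.Away g) (Localization.Away g ⊗[R] C)] :
    ∃ g', g' ∉ rr ∧ IsUnit (algebraMap R (Localization.Away g') g) ∧
      Nonempty (Localization.Away g' ⊗[R] M ≃ₗ[Localization.Away g']
        (Localization.Away g' ⊗[R] X) × (Localization.Away g' ⊗[R] C)) := by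
  have hC : Module.Flat R (LocalizedModule (Submonoid.powers g) C) := by
    haveI : Module.Flat R (Localization.Away g ⊗[R] C) := Module.Flat.trans R (Localization.Away g) _
    exact Module.Flat.of_linearEquiv
      ((LocalizedModule.equivTensorProduct (Submonoid.powers g) C).restrictScalars R)
  obtain ⟨c, hc, hck⟩ := exists_inj_nhd rr a π hπ hex g hC hloc
  have hu : IsUnit (algebraMap R (Localization.Away (g * c)) g) := by
    have h1 := IsLocalization.Away.algebraMap_isUnit (S := Localization.Away (g * c)) (g * c)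
    rw [map_mul] at h1
    exact isUnit_of_mul_isUnit_left h1
  refine ⟨g * c, fun h => (‹rr.IsPrime›.mem_or_mem h).elim hg hc, hu, ?_⟩
  letI : Algebra (Localization.Away g) (Localization.Away (g * c)) := (IsLocalization.Away.lift g hu).toAlgebra
  haveI : IsScalarTower R (Localization.Away g) (Localization.Away (g * c)) :=
    IsScalarTower.of_algebraMap_eq fun x => (IsLocalization.Away.lift_eq g hu x).symm
  haveI : Module.Projective (Localization.Away (g * c)) (Localization.Away (g * c) ⊗[R] C) :=
    Module.Projective.of_equiv (AlgebraTensorModule.cancelBaseChange R (Localization.Away g)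
      (Localization.Away (g * c)) (Localization.Away (g * c)) C)
  exact exists_split_localized (Localization.Away (g * c)) (g * c) (a.restrictScalars R) (π.restrictScalars R)
    hπ hex hck

end Groth.Agent.RG.Dev
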