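import Groth.Agent.RG.Dev.Step
import Groth.Agent.RG.Dev.Spread
import Groth.Agent.RG.Pure.DescentFlat
import Groth.Agent.FlatSpread.Fp
import Groth.Agent.FlatSES.Basic

/-!
Maps from free modules which are bijective at the generic point of a fibre.
-/

set_option autoImplicit false
set_option linter.style.haveILetI false
set_option backward.isDefEq.respectTransparency false

universe u

open TensorProduct

namespace Groth.Agent.RG.Dev

variable {R S : Type u} [CommRing R] [CommRing S] [Algebra R S]

/-- flat with geometrically integral fibres and finite presentation is projective -/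
theorem projective_of_geomIntegral [Algebra.FinitePresentation R S] [Module.Flat R S]
    (h : FlatCA.GeomIntegralFibres R S) : Module.Projective R S := by
  refine RG.Pure.projective_of_pure (A := R) (B := S) S fun p _ => ?_
  intro A' B' N' _ _ _ _ _ _ _ _ _ _ _ _ _ _ f t' t _ _ P _ _
  exact RG.Pure.isUnivPure_of_geomIntegral h p A' B' N' f t' t P

theorem comap_map_prime' (rr : Ideal R) (q : Ideal S) [q.IsPrime] [q.LiesOver rr] :
    (rr.map (algebraMap R S)).comap (algebraMap R S) = rr := by
  refine le_antisymm (fun x hx => ?_) Ideal.le_comap_map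
  have hle : rr.map (algebraMap R S) ≤ q := Ideal.map_le_iff_le_comap.2 (Ideal.over_def q rr).le
  rw [Ideal.over_def q rr]
  exact hle hx

/-- lifting a basis of the fibre at a prime -/
theorem exists_bijective_residue (ξ : Ideal S) [ξ.IsPrime] (N : Type u) [AddCommGroup N] [Module S N]
    [Module.Finite S N] :
    ∃ (r : ℕ) (α : (Fin r → S) →ₗ[S] N), Function.Bijective (α.baseChange ξ.ResidueField) := by
  classical
  let κ := ξ.ResidueField
  have hspan : Submodule.span κ (Set.range fun y : N => (1 : κ) ⊗ₜ[S] y) = ⊤ := by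
    rw [eq_top_iff]
    rintro z -
    induction z using TensorProduct.induction_on with
    | zero => exact zero_mem _
    | tmul c y =>
      rw [show c ⊗ₜ[S] y = c • ((1 : κ) ⊗ₜ[S] y) by simp [smul_tmul', smul_eq_mul]]
      exact Submodule.smul_mem _ _ (Submodule.subset_span ⟨y, rfl⟩)
    | add a b ha hb => exact add_mem ha hb
  obtain ⟨b, hbsub, hbspan, hbli⟩ := exists_linearIndependent κ (Set.range fun y : N => (1 : κ) ⊗ₜ[S] y)
  rw [hspan] at hbspan
  haveI : Finite b := hbli.finite
  haveI := Fintype.ofFinite b
  let eb := Fintype.equivFin b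
  choose ys hys using fun i : Fin (Fintype.card b) => hbsub (eb.symm i).2
  let α := Fintype.linearCombination S ys
  have hcoord : ∀ z : κ ⊗[S] (Fin (Fintype.card b) → S), α.baseChange κ z =
      ∑ i, (TensorProduct.piScalarRight S κ κ _ z i) • ((eb.symm i : b) : κ ⊗[S] N) := by
    intro z
    induction z using TensorProduct.induction_on with
    | zero => simp
    | tmul c x =>
      rw [LinearMap.baseChange_tmul, Fintype.linearCombination_apply, tmul_sum]
      refine Finset.sum_congr rfl fun i _ => ?_
      rw [← hys i, TensorProduct.piScalarRight_apply, TensorProduct.piScalarRightHom_tmul, smul_tmul',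
        smul_eq_mul, mul_one, ← smul_tmul]
    | add x y hx hy => simp only [map_add, hx, hy, Pi.add_apply, add_smul, Finset.sum_add_distrib]
  have hlin : LinearIndependent κ fun i => ((eb.symm i : b) : κ ⊗[S] N) := hbli.comp _ eb.symm.injective
  refine ⟨_, α, ?_, ?_⟩
  · rw [injective_iff_map_eq_zero]
    intro z hz
    rw [hcoord] at hz
    exact (TensorProduct.piScalarRight S κ κ _).injective
      (by rw [map_zero]; exact funext fun i => Fintype.linearIndependent_iff.1 hlin _ hz i)
  · intro v
    have hv : v ∈ Submodule.span κ b := hbspan ▸ trivial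
    refine Submodule.span_le (p := LinearMap.range (α.baseChange κ)) |>.2 ?_ hv
    intro w hw
    refine ⟨(1 : κ) ⊗ₜ Pi.single (eb ⟨w, hw⟩) 1, ?_⟩
    rw [LinearMap.baseChange_tmul, Fintype.linearCombination_apply_single, one_smul]
    refine (hys _).trans ?_
    rw [Equiv.symm_apply_apply]

section Residue

variable {N : Type u} [AddCommGroup N] [Module S N] [Module R N] [IsScalarTower R S N]

/-- if the composite with localisation at `q` sends `x` into `rr N_q`, then `x` is in `rr S^r` -/
theorem mem_smul_of_localized (rr : Ideal R) [rr.IsPrime] [(rr.map (algebraMap R S)).IsPrime] (q : Ideal S)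
    [q.IsPrime] (hq : rr.map (algebraMap R S) ≤ q) {r : ℕ} (α : (Fin r → S) →ₗ[S] N)
    (hα : Function.Injective (α.baseChange (rr.map (algebraMap R S)).ResidueField)) (x : Fin r → S) (d : R)
    (hd : algebraMap R S d ∉ rr.map (algebraMap R S))
    (hx : d • LocalizedModule.mkLinearMap q.primeCompl N (α x) ∈
      rr • (⊤ : Submodule R (LocalizedModule q.primeCompl N))) :
    x ∈ rr • (⊤ : Submodule R (Fin r → S)) := by
  let ξ := rr.map (algebraMap R S)
  let κ := ξ.ResidueField
  let Mq := LocalizedModule q.primeCompl N
  let loc : N →ₗ[S] Mq := LocalizedModule.mkLinearMap q.primeCompl N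
  have hu : ∀ s : q.primeCompl, IsUnit (algebraMap S (Module.End S (κ ⊗[S] N)) s) := fun s => by
    have hsξ : algebraMap S κ (s : S) ≠ 0 := fun h0 => s.2 (hq (Ideal.algebraMap_residueField_eq_zero.1 h0))
    rw [Module.End.isUnit_iff]
    have : (algebraMap S (Module.End S (κ ⊗[S] N)) s : κ ⊗[S] N → κ ⊗[S] N)
        = fun y => algebraMap S κ (s : S) • y := by
      funext y; simp [Module.algebraMap_end_apply]
    rw [this]
    exact ⟨smul_right_injective _ hsξ, fun y => ⟨(algebraMap S κ (s : S))⁻¹ • y, smul_inv_smul₀ hsξ y⟩⟩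
  let φ : Mq →ₗ[S] κ ⊗[S] N := IsLocalizedModule.lift q.primeCompl loc (TensorProduct.mk S κ N 1) hu
  have hφ : ∀ y, y ∈ rr • (⊤ : Submodule R Mq) → φ y = 0 := fun y hy => by
    refine Submodule.smul_induction_on hy (fun a ha w _ => ?_) fun a b ha hb => by rw [map_add, ha, hb, add_zero]
    rw [← algebraMap_smul S a w, map_smul, ← algebraMap_smul κ (algebraMap R S a),
      (Ideal.algebraMap_residueField_eq_zero (I := ξ)).2 (Ideal.mem_map_of_mem _ ha), zero_smul]
  have hdκ : algebraMap S κ (algebraMap R S d) ≠ 0 := fun h0 =>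
    hd (Ideal.algebraMap_residueField_eq_zero.1 h0)
  have h2 : (1 : κ) ⊗ₜ[S] α x = 0 := by
    have h := hφ _ hx
    rw [← algebraMap_smul S d (loc (α x)), map_smul, ← algebraMap_smul κ (algebraMap R S d)] at h
    rw [← (smul_eq_zero.1 h).resolve_left hdκ]
    exact (IsLocalizedModule.lift_apply q.primeCompl loc (TensorProduct.mk S κ N 1) hu (α x)).symm
  have h3 : (1 : κ) ⊗ₜ[S] x = 0 := hα (by simpa using h2)
  have h4 : ∀ i, x i ∈ ξ := fun i => by
    have h := congrArg ((LinearMap.proj i).baseChange κ) h3
    rw [LinearMap.baseChange_tmul, map_zero] at h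
    have h' := congrArg (TensorProduct.rid S κ) h
    simp [Algebra.smul_def] at h'
    exact Ideal.algebraMap_residueField_eq_zero.1 h'
  rw [← Submodule.restrictScalars_top R S (Fin r → S), ← Ideal.smul_restrictScalars,
    Submodule.restrictScalars_mem, pi_eq_sum_univ' x]
  exact Submodule.sum_mem _ fun i _ => Submodule.smul_mem_smul (h4 i) trivial

theorem mem_smul_of_mem_map_smul {L M : Type u} [CommRing L] [Algebra R L] [AddCommGroup M] [Module R M] [Module L M]
    [IsScalarTower R L M] (I : Ideal R) {y : M}
    (hy : y ∈ I.map (algebraMap R L) • (⊤ : Submodule L M)) : y ∈ I • (⊤ : Submodule R M) := by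
  have : (I.map (algebraMap R L) • (⊤ : Submodule L M)).restrictScalars R = I • (⊤ : Submodule R M) := by
    rw [Ideal.smul_restrictScalars, Submodule.restrictScalars_top]
  exact this ▸ hy

/-- flatness at `q` makes a map bijective at the generic point injective there, with flat cokernel -/
theorem injective_and_flat_coker [Module.Projective R S] (rr : Ideal R) [rr.IsPrime]
    [hξ : (rr.map (algebraMap R S)).IsPrime] (q : Ideal S) [q.IsPrime] [q.LiesOver rr]
    (hflat : Module.Flat R (LocalizedModule q.primeCompl N)) {r : ℕ} (α : (Fin r → S) →ₗ[S] N)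
    (hα : Function.Injective (α.baseChange (rr.map (algebraMap R S)).ResidueField)) :
    (∀ x, α x = 0 → ∃ c ∉ rr, c • x = 0) ∧
      Module.Flat R (LocalizedModule q.primeCompl (N ⧸ LinearMap.range α)) := by
  let L := Localization.AtPrime rr
  let Mq := LocalizedModule q.primeCompl N
  let loc : N →ₗ[S] Mq := LocalizedModule.mkLinearMap q.primeCompl N
  let Sq := Localization.AtPrime q
  have hq : rr.map (algebraMap R S) ≤ q := Ideal.map_le_iff_le_comap.2 (Ideal.over_def q rr).le
  have hcomap := comap_map_prime' rr q
  have hcq : ∀ c : R, c ∉ rr → algebraMap R S c ∉ q := fun c hc h => hc (by rw [Ideal.over_def q rr]; exact h)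
  have huR : ∀ c : rr.primeCompl, IsUnit (algebraMap R Sq c) := fun c => by
    rw [IsScalarTower.algebraMap_apply R S Sq]
    exact IsLocalization.map_units Sq (⟨algebraMap R S c, hcq c c.2⟩ : q.primeCompl)
  letI : Algebra L Sq := (IsLocalization.lift (S := L) huR).toAlgebra
  haveI : IsScalarTower R L Sq := IsScalarTower.of_algebraMap_eq fun b => by
    rw [RingHom.algebraMap_toAlgebra, IsLocalization.lift_eq]
  letI : Module L Mq := Module.compHom Mq (algebraMap L Sq)
  haveI : IsScalarTower L Sq Mq := IsScalarTower.of_algebraMap_smul fun _ _ => rfl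
  haveI : IsScalarTower R L Mq := IsScalarTower.of_algebraMap_smul fun c y => by
    rw [← algebraMap_smul Sq (algebraMap R L c) y, ← IsScalarTower.algebraMap_apply R L Sq,
      IsScalarTower.algebraMap_apply R S Sq, algebraMap_smul, algebraMap_smul]
  haveI := hflat
  haveI : Module.Flat L Mq := (Module.flat_iff_of_isLocalization L rr.primeCompl Mq).2 inferInstance
  let X := Fin r → S
  haveI : Module.Projective R X := projective_pi _
  let v₀ : X →ₗ[R] Mq := (loc.comp α).restrictScalars R
  let v : L ⊗[R] X →ₗ[L] Mq := v₀.liftBaseChange L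
  haveI : IsLocalizedModule rr.primeCompl (TensorProduct.mk R L X 1) :=
    (isLocalizedModule_iff_isBaseChange rr.primeCompl L _).2 (TensorProduct.isBaseChange R X L)
  have hv : FlatCA.UnivInj L v := by
    refine RG.Loc.univInj_of_residue v fun m hm => ?_
    obtain rfl : m = IsLocalRing.maximalIdeal L := IsLocalRing.eq_maximalIdeal hm
    rw [injective_iff_map_eq_zero]
    intro z hz
    obtain ⟨w, rfl⟩ := TensorProduct.mk_surjective L (L ⊗[R] X) (L ⧸ IsLocalRing.maximalIdeal L)
      Ideal.Quotient.mk_surjective z
    rw [TensorProduct.mk_apply, LinearMap.lTensor_tmul] at hz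
    have h1 : v w ∈ IsLocalRing.maximalIdeal L • (⊤ : Submodule L Mq) := by
      simpa using congrArg (TensorProduct.quotTensorEquivQuotSMul Mq (IsLocalRing.maximalIdeal L)) hz
    obtain ⟨⟨x, c⟩, hc⟩ := IsLocalizedModule.surj rr.primeCompl (TensorProduct.mk R L X 1) w
    have hc' : (c : R) • w = (1 : L) ⊗ₜ[R] x := hc
    have h2 : (1 : R) • loc (α x) ∈ rr • (⊤ : Submodule R Mq) := by
      have h := Submodule.smul_mem _ (algebraMap R L (c : R)) h1
      rw [algebraMap_smul, ← LinearMap.map_smul_of_tower, hc',
        ← Localization.AtPrime.map_eq_maximalIdeal] at h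
      simpa [v, v₀] using mem_smul_of_mem_map_smul rr h
    have h3 := mem_smul_of_localized rr q hq α hα x 1
      (by rw [map_one]; exact fun h => hξ.ne_top ((Ideal.eq_top_iff_one _).2 h)) h2
    have h4 : w ∈ IsLocalRing.maximalIdeal L • (⊤ : Submodule L (L ⊗[R] X)) := by
      have h5 : (c : R) • w ∈ IsLocalRing.maximalIdeal L • (⊤ : Submodule L (L ⊗[R] X)) := by
        rw [hc', ← Localization.AtPrime.map_eq_maximalIdeal]
        refine Submodule.smul_induction_on h3 (fun a ha y _ => ?_) fun a b ha hb => by rw [tmul_add]; exact add_mem ha hb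
        rw [tmul_smul, ← algebraMap_smul L a]
        exact Submodule.smul_mem_smul (Ideal.mem_map_of_mem _ ha) trivial
      have hcu : IsUnit (algebraMap R L (c : R)) := IsLocalization.map_units L c
      rw [← algebraMap_smul L (c : R) w] at h5
      exact (Submodule.smul_mem_iff_of_isUnit _ hcu).1 h5
    refine (TensorProduct.quotTensorEquivQuotSMul (L ⊗[R] X) (IsLocalRing.maximalIdeal L)).injective ?_
    simpa using h4
  refine ⟨fun x hx => ?_, ?_⟩
  · have h1 : (1 : L) ⊗ₜ[R] x = 0 := by
      refine (TensorProduct.lid L (L ⊗[R] X)).symm.injective (hv L ?_)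
      simp [v, v₀]
      rw [show α x = 0 from hx]
      exact map_zero loc
    obtain ⟨⟨c, hc⟩, hcx⟩ := (IsLocalizedModule.eq_zero_iff rr.primeCompl (TensorProduct.mk R L X 1)).1 h1
    exact ⟨c, hc, hcx⟩
  · haveI hC : Module.Flat L (Mq ⧸ LinearMap.range v) := by
      refine FlatCx.flat_quotient_of_rTensor_injective (f := v) (g := (LinearMap.range v).mkQ)
        (LinearMap.exact_map_mkQ_range v) (Submodule.mkQ_surjective _) fun Q _ _ => ?_
      rw [← LinearMap.comm_comp_lTensor_comp_comm_eq]
      exact (TensorProduct.comm L Q Mq).injective.comp ((hv Q).comp (TensorProduct.comm L _ Q).injective)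
    -- the image of `v` is the `S`-submodule generated over the units by the image of `α`
    let P : Submodule S Mq :=
      { carrier := LinearMap.range v
        add_mem' := fun ha hb => add_mem ha hb
        zero_mem' := zero_mem _
        smul_mem' := fun s y hy => by
          obtain ⟨w, rfl⟩ := hy
          obtain ⟨⟨x, c⟩, hc⟩ := IsLocalizedModule.surj rr.primeCompl (TensorProduct.mk R L X 1) w
          have hcu : IsUnit (algebraMap R L (c : R)) := IsLocalization.map_units L c
          refine (Submodule.smul_mem_iff_of_isUnit (LinearMap.range v) hcu).1 ⟨(1 : L) ⊗ₜ[R] (s • x), ?_⟩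
          rw [algebraMap_smul, smul_comm (c : R) s, ← LinearMap.map_smul_of_tower,
            show (c : R) • w = (1 : L) ⊗ₜ[R] x from hc]
          simp [v, v₀] }
    have hP : ∀ y, y ∈ P ↔ y ∈ LinearMap.range v := fun y => Iff.rfl
    haveI : Module.Flat R (Mq ⧸ P) := by
      haveI : Module.Flat R (Mq ⧸ LinearMap.range v) := Module.Flat.trans R L _
      haveI : Module.Flat R (Mq ⧸ (LinearMap.range v).restrictScalars R) :=
        Module.Flat.of_linearEquiv (Submodule.Quotient.restrictScalarsEquiv R (LinearMap.range v))
      exact Module.Flat.of_linearEquiv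
        (Submodule.Quotient.equiv (P.restrictScalars R) ((LinearMap.range v).restrictScalars R) (LinearEquiv.refl R Mq)
          (by ext y; simp [hP]) :
          (Mq ⧸ P.restrictScalars R) ≃ₗ[R] (Mq ⧸ (LinearMap.range v).restrictScalars R))
    let g : (N ⧸ LinearMap.range α) →ₗ[S] LocalizedModule q.primeCompl (Mq ⧸ P) :=
      Submodule.liftQ _ ((LocalizedModule.mkLinearMap q.primeCompl (Mq ⧸ P)).comp (P.mkQ.comp loc))
        (by
          rintro _ ⟨x, rfl⟩
          rw [LinearMap.mem_ker, LinearMap.comp_apply, LinearMap.comp_apply, Submodule.mkQ_apply,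
            (Submodule.Quotient.mk_eq_zero P).2 ((hP _).2 ⟨(1 : L) ⊗ₜ[R] x, by simp [v, v₀]; rfl⟩), map_zero])
    haveI : IsLocalizedModule q.primeCompl g := by
      refine ⟨fun s => IsLocalizedModule.map_units (LocalizedModule.mkLinearMap q.primeCompl (Mq ⧸ P)) s, fun y => ?_,
        fun {x₁ x₂} he => ?_⟩
      · obtain ⟨⟨w, t⟩, hwt⟩ := IsLocalizedModule.surj q.primeCompl (LocalizedModule.mkLinearMap q.primeCompl (Mq ⧸ P)) y
        obtain ⟨w, rfl⟩ := Submodule.mkQ_surjective _ w
        obtain ⟨⟨x, s⟩, hxs⟩ := IsLocalizedModule.surj q.primeCompl loc w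
        refine ⟨(Submodule.Quotient.mk x, s * t), ?_⟩
        change (s * t) • y = LocalizedModule.mkLinearMap q.primeCompl (Mq ⧸ P) (P.mkQ (loc x))
        rw [show loc x = s • w from hxs.symm, mul_smul, show t • y = _ from hwt]
        simp only [Submonoid.smul_def, map_smul]
      · obtain ⟨x₁, rfl⟩ := Submodule.mkQ_surjective _ x₁
        obtain ⟨x₂, rfl⟩ := Submodule.mkQ_surjective _ x₂
        change LocalizedModule.mkLinearMap q.primeCompl (Mq ⧸ P) (P.mkQ (loc x₁)) =
          LocalizedModule.mkLinearMap q.primeCompl (Mq ⧸ P) (P.mkQ (loc x₂)) at he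
        obtain ⟨t, ht⟩ := IsLocalizedModule.exists_of_eq (S := q.primeCompl)
          (f := LocalizedModule.mkLinearMap q.primeCompl (Mq ⧸ P)) he
        have ht2 : P.mkQ ((t : S) • loc x₁ - (t : S) • loc x₂) = 0 := by
          rw [map_sub, map_smul, map_smul, sub_eq_zero]; exact ht
        rw [Submodule.mkQ_apply, Submodule.Quotient.mk_eq_zero, hP] at ht2
        obtain ⟨w, hw⟩ := ht2
        obtain ⟨⟨x, c⟩, hc⟩ := IsLocalizedModule.surj rr.primeCompl (TensorProduct.mk R L X 1) w
        have hy' : loc (α x) = loc (algebraMap R S (c : R) • ((t : S) • x₁ - (t : S) • x₂)) := by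
          rw [map_smul, map_sub, map_smul, map_smul, ← hw, algebraMap_smul, ← LinearMap.map_smul_of_tower,
            show (c : R) • w = (1 : L) ⊗ₜ[R] x from hc]
          simp [v, v₀]
          rfl
        obtain ⟨s, hs⟩ := IsLocalizedModule.exists_of_eq (S := q.primeCompl) (f := loc) hy'
        refine ⟨s * (⟨algebraMap R S (c : R), hcq c c.2⟩ * t), ?_⟩
        simp only [Submonoid.smul_def, Submodule.mkQ_apply, ← Submodule.Quotient.mk_smul, Submodule.Quotient.eq]
        refine ⟨(s : S) • x, ?_⟩
        rw [map_smul, Submonoid.coe_mul, Submonoid.coe_mul, mul_smul, mul_smul, mul_smul, mul_smul, ← smul_sub,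
          ← smul_sub]
        exact hs
    haveI : Module.Flat R (LocalizedModule q.primeCompl (Mq ⧸ P)) :=
      InjFibre.flat_localized q.primeCompl (LocalizedModule.mkLinearMap q.primeCompl (Mq ⧸ P))
    exact Module.Flat.of_linearEquiv ((IsLocalizedModule.iso q.primeCompl g).restrictScalars R)

end Residue

/-- an element not in the generic prime of the fibre is a nonzerodivisor after tensoring with modules over the prime -/
theorem fibre_smul_injective (hgi : FlatCA.GeomIntegralFibres R S) (K : Type u) [Field K] [Algebra R K] (h : S)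
    (P : Ideal S) [P.IsPrime] (hP : P.comap (algebraMap R S) = RingHom.ker (algebraMap R K)) (hh : h ∉ P) {r : ℕ}
    (z : (Fin r → S) ⊗[R] K) (hz : h • z = 0) : z = 0 := by
  haveI : (RingHom.ker (algebraMap R K)).IsPrime := RingHom.ker_isPrime _
  haveI : P.LiesOver (RingHom.ker (algebraMap R K)) := ⟨hP.symm⟩
  haveI : (⊥ : Ideal K).LiesOver (RingHom.ker (algebraMap R K)) := ⟨(RingHom.ker_eq_comap_bot _)⟩
  haveI := RG.Pure.isDomain_baseChange_field hgi K
  obtain ⟨Q, hQ, hQP, -⟩ := RG.Pure.exists_prime_both (RingHom.ker (algebraMap R K)) P (⊥ : Ideal K)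
  have hh0 : algebraMap S (S ⊗[R] K) h ≠ 0 := fun h0 => hh (by rw [← hQP, Ideal.mem_comap, h0]; exact zero_mem _)
  have hproj : ∀ i, (TensorProduct.AlgebraTensorModule.rTensor R K (LinearMap.proj (R := S) (φ := fun _ : Fin r => S) i)) z = 0 := by
    intro i
    have h1 := congrArg (TensorProduct.AlgebraTensorModule.rTensor R K (LinearMap.proj (R := S) (φ := fun _ : Fin r => S) i)) hz
    rw [map_smul, map_zero, Algebra.smul_def] at h1
    exact (mul_eq_zero.1 h1).resolve_left hh0
  have hdec : z = ∑ i, TensorProduct.AlgebraTensorModule.rTensor R K (LinearMap.single S (fun _ : Fin r => S) i)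
      (TensorProduct.AlgebraTensorModule.rTensor R K (LinearMap.proj (R := S) (φ := fun _ : Fin r => S) i) z) := by
    clear hz hproj
    induction z using TensorProduct.induction_on with
    | zero => simp
    | tmul x k =>
      simp only [TensorProduct.AlgebraTensorModule.rTensor_tmul, LinearMap.proj_apply, LinearMap.coe_single]
      rw [← TensorProduct.sum_tmul, Finset.univ_sum_single]
    | add x y hx hy => simp only [map_add, Finset.sum_add_distrib, ← hx, ← hy]
  rw [hdec]
  simp [hproj]

/-- multiplication by an element missing the generic points of the fibres over a basic open is universally injective -/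
theorem univInj_smul [Module.Projective R S] (hgi : FlatCA.GeomIntegralFibres R S) (L : Type u) [CommRing L]
    [Algebra R L] (h : S)
    (hL : ∀ (m : Ideal L) [m.IsMaximal], ∃ P : Ideal S, P.IsPrime ∧ P.comap (algebraMap R S) = m.comap (algebraMap R L) ∧ h ∉ P)
    (r k : ℕ) (Q : Type u) [AddCommGroup Q] [Module R Q] [Module L Q] [IsScalarTower R L Q] :
    Function.Injective (((LinearMap.lsmul S (Fin r → S) (h ^ k)).restrictScalars R).lTensor Q) := by
  haveI : Module.Projective R (Fin r → S) := projective_pi _
  have hU : FlatCA.UnivInj L (((LinearMap.lsmul S (Fin r → S) (h ^ k)).restrictScalars R).baseChange L) := by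
    refine RG.Loc.univInj_of_residue _ fun m hm => ?_
    rw [RG.Loc.injective_lTensor_baseChange_mod]
    haveI := hm
    letI := Ideal.Quotient.field m
    obtain ⟨P, hP, hPm, hhP⟩ := hL m
    have hker : RingHom.ker (algebraMap R (L ⧸ m)) = m.comap (algebraMap R L) := by
      ext x
      rw [RingHom.mem_ker, IsScalarTower.algebraMap_apply R L (L ⧸ m), Ideal.Quotient.algebraMap_eq,
        Ideal.Quotient.eq_zero_iff_mem, Ideal.mem_comap]
    rw [injective_iff_map_eq_zero]
    intro z hz
    refine (TensorProduct.comm R (L ⧸ m) (Fin r → S)).injective ?_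
    rw [map_zero]
    refine fibre_smul_injective hgi (L ⧸ m) (h ^ k) P (hPm.trans hker.symm) (fun hk => hhP (hP.mem_of_pow_mem k hk)) _ ?_
    have hc : ∀ w, (h ^ k) • TensorProduct.comm R (L ⧸ m) (Fin r → S) w =
        TensorProduct.comm R _ _ (((LinearMap.lsmul S (Fin r → S) (h ^ k)).restrictScalars R).lTensor (L ⧸ m) w) := fun w => by
      induction w using TensorProduct.induction_on with
      | zero => simp
      | tmul c x => simp [TensorProduct.smul_tmul']
      | add a b ha hb => simp only [map_add, smul_add, ha, hb]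
    rw [hc, hz, map_zero]
  have h1 := hU Q
  rwa [RG.Loc.injective_lTensor_baseChange_mod] at h1

/-- bijectivity after inverting elements missing no fibre makes the map universally injective -/
theorem univInj_of_bijective_localized [Module.Projective R S] (hgi : FlatCA.GeomIntegralFibres R S) (L : Type u) [CommRing L]
    [Algebra R L] {N : Type u} [AddCommGroup N] [Module S N] [Module R N] [IsScalarTower R S N] {r : ℕ}
    (α : (Fin r → S) →ₗ[S] N) (U : Submonoid S)
    (hbij : Function.Bijective (LocalizedModule.map U α))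
    (hL : ∀ h ∈ U, ∀ (m : Ideal L) [m.IsMaximal], ∃ P : Ideal S, P.IsPrime ∧ P.comap (algebraMap R S) = m.comap (algebraMap R L) ∧ h ∉ P)
    (Q : Type u) [AddCommGroup Q] [Module R Q] [Module L Q] [IsScalarTower R L Q] :
    Function.Injective ((α.restrictScalars R).lTensor Q) := by
  let X := Fin r → S
  let uX : X →ₗ[S] LocalizedModule U X := LocalizedModule.mkLinearMap U X
  let uN : N →ₗ[S] LocalizedModule U N := LocalizedModule.mkLinearMap U N
  have hu : Function.Injective ((uX.restrictScalars R).lTensor Q) := by
    rw [injective_iff_map_eq_zero]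
    intro z hz
    have hcomm : ∀ w, TensorProduct.AlgebraTensorModule.rTensor R Q uX (TensorProduct.comm R Q X w) =
        TensorProduct.comm R Q _ ((uX.restrictScalars R).lTensor Q w) := fun w => by
      induction w using TensorProduct.induction_on with
      | zero => simp
      | tmul c x => simp
      | add a b ha hb => simp only [map_add, ha, hb]
    have h0 : TensorProduct.AlgebraTensorModule.rTensor R Q uX (TensorProduct.comm R Q X z) = 0 := by
      rw [hcomm, hz, map_zero]
    obtain ⟨⟨u, hu'⟩, hk⟩ :=
      (IsLocalizedModule.eq_zero_iff U (TensorProduct.AlgebraTensorModule.rTensor R Q uX)).1 h0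
    refine univInj_smul hgi L u (hL u hu') r 1 Q ?_
    rw [map_zero]
    refine (TensorProduct.comm R Q X).injective ?_
    rw [map_zero, pow_one, ← show u • TensorProduct.comm R Q X z = 0 from hk]
    clear hk hz h0
    induction z using TensorProduct.induction_on with
    | zero => simp
    | tmul c x => simp [TensorProduct.smul_tmul']
    | add a b ha hb => simp only [map_add, smul_add, ha, hb]
  let e := LinearEquiv.ofBijective (LocalizedModule.map U α) hbij
  have hfac : ((e.toLinearMap.restrictScalars R).comp (uX.restrictScalars R)) =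
      (uN.restrictScalars R).comp (α.restrictScalars R) := LinearMap.ext fun x => by
    exact LocalizedModule.map_mk U α x 1
  have h1 : Function.Injective (((e.toLinearMap.restrictScalars R).comp (uX.restrictScalars R)).lTensor Q) := by
    rw [LinearMap.lTensor_comp]
    exact ((e.restrictScalars R).lTensor Q).injective.comp hu
  rw [hfac, LinearMap.lTensor_comp] at h1
  exact Function.Injective.of_comp h1

/-- bijectivity after inverting `h` makes the map universally injective where `h` misses no fibre -/
theorem univInj_of_bijective_away [Module.Projective R S] (hgi : FlatCA.GeomIntegralFibres R S) (L : Type u) [CommRing L]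
    [Algebra R L] {N : Type u} [AddCommGroup N] [Module S N] [Module R N] [IsScalarTower R S N] {r : ℕ}
    (α : (Fin r → S) →ₗ[S] N) (h : S)
    (hbij : Function.Bijective (LocalizedModule.map (Submonoid.powers h) α))
    (hL : ∀ (m : Ideal L) [m.IsMaximal], ∃ P : Ideal S, P.IsPrime ∧ P.comap (algebraMap R S) = m.comap (algebraMap R L) ∧ h ∉ P)
    (Q : Type u) [AddCommGroup Q] [Module R Q] [Module L Q] [IsScalarTower R L Q] :
    Function.Injective ((α.restrictScalars R).lTensor Q) :=
  univInj_of_bijective_localized hgi L α (Submonoid.powers h) hbij (fun u hu m hm => by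
    obtain ⟨k, rfl⟩ := hu
    obtain ⟨P, hP, hPm, hhP⟩ := hL m
    exact ⟨P, hP, hPm, fun hk => hhP (hP.mem_of_pow_mem k hk)⟩) Q

/-- universal injectivity of a localised map -/
theorem univInj_map (U : Submonoid R) {X N : Type u} [AddCommGroup X] [Module S X] [Module R X] [IsScalarTower R S X]
    [AddCommGroup N] [Module S N] [Module R N] [IsScalarTower R S N] (α : X →ₗ[S] N)
    (h : ∀ (Q : Type u) [AddCommGroup Q] [Module R Q] [Module (Localization U) Q] [IsScalarTower R (Localization U) Q],
      Function.Injective ((α.restrictScalars R).lTensor Q)) :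
    FlatCA.UnivInj R ((LocalizedModule.map (Algebra.algebraMapSubmonoid S U) α).restrictScalars R) := by
  intro Q _ _
  let L := Localization U
  let UC := Algebra.algebraMapSubmonoid S U
  let uX : X →ₗ[R] LocalizedModule UC X := (LocalizedModule.mkLinearMap UC X).restrictScalars R
  let uN : N →ₗ[R] LocalizedModule UC N := (LocalizedModule.mkLinearMap UC N).restrictScalars R
  haveI : IsLocalizedModule U uX := IsLocalizedModule.restrictScalars _ _
  haveI : IsLocalizedModule U uN := IsLocalizedModule.restrictScalars _ _
  haveI : IsLocalizedModule U (TensorProduct.mk R L X 1) :=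
    (isLocalizedModule_iff_isBaseChange U L _).2 (TensorProduct.isBaseChange R X L)
  haveI : IsLocalizedModule U (TensorProduct.mk R L N 1) :=
    (isLocalizedModule_iff_isBaseChange U L _).2 (TensorProduct.isBaseChange R N L)
  let eX : L ⊗[R] X ≃ₗ[R] LocalizedModule UC X := IsLocalizedModule.linearEquiv U (TensorProduct.mk R L X 1) uX
  let eN : L ⊗[R] N ≃ₗ[R] LocalizedModule UC N := IsLocalizedModule.linearEquiv U (TensorProduct.mk R L N 1) uN
  let mC := (LocalizedModule.map UC α).restrictScalars R
  have hcomm : mC.comp eX.toLinearMap = eN.toLinearMap.comp ((α.restrictScalars R).lTensor L) := by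
    refine IsLocalizedModule.ext U (TensorProduct.mk R L X 1)
      (fun s => IsLocalizedModule.map_units uN s) (LinearMap.ext fun x => ?_)
    have e1 : eX ((1 : L) ⊗ₜ[R] x) = uX x :=
      IsLocalizedModule.linearEquiv_apply U (TensorProduct.mk R L X 1) uX x
    have e2 : eN ((1 : L) ⊗ₜ[R] α x) = uN (α x) :=
      IsLocalizedModule.linearEquiv_apply U (TensorProduct.mk R L N 1) uN (α x)
    change mC (eX ((1 : L) ⊗ₜ[R] x)) = eN (((α.restrictScalars R).lTensor L) ((1 : L) ⊗ₜ[R] x))
    rw [LinearMap.lTensor_tmul, e1]
    refine Eq.trans ?_ e2.symm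
    exact LocalizedModule.map_mk UC α x 1
  have h1 : Function.Injective (((α.restrictScalars R).lTensor L).lTensor Q) := by
    intro a b hab
    let ΦX : Q ⊗[R] (L ⊗[R] X) ≃ₗ[R] (L ⊗[R] Q) ⊗[R] X :=
      (TensorProduct.assoc R Q L X).symm ≪≫ₗ (TensorProduct.comm R Q L).rTensor X
    let ΦN : Q ⊗[R] (L ⊗[R] N) ≃ₗ[R] (L ⊗[R] Q) ⊗[R] N :=
      (TensorProduct.assoc R Q L N).symm ≪≫ₗ (TensorProduct.comm R Q L).rTensor N
    refine ΦX.injective ((h (L ⊗[R] Q)) ?_)
    have hc : ∀ w, (α.restrictScalars R).lTensor (L ⊗[R] Q) (ΦX w) =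
        ΦN (((α.restrictScalars R).lTensor L).lTensor Q w) := fun w => by
      induction w using TensorProduct.induction_on with
      | zero => simp
      | tmul c x =>
        induction x using TensorProduct.induction_on with
        | zero => simp
        | tmul l y => simp [ΦX, ΦN]
        | add a b ha hb => simp only [tmul_add, map_add, ha, hb]
      | add a b ha hb => simp only [map_add, ha, hb]
    rw [hc, hc, hab]
  have h2 : Function.Injective ((mC.comp eX.toLinearMap).lTensor Q) := by
    rw [hcomm, LinearMap.lTensor_comp]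
    exact (eN.lTensor Q).injective.comp h1
  intro a b hab
  obtain ⟨a, rfl⟩ := (eX.lTensor Q).surjective a
  obtain ⟨b, rfl⟩ := (eX.lTensor Q).surjective b
  congr 1
  refine h2 ?_
  rw [LinearMap.lTensor_comp]
  exact hab

end Groth.Agent.RG.Dev
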