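import Groth.Agent.GeomConn.Pieces
import Groth.Agent.GeomConn.Basic
import Groth.Prelude

/-!
# Components through points with purely transcendental residue field are geometrically connected
-/

set_option autoImplicit false

universe u

open CategoryTheory AlgebraicGeometry Limits TopologicalSpace

namespace Groth.Agent.RGDev

/-- In a purely transcendental extension an algebraic element is a constant. -/
theorem mem_range_of_isAlgebraic {K L ι : Type u} [Field K] [Field L] [Algebra K L] {x : ι → L}
    (hx : AlgebraicIndependent K x) (htop : IntermediateField.adjoin K (Set.range x) = ⊤) {a : L}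
    (ha : IsAlgebraic K a) : a ∈ Set.range (algebraMap K L) := by
  let P := MvPolynomial ι K
  let Q := FractionRing P
  let e : Q ≃ₐ[K] L :=
    hx.aevalEquivField.trans ((IntermediateField.equivOfEq htop).trans IntermediateField.topEquiv)
  have hb : IsAlgebraic K (e.symm a) := ha.algHom e.symm.toAlgHom
  obtain ⟨c, hc⟩ := IsIntegrallyClosed.isIntegral_iff.1 (hb.isIntegral.tower_top (A := P))
  have hc' : IsAlgebraic K c := by
    rw [← isAlgebraic_algebraMap_iff (IsFractionRing.injective P Q), hc]; exact hb
  by_cases h0 : c = 0
  · refine ⟨0, ?_⟩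
    rw [map_zero, ← e.apply_symm_apply a, ← hc, h0, map_zero, map_zero]
  obtain ⟨r, hr, hdvd⟩ := hc'.exists_nonzero_dvd (mem_nonZeroDivisors_iff_ne_zero.2 h0)
  have hu : IsUnit c := isUnit_of_dvd_unit hdvd ((isUnit_iff_ne_zero.2 hr).map _)
  obtain ⟨t, -, rfl⟩ := MvPolynomial.isUnit_iff_eq_C_of_isReduced.1 hu
  refine ⟨t, ?_⟩
  rw [← e.apply_symm_apply a, ← hc, ← MvPolynomial.algebraMap_eq, ← IsScalarTower.algebraMap_apply, e.commutes]

/-- A field in which the base is separably closed is geometrically connected over it. -/
theorem geometricallyConnected_Spec_primary {k F : Type u} [Field k] [Field F] [Algebra k F]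
    (h : separableClosure k F = ⊥) : GeometricallyConnected (Spec.map (CommRingCat.ofHom (algebraMap k F))) := by
  let f := Spec.map (CommRingCat.ofHom (algebraMap k F))
  have hirr := GeomConn.irreducibleSpace_pullback_primary (K := AlgebraicClosure k) h
  refine ⟨geometrically_iff_of_commRing.2 fun K _ _ Z fst snd hZ => ?_⟩
  have h1 : _root_.IsConnected
      ((pullback.fst f (Spec.map (CommRingCat.ofHom (algebraMap k (AlgebraicClosure k))))).base ⁻¹'
        (Set.univ : Set ↥(Spec (CommRingCat.of F)))) := by
    rw [Set.preimage_univ]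
    exact isConnected_univ
  have h2 := GeomConn.isConnected_preimage_of_algClosure (K := K) f h1
  rw [Set.preimage_univ] at h2
  haveI : ConnectedSpace ↥(pullback f (Spec.map (CommRingCat.ofHom (algebraMap k K)))) :=
    connectedSpace_iff_univ.2 h2
  exact hZ.isoPullback.hom.homeomorph.connectedSpace_iff.2 ‹_›

/-- The component through a point whose residue field has the base separably closed in it is
geometrically connected. -/
theorem geometricallyConnected_component {k F : Type u} [Field k] [Field F] [Algebra k F]
    (hF : separableClosure k F = ⊥) {X : Scheme.{u}} (f : X ⟶ Spec (CommRingCat.of k))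
    (m : Spec (CommRingCat.of F) ⟶ X) (hm : m ≫ f = Spec.map (CommRingCat.ofHom (algebraMap k F)))
    (x : Spec (CommRingCat.of F)) (T : X.Opens) (hT : (T : Set X) = connectedComponent (m x)) :
    GeometricallyConnected (T.ι ≫ f) := by
  haveI := geometricallyConnected_Spec_primary hF
  refine ⟨geometrically_iff_of_commRing.2 fun K _ _ Z fst snd hZ => ?_⟩
  let w := Spec.map (CommRingCat.ofHom (algebraMap k K))
  have h1 := GeomConn.isConnected_preimage_connectedComponent (K := K) f _ m hm x
  rw [← hT] at h1
  let j : pullback (T.ι ≫ f) w ⟶ pullback f w :=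
    pullback.map _ _ _ _ T.ι (𝟙 _) (𝟙 _) (Category.comp_id _) (by simp)
  have hr : Set.range j = (pullback.fst f w).base ⁻¹' (T : Set X) := by
    rw [Scheme.Pullback.range_map, T.range_ι]
    ext z
    exact ⟨fun h => h.1, fun h => ⟨h, ⟨_, rfl⟩⟩⟩
  haveI : ConnectedSpace ↥(pullback (T.ι ≫ f) w) := by
    have h2 : _root_.IsConnected (Set.range j) := hr ▸ h1
    obtain ⟨_, y, rfl⟩ := h2.nonempty
    haveI : Nonempty ↥(pullback (T.ι ≫ f) w) := ⟨y⟩
    haveI : PreconnectedSpace ↥(pullback (T.ι ≫ f) w) := by
      refine ⟨?_⟩
      rw [← j.isEmbedding.isInducing.isPreconnected_image, Set.image_univ]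
      exact h2.isPreconnected
    exact { toNonempty := inferInstance }
  exact hZ.isoPullback.hom.homeomorph.connectedSpace_iff.2 ‹_›

/-- Pure transcendence makes the fraction field of the base separably closed in the residue field. -/
theorem separableClosure_eq_bot_of_purelyTranscendental {R P : Type u} [CommRing R] [CommRing P] [Algebra R P]
    (p : Ideal R) [p.IsPrime] (y : Ideal P) [y.IsPrime] [y.LiesOver p] (h : FlatCA.PurelyTranscendental p y)
    (k : Type u) [Field k] [Algebra k y.ResidueField] (e : k ≃+* p.ResidueField)
    (he : ∀ c, algebraMap k y.ResidueField c =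
      Ideal.ResidueField.mapₐ p y (Algebra.ofId R P) (y.over_def p) (e c)) :
    separableClosure k y.ResidueField = ⊥ := by
  let L := y.ResidueField
  letI : Algebra p.ResidueField L :=
    (Ideal.ResidueField.mapₐ p y (Algebra.ofId R P) (y.over_def p)).toRingHom.toAlgebra
  letI : Algebra k p.ResidueField := e.toRingHom.toAlgebra
  haveI : IsScalarTower k p.ResidueField L := IsScalarTower.of_algebraMap_eq he
  obtain ⟨ι, x, hx, htop⟩ := h
  rw [eq_bot_iff]
  intro a ha
  have halg : IsAlgebraic k a := (mem_separableClosure_iff.1 ha).isIntegral.isAlgebraic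
  obtain ⟨c, hc⟩ := mem_range_of_isAlgebraic hx.1 htop (halg.tower_top p.ResidueField)
  refine IntermediateField.mem_bot.2 ⟨e.symm c, ?_⟩
  rw [← hc, IsScalarTower.algebraMap_apply k p.ResidueField L]
  congr 1
  exact e.apply_symm_apply c

end Groth.Agent.RGDev
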