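import Mathlib
import Groth.Prelude
import Groth.Agent.S6284

set_option autoImplicit false

universe u
open TensorProduct

namespace Groth.Agent.RG.Dev.FibreBij

theorem localDim_homeo {α β : Type*} [TopologicalSpace α] [TopologicalSpace β] (e : α ≃ₜ β) (a : α) :
    FlatMor.localDim β (e a) = FlatMor.localDim α a := by
  refine le_antisymm (le_iInf fun O => ?_) (le_iInf fun O => ?_)
  · refine (iInf_le _ ⟨⟨e '' (O.1 : Set α), e.isOpen_image.2 O.1.2⟩, Set.mem_image_of_mem e O.2⟩).trans ?_
    exact le_of_eq (e.image (O.1 : Set α)).isHomeomorph.topologicalKrullDim_eq.symm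
  · refine (iInf_le _ ⟨⟨e ⁻¹' (O.1 : Set β), O.1.2.preimage e.continuous⟩, O.2⟩).trans ?_
    refine le_of_eq ((e.image (e ⁻¹' (O.1 : Set β))).isHomeomorph.topologicalKrullDim_eq.trans ?_)
    rw [Set.image_preimage_eq _ e.surjective]

/-- transcendence bases are preserved by isomorphisms of the base and the extension -/
theorem transcendenceBasis_map {k K k' K' ι : Type*} [Field k] [Field K] [Field k'] [Field K'] [Algebra k K]
    [Algebra k' K'] (e : k ≃+* k') (f : K ≃+* K')
    (h : (algebraMap k' K').comp (e : k →+* k') = (f : K →+* K').comp (algebraMap k K)) {x : ι → K}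
    (hx : IsTranscendenceBasis k x) : IsTranscendenceBasis k' (f ∘ x) := by
  refine ⟨(algebraicIndependent_ringHom_iff_of_comp_eq e f f.injective h).2 hx.1, fun s hs hsub => ?_⟩
  have h2 : AlgebraicIndepOn k id (f.symm '' s) := by
    refine AlgebraicIndependent.of_ringHom_of_comp_eq (S := k') e f ?_ e.injective h
    have := hs.comp (fun a : ↥(f.symm '' s) => (⟨f a, by obtain ⟨b, hb, hab⟩ := a.2; rw [← hab, f.apply_symm_apply]; exact hb⟩ : s))
      (fun a b hab => Subtype.ext (f.injective (Subtype.ext_iff.1 hab)))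
    exact this
  have h3 := hx.2 _ h2 (by
    rintro _ ⟨i, rfl⟩
    exact ⟨f (x i), hsub ⟨i, rfl⟩, f.symm_apply_apply _⟩)
  rw [Set.range_comp, h3]
  simp [Set.image_image]

variable {R : Type u} [CommRing R] {R' : Type u} [CommRing R'] [Algebra R R'] (p : Ideal R) [p.IsPrime]
  (p' : Ideal R') [p'.IsPrime] [hp' : p'.LiesOver p]
  (hκ : Function.Bijective (Ideal.ResidueField.mapₐ p p' (Algebra.ofId R R') hp'.over))
  {S S' : Type u} [CommRing S] [CommRing S'] [Algebra R S] [Algebra R' S'] [Algebra R S'] [Algebra S S']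
  [IsScalarTower R R' S'] [IsScalarTower R S S'] [Algebra.IsPushout R R' S S']

include hκ in
/-- the fibre ring is unchanged -/
theorem exists_fiber_equiv : ∃ e : p.Fiber S ≃+* p'.Fiber S', ∀ s : S,
    e ((1 : p.ResidueField) ⊗ₜ[R] s) = (1 : p'.ResidueField) ⊗ₜ[R'] algebraMap S S' s := by
  haveI : Algebra.IsPushout R S R' S' := Algebra.IsPushout.symm inferInstance
  letI : Algebra S (p'.Fiber S') :=
    ((Algebra.TensorProduct.includeRight (R := R') (A := p'.ResidueField) (B := S')).toRingHom.comp (algebraMap S S')).toAlgebra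
  letI : Algebra S' (p'.Fiber S') := Algebra.TensorProduct.rightAlgebra
  haveI : IsScalarTower S S' (p'.Fiber S') := IsScalarTower.of_algebraMap_eq fun _ => rfl
  haveI : IsScalarTower R S' (p'.Fiber S') := IsScalarTower.of_algebraMap_eq fun r => by
    rw [IsScalarTower.algebraMap_apply R R' S', ← IsScalarTower.algebraMap_apply R' S' (p'.Fiber S'),
      ← IsScalarTower.algebraMap_apply R R' (p'.Fiber S')]
  haveI : IsScalarTower R S (p'.Fiber S') := IsScalarTower.of_algebraMap_eq fun r => by
    rw [IsScalarTower.algebraMap_apply S S' (p'.Fiber S'), ← IsScalarTower.algebraMap_apply R S S',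
      ← IsScalarTower.algebraMap_apply R S' (p'.Fiber S')]
  haveI : Algebra.IsPushout R p'.ResidueField S (p'.Fiber S') :=
    (Algebra.IsPushout.comp_iff R R' S S' (T := p'.ResidueField) (T' := p'.Fiber S')).2 inferInstance
  let eK : p.ResidueField ≃ₐ[R] p'.ResidueField := AlgEquiv.ofBijective _ hκ
  let e := (Algebra.TensorProduct.congr eK (AlgEquiv.refl (R := R) (A₁ := S))).trans
    ((Algebra.IsPushout.equiv R p'.ResidueField S (p'.Fiber S')).restrictScalars R)
  refine ⟨e.toRingEquiv, fun s => ?_⟩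
  show Algebra.IsPushout.equiv R p'.ResidueField S (p'.Fiber S') (eK 1 ⊗ₜ[R] s) = _
  rw [Algebra.IsPushout.equiv_tmul, map_one, map_one, one_mul]
  rfl

theorem fiber_point_ext {q₁ q₂ : PrimeSpectrum (p.Fiber S)}
    (h : q₁.asIdeal.comap (Algebra.TensorProduct.includeRight (R := R) (A := p.ResidueField) (B := S)).toRingHom =
      q₂.asIdeal.comap (Algebra.TensorProduct.includeRight (R := R) (A := p.ResidueField) (B := S)).toRingHom) :
    q₁ = q₂ :=
  (PrimeSpectrum.primesOverOrderIsoFiber R S p).symm.injective (Subtype.ext h)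

theorem exists_fiber_point (q : Ideal S) [q.IsPrime] [q.LiesOver p] : ∃ P : PrimeSpectrum (p.Fiber S),
    P.asIdeal.comap (Algebra.TensorProduct.includeRight (R := R) (A := p.ResidueField) (B := S)).toRingHom = q :=
  ⟨PrimeSpectrum.primesOverOrderIsoFiber R S p ⟨q, ‹_›, ‹_›⟩,
    congrArg Subtype.val ((PrimeSpectrum.primesOverOrderIsoFiber R S p).symm_apply_apply ⟨q, ‹_›, ‹_›⟩)⟩

omit hκ hp' in
theorem comap_equiv_comp {e : p.Fiber S ≃+* p'.Fiber S'}
    (he : ∀ s : S, e ((1 : p.ResidueField) ⊗ₜ[R] s) = (1 : p'.ResidueField) ⊗ₜ[R'] algebraMap S S' s)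
    (Q : Ideal (p'.Fiber S')) :
    (Q.comap (e : p.Fiber S →+* p'.Fiber S')).comap
        (Algebra.TensorProduct.includeRight (R := R) (A := p.ResidueField) (B := S)).toRingHom =
      (Q.comap (Algebra.TensorProduct.includeRight (R := R') (A := p'.ResidueField) (B := S')).toRingHom).comap
        (algebraMap S S') := by
  ext s
  simp only [Ideal.mem_comap]
  exact iff_of_eq (congrArg (· ∈ Q) (he s))

include hκ in
/-- the prime over a prime of `S` and the prime of the base is unique -/
theorem eq_of_liesOver (q : Ideal S) (q₁ q₂ : Ideal S') [q₁.IsPrime] [q₂.IsPrime] [q₁.LiesOver p'] [q₂.LiesOver p']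
    (h1 : q₁.LiesOver q) (h2 : q₂.LiesOver q) : q₁ = q₂ := by
  obtain ⟨e, he⟩ := exists_fiber_equiv (S := S) (S' := S') p p' hκ
  obtain ⟨P₁, hP₁⟩ := exists_fiber_point p' q₁
  obtain ⟨P₂, hP₂⟩ := exists_fiber_point p' q₂
  have : PrimeSpectrum.comap (e : p.Fiber S →+* p'.Fiber S') P₁ = PrimeSpectrum.comap (e : p.Fiber S →+* p'.Fiber S') P₂ := by
    refine fiber_point_ext p ?_
    rw [PrimeSpectrum.comap_asIdeal, PrimeSpectrum.comap_asIdeal, comap_equiv_comp p p' he, comap_equiv_comp p p' he,
      hP₁, hP₂]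
    exact h1.over.symm.trans h2.over
  have := PrimeSpectrum.comap_injective_of_surjective _ e.surjective this
  rw [← hP₁, ← hP₂, this]

include hκ in
/-- a prime over a prime of `S` exists -/
theorem exists_liesOver (q : Ideal S) [q.IsPrime] [q.LiesOver p] :
    ∃ q' : Ideal S', q'.IsPrime ∧ q'.LiesOver p' ∧ q'.LiesOver q := by
  obtain ⟨e, he⟩ := exists_fiber_equiv (S := S) (S' := S') p p' hκ
  obtain ⟨P, hP⟩ := exists_fiber_point p q
  let P' := PrimeSpectrum.comap (e.symm : p'.Fiber S' →+* p.Fiber S) P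
  obtain ⟨⟨q', hq1, hq2⟩, hq⟩ := (PrimeSpectrum.primesOverOrderIsoFiber R' S' p').surjective P'
  refine ⟨q', hq1, hq2, ⟨?_⟩⟩
  have h := congrArg Subtype.val ((PrimeSpectrum.primesOverOrderIsoFiber R' S' p').symm_apply_apply ⟨q', hq1, hq2⟩)
  rw [hq] at h
  change P'.asIdeal.comap _ = q' at h
  rw [Ideal.under, ← h, ← hP]
  have := comap_equiv_comp p p' he P'.asIdeal
  refine Eq.trans ?_ this
  congr 1
  ext a
  simp [P']

include hκ in
/-- the residue field is unchanged -/
theorem residue_bijective (q : Ideal S) [q.IsPrime] [q.LiesOver p] (q' : Ideal S') [q'.IsPrime] [q'.LiesOver p']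
    [hq' : q'.LiesOver q] :
    Function.Bijective (Ideal.ResidueField.map q q' (algebraMap S S') hq'.over) := by
  set m := Ideal.ResidueField.map q q' (algebraMap S S') hq'.over
  have key : ∀ x : S', algebraMap S' q'.ResidueField x ∈ m.range := by
    intro x
    refine (Algebra.IsPushout.out (R := R) (S := R') (R' := S) (S' := S')).inductionOn x (fun y => algebraMap S' q'.ResidueField y ∈ m.range) ?_ ?_ ?_ ?_
    · rw [map_zero]; exact zero_mem _
    · intro s
      exact ⟨algebraMap S q.ResidueField s, Ideal.ResidueField.map_algebraMap ..⟩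
    · intro r y hy
      rw [Algebra.smul_def, map_mul]
      refine mul_mem ?_ hy
      obtain ⟨a, ha⟩ := hκ.2 (algebraMap R' p'.ResidueField r)
      refine ⟨Ideal.ResidueField.mapₐ p q (Algebra.ofId R S) (Ideal.LiesOver.over (p := p) (P := q)) a, ?_⟩
      rw [← IsScalarTower.algebraMap_apply R' S' q'.ResidueField]
      let n' := Ideal.ResidueField.map p' q' (algebraMap R' S') (Ideal.LiesOver.over (p := p') (P := q'))
      have h1 : n' (algebraMap R' p'.ResidueField r) = algebraMap R' q'.ResidueField r := by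
        rw [Ideal.ResidueField.map_algebraMap, ← IsScalarTower.algebraMap_apply]
      rw [← h1, ← ha]
      refine RingHom.congr_fun (f := m.comp (Ideal.ResidueField.mapₐ p q (Algebra.ofId R S) _).toRingHom)
        (g := n'.comp (Ideal.ResidueField.mapₐ p p' (Algebra.ofId R R') hp'.over).toRingHom) ?_ a
      refine Ideal.ResidueField.ringHom_ext ?_
      ext r
      simp [m, n', ← IsScalarTower.algebraMap_apply]
      rw [IsScalarTower.algebraMap_apply R S q.ResidueField, Ideal.ResidueField.map_algebraMap,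
        IsScalarTower.algebraMap_apply R R' p'.ResidueField, Ideal.ResidueField.map_algebraMap,
        ← IsScalarTower.algebraMap_apply R S S', ← IsScalarTower.algebraMap_apply R' S' q'.ResidueField,
        ← IsScalarTower.algebraMap_apply R R' q'.ResidueField, ← IsScalarTower.algebraMap_apply R S' q'.ResidueField]
    · intro a b ha hb
      rw [map_add]; exact add_mem ha hb
  refine ⟨m.injective, fun y => ?_⟩
  obtain ⟨a, b, hb, rfl⟩ := IsFractionRing.div_surjective (S' ⧸ q') y
  obtain ⟨a, rfl⟩ := Ideal.Quotient.mk_surjective a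
  obtain ⟨b, rfl⟩ := Ideal.Quotient.mk_surjective b
  obtain ⟨u, hu⟩ := key a
  obtain ⟨v, hv⟩ := key b
  exact ⟨u / v, by rw [map_div₀, hu, hv]; rfl⟩

include hκ in
theorem purelyTranscendental (q : Ideal S) [q.IsPrime] [q.LiesOver p] (q' : Ideal S') [q'.IsPrime] [q'.LiesOver p']
    [hq' : q'.LiesOver q] (h : FlatCA.PurelyTranscendental p q) : FlatCA.PurelyTranscendental p' q' := by
  obtain ⟨ι, x, hx, hgen⟩ := h
  letI : Algebra p.ResidueField q.ResidueField :=
    (Ideal.ResidueField.mapₐ p q (Algebra.ofId R S) (Ideal.LiesOver.over (p := p) (P := q))).toRingHom.toAlgebra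
  letI : Algebra p'.ResidueField q'.ResidueField :=
    (Ideal.ResidueField.mapₐ p' q' (Algebra.ofId R' S') (Ideal.LiesOver.over (p := p') (P := q'))).toRingHom.toAlgebra
  let e := RingEquiv.ofBijective (Ideal.ResidueField.mapₐ p p' (Algebra.ofId R R') hp'.over).toRingHom hκ
  let f := RingEquiv.ofBijective (Ideal.ResidueField.map q q' (algebraMap S S') hq'.over)
    (residue_bijective p p' hκ q q')
  have hef : (algebraMap p'.ResidueField q'.ResidueField).comp (e : p.ResidueField →+* p'.ResidueField) =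
      (f : q.ResidueField →+* q'.ResidueField).comp (algebraMap p.ResidueField q.ResidueField) := by
    refine Ideal.ResidueField.ringHom_ext ?_
    ext r
    simp [e, f, RingHom.algebraMap_toAlgebra, ← IsScalarTower.algebraMap_apply]
    rw [IsScalarTower.algebraMap_apply R S q.ResidueField, Ideal.ResidueField.map_algebraMap,
      ← IsScalarTower.algebraMap_apply R S S', ← IsScalarTower.algebraMap_apply R S' q'.ResidueField]
  refine ⟨ι, f ∘ x, transcendenceBasis_map e f hef hx, ?_⟩
  refine IntermediateField.toSubfield_injective ?_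
  have h0 := congrArg IntermediateField.toSubfield hgen
  rw [IntermediateField.adjoin_toSubfield, IntermediateField.top_toSubfield] at h0 ⊢
  have := congrArg (Subfield.map (f : q.ResidueField →+* q'.ResidueField)) h0
  have htop : (f : q.ResidueField →+* q'.ResidueField).fieldRange = ⊤ :=
    SetLike.coe_injective ((RingHom.coe_fieldRange _).trans (Set.range_eq_univ.2 f.surjective))
  rw [RingHom.map_field_closure, ← RingHom.fieldRange_eq_map, htop, Set.image_union] at this
  rw [← this, Set.range_comp]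
  congr 2
  rw [← Set.range_comp, ← RingHom.coe_comp, ← hef, RingHom.coe_comp, Set.range_comp]
  rw [show Set.range (e : p.ResidueField →+* p'.ResidueField) = Set.univ from Set.range_eq_univ.2 e.surjective,
    Set.image_univ]

include hκ in
/-- fibre point, its ideal, and the local dimension of the support of the fibre module -/
theorem localDim_support (N : Type u) [AddCommGroup N] [Module S N] [Module.Finite S N]
    (N' : Type u) [AddCommGroup N'] [Module S' N'] [Module S N'] [IsScalarTower S S' N'] (f : N →ₗ[S] N')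
    (hf : IsBaseChange S' f) (q : Ideal S) [q.LiesOver p] (q' : Ideal S') [q'.IsPrime] [q'.LiesOver p']
    [q'.LiesOver q] (n : WithBot ℕ∞)
    (h1 : ∃ (ξ : PrimeSpectrum (p.Fiber S)) (hξ : ξ ∈ Module.support (p.Fiber S) (FlatCA.fiberMod p S N)),
      ξ.asIdeal = FlatCA.fiberIdeal p q ∧
      FlatMor.localDim (Module.support (p.Fiber S) (FlatCA.fiberMod p S N)) ⟨ξ, hξ⟩ = n) :
    ∃ (ξ' : PrimeSpectrum (p'.Fiber S')) (hξ' : ξ' ∈ Module.support (p'.Fiber S') (FlatCA.fiberMod p' S' N')),
      ξ'.asIdeal = FlatCA.fiberIdeal p' q' ∧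
      FlatMor.localDim (Module.support (p'.Fiber S') (FlatCA.fiberMod p' S' N')) ⟨ξ', hξ'⟩ = n := by
  obtain ⟨ξ, hξ, hideal, hdim⟩ := h1
  obtain ⟨e, he⟩ := exists_fiber_equiv (S := S) (S' := S') p p' hκ
  letI : Algebra S (p.Fiber S) := Algebra.TensorProduct.rightAlgebra
  letI : Algebra S' (p'.Fiber S') := Algebra.TensorProduct.rightAlgebra
  haveI : Module.Finite S' N' := Module.Finite.equiv hf.equiv
  have hN' : Module.support S' N' = PrimeSpectrum.comap (algebraMap S S') ⁻¹' Module.support S N := by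
    rw [← hf.equiv.support_eq]; exact S6284.result N
  have hsupp : Module.support (p'.Fiber S') (FlatCA.fiberMod p' S' N') =
      (PrimeSpectrum.comapEquiv e).symm ⁻¹' Module.support (p.Fiber S) (FlatCA.fiberMod p S N) := by
    rw [show Module.support (p'.Fiber S') (FlatCA.fiberMod p' S' N') = _ from S6284.result N',
      show Module.support (p.Fiber S) (FlatCA.fiberMod p S N) = _ from S6284.result N, hN']
    ext P
    simp only [Set.mem_preimage]
    refine iff_of_eq (congrArg (· ∈ Module.support S N) (PrimeSpectrum.ext ?_))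
    exact (comap_equiv_comp p p' he P.asIdeal).symm
  let E : ↥(Module.support (p.Fiber S) (FlatCA.fiberMod p S N)) ≃ₜ
      ↥(Module.support (p'.Fiber S') (FlatCA.fiberMod p' S' N')) :=
    (((PrimeSpectrum.homeomorphOfRingEquiv e).image _).trans (Homeomorph.setCongr (by
      rw [hsupp]
      ext P
      constructor
      · rintro ⟨Q, hQ, rfl⟩
        show PrimeSpectrum.comap (e : p.Fiber S →+* p'.Fiber S') (PrimeSpectrum.comap (e.symm : p'.Fiber S' →+* p.Fiber S) Q) ∈ Module.support (p.Fiber S) (FlatCA.fiberMod p S N)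
        rw [show PrimeSpectrum.comap (e : p.Fiber S →+* p'.Fiber S') (PrimeSpectrum.comap (e.symm : p'.Fiber S' →+* p.Fiber S) Q) = Q from
          (PrimeSpectrum.comapEquiv e).symm_apply_apply Q]
        exact hQ
      · intro hP
        exact ⟨_, hP, (PrimeSpectrum.comapEquiv e).apply_symm_apply P⟩)))
  refine ⟨(E ⟨ξ, hξ⟩).1, (E ⟨ξ, hξ⟩).2, ?_, (localDim_homeo E ⟨ξ, hξ⟩).trans hdim⟩
  set Q := (E ⟨ξ, hξ⟩).1.asIdeal with hQ
  have hQ1 : Q = ξ.asIdeal.comap (e.symm : p'.Fiber S' →+* p.Fiber S) := rfl
  have hle : FlatCA.fiberIdeal p' q' ≤ Q := by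
    have h2 : (Q.comap (Algebra.TensorProduct.includeRight (R := R') (A := p'.ResidueField) (B := S')).toRingHom) = q' := by
      haveI : (Q.comap (Algebra.TensorProduct.includeRight (R := R') (A := p'.ResidueField) (B := S')).toRingHom).LiesOver p' :=
        ((PrimeSpectrum.primesOverOrderIsoFiber R' S' p').symm (E ⟨ξ, hξ⟩).1).2.2
      obtain ⟨P, hP⟩ := exists_fiber_point p' q'
      refine eq_of_liesOver p p' hκ q _ q' ⟨?_⟩ inferInstance
      rw [Ideal.under, ← comap_equiv_comp p p' he Q, hQ1, Ideal.comap_comap (f := (e : p.Fiber S →+* p'.Fiber S'))]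
      rw [show ((e.symm : p'.Fiber S' →+* p.Fiber S).comp (e : p.Fiber S →+* p'.Fiber S')) = RingHom.id _ from
        RingHom.ext fun a => e.symm_apply_apply a, Ideal.comap_id, hideal]
      refine le_antisymm Ideal.le_comap_map ?_
      intro s hs
      obtain ⟨P₀, hP₀⟩ := exists_fiber_point p' q'
      have hq0 : FlatCA.fiberIdeal p q ≤ P₀.asIdeal.comap (e : p.Fiber S →+* p'.Fiber S') := by
        rw [FlatCA.fiberIdeal, Ideal.map_le_iff_le_comap, comap_equiv_comp p p' he, hP₀]
        exact (Ideal.LiesOver.over (p := q) (P := q')).le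
      have hs' := hq0 hs
      rw [Ideal.LiesOver.over (p := q) (P := q'), Ideal.under, ← hP₀, ← comap_equiv_comp p p' he]
      exact hs'
    rw [FlatCA.fiberIdeal, Ideal.map_le_iff_le_comap, h2]
  refine le_antisymm ?_ hle
  rw [hQ1, hideal, FlatCA.fiberIdeal]
  refine (Ideal.comap_symm e).le.trans ?_
  rw [Ideal.map_le_iff_le_comap, Ideal.map_le_iff_le_comap]
  intro s hs
  rw [Ideal.mem_comap, Ideal.mem_comap]
  show e ((1 : p.ResidueField) ⊗ₜ[R] s) ∈ _
  rw [he s]
  refine Ideal.mem_map_of_mem _ ?_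
  rw [Ideal.LiesOver.over (p := q) (P := q')] at hs
  exact hs

end Groth.Agent.RG.Dev.FibreBij
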