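import Mathlib
import Groth.Prelude
import Groth.Agent.S6284
import Groth.Agent.RG.Dev.FibreBij

/-!
Standard shrinking of a one-step dévissage: the geometric and topological inputs.
-/

set_option autoImplicit false

universe u
open TensorProduct

namespace Groth.Agent.RG.Dev.Shrink

open Topology

theorem supportDim_eq_topological {A M : Type u} [CommRing A] [AddCommGroup M] [Module A M] [Module.Finite A M] :
    Module.supportDim A M = topologicalKrullDim ↥(Module.support A M) := by
  rw [Module.supportDim_eq_ringKrullDim_quotient_annihilator, ← PrimeSpectrum.topologicalKrullDim_eq_ringKrullDim]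
  have he := PrimeSpectrum.isClosedEmbedding_comap_of_surjective (A ⧸ Module.annihilator A M)
    (Ideal.Quotient.mk (Module.annihilator A M)) Ideal.Quotient.mk_surjective
  refine (he.isEmbedding.toHomeomorph.trans (Homeomorph.setCongr ?_)).isHomeomorph.topologicalKrullDim_eq
  rw [range_comap_of_surjective _ _ Ideal.Quotient.mk_surjective, Ideal.mk_ker, Module.support_eq_zeroLocus]

theorem localDim_open {X Y : Type*} [TopologicalSpace X] [TopologicalSpace Y] {e : X → Y} (he : IsOpenEmbedding e)
    (x : X) : FlatMor.localDim Y (e x) = FlatMor.localDim X x := by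
  refine le_antisymm (le_iInf fun O => ?_) (le_iInf fun O => ?_)
  · refine (iInf_le _ ⟨⟨e '' (O.1 : Set X), he.isOpenMap _ O.1.2⟩, Set.mem_image_of_mem e O.2⟩).trans (le_of_eq ?_)
    exact (he.isEmbedding.homeomorphImage (O.1 : Set X)).isHomeomorph.topologicalKrullDim_eq.symm
  · refine (iInf_le _ ⟨⟨e ⁻¹' (O.1 : Set Y), O.1.2.preimage he.continuous⟩, O.2⟩).trans ?_
    exact ((he.isEmbedding.comp IsEmbedding.subtypeVal).codRestrict (O.1 : Set Y) fun a => a.2).isInducing.topologicalKrullDim_le

section Fibre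

variable {R S : Type u} [CommRing R] [CommRing S] [Algebra R S] (p : Ideal R) [p.IsPrime]

theorem fiberIdeal_eq (P : PrimeSpectrum (p.Fiber S)) :
    FlatCA.fiberIdeal p (P.asIdeal.comap
      (Algebra.TensorProduct.includeRight (R := R) (A := p.ResidueField) (B := S)).toRingHom) = P.asIdeal := by
  refine le_antisymm Ideal.map_comap_le fun z hz => ?_
  obtain ⟨c, hc, s, hs⟩ := Ideal.Fiber.exists_smul_eq_one_tmul p z
  have hs' : (1 : p.ResidueField) ⊗ₜ[R] s ∈ P.asIdeal := by
    rw [← hs, Algebra.smul_def]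
    exact Ideal.mul_mem_left _ _ hz
  have hu : IsUnit (algebraMap R (p.Fiber S) c) := by
    rw [IsScalarTower.algebraMap_apply R p.ResidueField (p.Fiber S)]
    exact (isUnit_iff_ne_zero.2 (fun h => hc (Ideal.algebraMap_residueField_eq_zero.1 h))).map _
  have h2 : (1 : p.ResidueField) ⊗ₜ[R] s ∈ FlatCA.fiberIdeal p (P.asIdeal.comap
      (Algebra.TensorProduct.includeRight (R := R) (A := p.ResidueField) (B := S)).toRingHom) :=
    Ideal.mem_map_of_mem _ (Ideal.mem_comap.2 hs')
  rw [← hs, Algebra.smul_def] at h2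
  exact (Ideal.unit_mul_mem_iff_mem _ hu).1 h2

variable (S) in
/-- the projection of the fibre -/
noncomputable def proj : PrimeSpectrum (p.Fiber S) → PrimeSpectrum S :=
  PrimeSpectrum.comap (Algebra.TensorProduct.includeRight (R := R) (A := p.ResidueField) (B := S)).toRingHom

theorem proj_isEmbedding : IsEmbedding (proj S p) :=
  IsEmbedding.subtypeVal.comp (PrimeSpectrum.preimageHomeomorphFiber R S ⟨p, ‹_›⟩).symm.isEmbedding

theorem range_proj : Set.range (proj S p) = PrimeSpectrum.comap (algebraMap R S) ⁻¹' {⟨p, ‹_›⟩} := by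
  refine Set.ext fun P => ⟨?_, fun hP => ?_⟩
  · rintro ⟨Q, rfl⟩
    exact ((PrimeSpectrum.preimageHomeomorphFiber R S ⟨p, ‹_›⟩).symm Q).2
  · exact ⟨PrimeSpectrum.preimageHomeomorphFiber R S ⟨p, ‹_›⟩ ⟨P, hP⟩,
      congrArg Subtype.val ((PrimeSpectrum.preimageHomeomorphFiber R S ⟨p, ‹_›⟩).symm_apply_apply ⟨P, hP⟩)⟩

attribute [local instance] Algebra.TensorProduct.rightAlgebra in
theorem support_fiberMod (N : Type u) [AddCommGroup N] [Module S N] [Module.Finite S N] :
    Module.support (p.Fiber S) (FlatCA.fiberMod p S N) = proj S p ⁻¹' Module.support S N :=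
  S6284.result N

/-- the support of the fibre module as a subspace of the spectrum -/
noncomputable def supportHomeo (N : Type u) [AddCommGroup N] [Module S N] [Module.Finite S N] :
    ↥(Module.support (p.Fiber S) (FlatCA.fiberMod p S N)) ≃ₜ
      ↥(PrimeSpectrum.comap (algebraMap R S) ⁻¹' {⟨p, ‹_›⟩} ∩ Module.support S N) :=
  ((proj_isEmbedding p).homeomorphImage _).trans (Homeomorph.setCongr (by
    rw [support_fiberMod, Set.image_preimage_eq_range_inter, range_proj]))

theorem supportHomeo_val (N : Type u) [AddCommGroup N] [Module S N] [Module.Finite S N]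
    (ξ : ↥(Module.support (p.Fiber S) (FlatCA.fiberMod p S N))) : (supportHomeo p N ξ).1 = proj S p ξ.1 :=
  rfl

theorem finite_fiberMod (N : Type u) [AddCommGroup N] [Module S N] [Module.Finite S N] :
    Module.Finite (p.Fiber S) (FlatCA.fiberMod p S N) := by
  letI : Algebra S (p.Fiber S) := Algebra.TensorProduct.rightAlgebra
  exact (inferInstance : Module.Finite (p.Fiber S) ((p.Fiber S) ⊗[S] N))

variable {R' S' : Type u} [CommRing R'] [CommRing S'] [Algebra R R'] [Algebra R' S'] [Algebra S S'] [Algebra R S']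
  [IsScalarTower R R' S'] [IsScalarTower R S S'] (gR : R) [IsLocalization.Away gR R'] (hS : S)
  [IsLocalization.Away hS S'] (p' : Ideal R') [p'.IsPrime] [hp' : p'.LiesOver p]

include gR hS hp' in
/-- local dimension and dimension of the support of the fibre module after shrinking -/
theorem support_shrink (N : Type u) [AddCommGroup N] [Module S N] [Module.Finite S N]
    (N' : Type u) [AddCommGroup N'] [Module S' N'] [Module S N'] [IsScalarTower S S' N'] (f : N →ₗ[S] N')
    (hf : IsBaseChange S' f) (q : Ideal S) [q.IsPrime] (q' : Ideal S') [q'.IsPrime] [q'.LiesOver p']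
    (hq : q'.comap (algebraMap S S') = q) (n : WithBot ℕ∞)
    (h1 : ∃ (ξ : PrimeSpectrum (p.Fiber S)) (hξ : ξ ∈ Module.support (p.Fiber S) (FlatCA.fiberMod p S N)),
      ξ.asIdeal = FlatCA.fiberIdeal p q ∧
      FlatMor.localDim (Module.support (p.Fiber S) (FlatCA.fiberMod p S N)) ⟨ξ, hξ⟩ = n) :
    (∃ (ξ' : PrimeSpectrum (p'.Fiber S')) (hξ' : ξ' ∈ Module.support (p'.Fiber S') (FlatCA.fiberMod p' S' N')),
      ξ'.asIdeal = FlatCA.fiberIdeal p' q' ∧
      FlatMor.localDim (Module.support (p'.Fiber S') (FlatCA.fiberMod p' S' N')) ⟨ξ', hξ'⟩ = n) ∧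
    (Module.supportDim (p.Fiber S) (FlatCA.fiberMod p S N) = n →
      Module.supportDim (p'.Fiber S') (FlatCA.fiberMod p' S' N') = n) := by
  haveI : Module.Finite S' N' := Module.Finite.equiv hf.equiv
  haveI := finite_fiberMod (S := S) p N
  haveI := finite_fiberMod (S := S') p' N'
  let T := PrimeSpectrum.comap (algebraMap R S) ⁻¹' {⟨p, ‹_›⟩} ∩ Module.support S N
  let T' := PrimeSpectrum.comap (algebraMap R' S') ⁻¹' {⟨p', ‹_›⟩} ∩ Module.support S' N'
  let ι := PrimeSpectrum.comap (algebraMap S S')
  have hι : IsOpenEmbedding ι := PrimeSpectrum.localization_away_isOpenEmbedding S' hS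
  have hN' : Module.support S' N' = ι ⁻¹' Module.support S N := by
    rw [← hf.equiv.support_eq]; exact S6284.result N
  have hT : T' = ι ⁻¹' T := by
    ext P
    simp only [T, T', Set.mem_inter_iff, Set.mem_preimage, Set.mem_singleton_iff, hN', ι]
    refine and_congr_left fun _ => ?_
    rw [← PrimeSpectrum.comap_comp_apply, ← IsScalarTower.algebraMap_eq R S S', IsScalarTower.algebraMap_eq R R' S',
      PrimeSpectrum.comap_comp_apply]
    have hp0 : PrimeSpectrum.comap (algebraMap R R') ⟨p', ‹_›⟩ = ⟨p, ‹_›⟩ := PrimeSpectrum.ext hp'.over.symm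
    refine ⟨fun h => by rw [h, hp0], fun h => PrimeSpectrum.localization_comap_injective R' (Submonoid.powers gR) ?_⟩
    rw [h, hp0]
  let e : ↥T' → ↥T := fun P => ⟨ι P.1, hT.le P.2⟩
  have he : IsOpenEmbedding e := by
    refine ⟨(hι.isEmbedding.comp IsEmbedding.subtypeVal).codRestrict T _, ?_⟩
    have : Set.range e = Subtype.val ⁻¹' Set.range ι := by
      ext P
      refine ⟨?_, ?_⟩
      · rintro ⟨Q, rfl⟩; exact ⟨Q.1, rfl⟩
      · rintro ⟨Q, hQ⟩; exact ⟨⟨Q, hT ▸ (show ι Q ∈ T from hQ ▸ P.2)⟩, Subtype.ext hQ⟩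
    rw [this]
    exact hι.isOpen_range.preimage continuous_subtype_val
  obtain ⟨ξ, hξ, hideal, hloc⟩ := h1
  let τ := supportHomeo p N ⟨ξ, hξ⟩
  have hξq : ξ.asIdeal.comap (Algebra.TensorProduct.includeRight (R := R) (A := p.ResidueField) (B := S)).toRingHom = q := by
    have hqmem : (⟨q, ‹_›⟩ : PrimeSpectrum S) ∈ Set.range (proj S p) := by
      rw [range_proj]
      refine PrimeSpectrum.ext ?_
      show q.comap (algebraMap R S) = p
      rw [← hq, Ideal.comap_comap, ← IsScalarTower.algebraMap_eq, IsScalarTower.algebraMap_eq R R' S', ← Ideal.comap_comap]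
      exact (congrArg (Ideal.comap (algebraMap R R')) (Ideal.LiesOver.over (p := p') (P := q')).symm).trans hp'.over.symm
    obtain ⟨P, hP⟩ := hqmem
    have hPq : P.asIdeal.comap (Algebra.TensorProduct.includeRight (R := R) (A := p.ResidueField) (B := S)).toRingHom = q :=
      congrArg PrimeSpectrum.asIdeal hP
    have : ξ = P := PrimeSpectrum.ext (by rw [hideal, ← fiberIdeal_eq p P, hPq])
    rw [this, hPq]
  have hq'T : (⟨q', ‹_›⟩ : PrimeSpectrum S') ∈ T' := by
    rw [hT]
    have : ι ⟨q', ‹_›⟩ = τ.1 := PrimeSpectrum.ext (hq.trans hξq.symm)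
    rw [Set.mem_preimage, this]
    exact τ.2
  let ξ' := (supportHomeo p' N').symm ⟨_, hq'T⟩
  have hξ' : proj S' p' ξ'.1 = ⟨q', ‹_›⟩ := by
    rw [← supportHomeo_val p' N' ξ', Homeomorph.apply_symm_apply]
  have hideal' : ξ'.1.asIdeal = FlatCA.fiberIdeal p' q' := by
    rw [← fiberIdeal_eq p' ξ'.1]
    have h0 := congrArg PrimeSpectrum.asIdeal hξ'
    simp only [proj, PrimeSpectrum.comap_asIdeal] at h0
    rw [h0]
  have hloc' : FlatMor.localDim (Module.support (p'.Fiber S') (FlatCA.fiberMod p' S' N')) ⟨ξ'.1, ξ'.2⟩ = n := by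
    rw [← FibreBij.localDim_homeo (supportHomeo p' N') ⟨ξ'.1, ξ'.2⟩]
    rw [Subtype.coe_eta, Homeomorph.apply_symm_apply, ← localDim_open he]
    have : e ⟨_, hq'T⟩ = τ := Subtype.ext (PrimeSpectrum.ext (hq.trans hξq.symm))
    rw [this, FibreBij.localDim_homeo]
    exact hloc
  refine ⟨⟨ξ'.1, ξ'.2, hideal', hloc'⟩, fun hdim => le_antisymm ?_ ?_⟩
  · rw [← hdim, supportDim_eq_topological, supportDim_eq_topological,
      (supportHomeo p' N').isHomeomorph.topologicalKrullDim_eq, (supportHomeo p N).isHomeomorph.topologicalKrullDim_eq]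
    exact he.isEmbedding.isInducing.topologicalKrullDim_le
  · rw [← hloc', supportDim_eq_topological]
    exact (iInf_le _ ⟨⊤, trivial⟩).trans IsInducing.subtypeVal.topologicalKrullDim_le

end Fibre

/-- a localisation does not change residue fields -/
theorem residue_bijective {S S' : Type u} [CommRing S] [CommRing S'] [Algebra S S'] (M : Submonoid S)
    [IsLocalization M S'] (q : Ideal S) [q.IsPrime] (q' : Ideal S') [q'.IsPrime] (hq : q = q'.comap (algebraMap S S')) :
    Function.Bijective (Ideal.ResidueField.map q q' (algebraMap S S') hq) := by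
  set m := Ideal.ResidueField.map q q' (algebraMap S S') hq
  have key : ∀ x : S', algebraMap S' q'.ResidueField x ∈ m.fieldRange := fun x => by
    obtain ⟨⟨a, u⟩, hau⟩ := IsLocalization.surj M x
    have hu : algebraMap S' q'.ResidueField (algebraMap S S' u) ≠ 0 := fun h =>
      ‹q'.IsPrime›.ne_top (Ideal.eq_top_of_isUnit_mem _ (Ideal.algebraMap_residueField_eq_zero.1 h)
        (IsLocalization.map_units S' u))
    have h := congrArg (algebraMap S' q'.ResidueField) hau
    rw [map_mul] at h
    rw [eq_div_of_mul_eq hu h]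
    exact div_mem ⟨algebraMap S q.ResidueField a, Ideal.ResidueField.map_algebraMap ..⟩
      ⟨algebraMap S q.ResidueField u, Ideal.ResidueField.map_algebraMap ..⟩
  refine ⟨m.injective, fun y => ?_⟩
  obtain ⟨a, b, hb, rfl⟩ := IsFractionRing.div_surjective (S' ⧸ q') y
  obtain ⟨a, rfl⟩ := Ideal.Quotient.mk_surjective a
  obtain ⟨b, rfl⟩ := Ideal.Quotient.mk_surjective b
  exact div_mem (key a) (key b)

/-- pure transcendence is preserved when residue fields are unchanged -/
theorem purelyTranscendental_of_bijective {R S R' S' : Type u} [CommRing R] [CommRing S] [CommRing R'] [CommRing S']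
    [Algebra R S] [Algebra R' S'] [Algebra R R'] [Algebra S S'] [Algebra R S'] [IsScalarTower R R' S']
    [IsScalarTower R S S'] (p : Ideal R) [p.IsPrime] (q : Ideal S) [q.IsPrime] [hqp : q.LiesOver p]
    (p' : Ideal R') [p'.IsPrime] (q' : Ideal S') [q'.IsPrime] [hqp' : q'.LiesOver p']
    (hp : p = p'.comap (algebraMap R R')) (hq : q = q'.comap (algebraMap S S'))
    (hbp : Function.Bijective (Ideal.ResidueField.map p p' (algebraMap R R') hp))
    (hbq : Function.Bijective (Ideal.ResidueField.map q q' (algebraMap S S') hq))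
    (h : FlatCA.PurelyTranscendental p q) : FlatCA.PurelyTranscendental p' q' := by
  obtain ⟨ι, x, hx, hgen⟩ := h
  letI : Algebra p.ResidueField q.ResidueField :=
    (Ideal.ResidueField.mapₐ p q (Algebra.ofId R S) hqp.over).toRingHom.toAlgebra
  letI : Algebra p'.ResidueField q'.ResidueField :=
    (Ideal.ResidueField.mapₐ p' q' (Algebra.ofId R' S') hqp'.over).toRingHom.toAlgebra
  let e := RingEquiv.ofBijective _ hbp
  let f := RingEquiv.ofBijective _ hbq
  have hef : (algebraMap p'.ResidueField q'.ResidueField).comp (e : p.ResidueField →+* p'.ResidueField) =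
      (f : q.ResidueField →+* q'.ResidueField).comp (algebraMap p.ResidueField q.ResidueField) := by
    refine Ideal.ResidueField.ringHom_ext ?_
    ext r
    simp [e, f, RingHom.algebraMap_toAlgebra, ← IsScalarTower.algebraMap_apply]
    rw [IsScalarTower.algebraMap_apply R S q.ResidueField, Ideal.ResidueField.map_algebraMap,
      ← IsScalarTower.algebraMap_apply R S S', ← IsScalarTower.algebraMap_apply R S' q'.ResidueField]
  refine ⟨ι, f ∘ x, FibreBij.transcendenceBasis_map e f hef hx, ?_⟩
  refine IntermediateField.toSubfield_injective ?_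
  have h0 := congrArg IntermediateField.toSubfield hgen
  rw [IntermediateField.adjoin_toSubfield, IntermediateField.top_toSubfield] at h0 ⊢
  have := congrArg (Subfield.map (f : q.ResidueField →+* q'.ResidueField)) h0
  have htop : (f : q.ResidueField →+* q'.ResidueField).fieldRange = ⊤ :=
    SetLike.coe_injective ((RingHom.coe_fieldRange _).trans (Set.range_eq_univ.2 f.surjective))
  rw [RingHom.map_field_closure, ← RingHom.fieldRange_eq_map, htop, Set.image_union] at this
  rw [← this, Set.range_comp]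
  congr 2
  rw [← Set.range_comp, ← RingHom.coe_comp, ← hef, RingHom.coe_comp, Set.range_comp]
  rw [show Set.range (e : p.ResidueField →+* p'.ResidueField) = Set.univ from Set.range_eq_univ.2 e.surjective,
    Set.image_univ]

/-- the base can be shrunk to the image of a basic open -/
theorem exists_g {R D : Type u} [CommRing R] [CommRing D] [Algebra R D] [Algebra.Smooth R D] (p : Ideal R) [p.IsPrime]
    (y : Ideal D) [y.IsPrime] [y.LiesOver p] (w : D) (hw : w ∉ y) :
    ∃ g : R, g ∉ p ∧ ∀ P : PrimeSpectrum R, g ∉ P.asIdeal →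
      ∃ Q : PrimeSpectrum D, w ∉ Q.asIdeal ∧ Q.asIdeal.comap (algebraMap R D) = P.asIdeal := by
  haveI : Module.Flat R D := Algebra.Smooth.flat R D
  have hopen : IsOpenMap (PrimeSpectrum.comap (algebraMap R D)) :=
    PrimeSpectrum.isOpenMap_comap_of_hasGoingDown_of_finitePresentation
  have hU := hopen _ (PrimeSpectrum.basicOpen w).isOpen
  have hpU : (⟨p, ‹_›⟩ : PrimeSpectrum R) ∈ PrimeSpectrum.comap (algebraMap R D) '' (PrimeSpectrum.basicOpen w : Set _) :=
    ⟨⟨y, ‹_›⟩, hw, PrimeSpectrum.ext (Ideal.LiesOver.over (p := p) (P := y)).symm⟩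
  obtain ⟨_, ⟨g, rfl⟩, hpg, hsub⟩ :=
    PrimeSpectrum.isTopologicalBasis_basic_opens.exists_subset_of_mem_open hpU hU
  refine ⟨g, hpg, fun P hP => ?_⟩
  obtain ⟨Q, hQ, hQP⟩ := hsub hP
  exact ⟨Q, hQ, congrArg PrimeSpectrum.asIdeal hQP⟩

open CategoryTheory CategoryTheory.Limits AlgebraicGeometry in
/-- a principal open meeting all fibres of a geometrically irreducible algebra -/
theorem geomIrred_shrink {R D R' D' : Type u} [CommRing R] [CommRing D] [Algebra R D] [CommRing R'] [CommRing D']
    [Algebra R R'] [Algebra D D'] [Algebra R' D'] [Algebra R D'] [IsScalarTower R R' D'] [IsScalarTower R D D']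
    (g : R) [IsLocalization.Away g R'] (b : D) [IsLocalization.Away b D'] (h : FlatCA.GeomIrredFibres R D)
    (hsurj : Function.Surjective (PrimeSpectrum.comap (algebraMap R' D'))) : FlatCA.GeomIrredFibres R' D' := by
  let f := Spec.map (CommRingCat.ofHom (algebraMap R D))
  let f' := Spec.map (CommRingCat.ofHom (algebraMap R' D'))
  let ι := Spec.map (CommRingCat.ofHom (algebraMap R R'))
  let j := Spec.map (CommRingCat.ofHom (algebraMap D D'))
  haveI : IsOpenImmersion ι := IsOpenImmersion.of_isLocalization g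
  haveI : IsOpenImmersion j := IsOpenImmersion.of_isLocalization b
  haveI hf' : AlgebraicGeometry.Surjective f' := ⟨hsurj⟩
  haveI : GeometricallyIrreducible f := h
  have hsq : f' ≫ ι = j ≫ f := by
    rw [← Spec.map_comp, ← Spec.map_comp, ← CommRingCat.ofHom_comp, ← CommRingCat.ofHom_comp,
      ← IsScalarTower.algebraMap_eq, ← IsScalarTower.algebraMap_eq]
  refine ⟨fun K _ y W fst snd hp => ?_⟩
  let P := pullback f (y ≫ ι)
  haveI hP : IrreducibleSpace ↥P :=
    GeometricallyIrreducible.geometrically_irreducibleSpace (f := f) _ _ _ (IsPullback.of_hasPullback _ _)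
  have hp2 : IsPullback fst snd (j ≫ f) (y ≫ ι) := by
    rw [← hsq]
    exact ⟨⟨by rw [← Category.assoc, hp.w, Category.assoc]⟩, ⟨PullbackCone.isLimitOfCompMono f' y ι _ hp.isLimit⟩⟩
  let k : W ⟶ P := pullback.lift (fst ≫ j) snd (by rw [Category.assoc]; exact hp2.w)
  have hk : IsPullback fst k j (pullback.fst f (y ≫ ι)) :=
    IsPullback.of_bot (by simp only [k]; rw [pullback.lift_snd]; exact hp2) (pullback.lift_fst _ _ _).symm (IsPullback.of_hasPullback f (y ≫ ι))
  haveI : IsOpenImmersion k := MorphismProperty.of_isPullback hk inferInstance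
  haveI : AlgebraicGeometry.Surjective snd := MorphismProperty.of_isPullback hp ‹_›
  haveI : Nonempty ↥W := by
    obtain ⟨w, -⟩ := snd.surjective (Classical.arbitrary _)
    exact ⟨w⟩
  let e := k.isOpenEmbedding
  show IrreducibleSpace ↥W
  rw [irreducibleSpace_def]
  refine ⟨Set.univ_nonempty, ?_⟩
  have := (IrreducibleSpace.isIrreducible_univ ↥P).2.preimage e
  simpa using this

end Groth.Agent.RG.Dev.Shrink
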