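import Mathlib
import Groth.Prelude

/-!
Tools for the shrinking of complete dévissages.
-/

set_option autoImplicit false

universe u
open TensorProduct CategoryTheory

namespace Groth.Agent.RG.Dev.Shrink

/-- modules which are base changes below `n` -/
structure GlueMod (n : ℕ) (A' A : ℕ → Type u) [∀ i, CommRing (A' i)] [∀ i, CommRing (A i)] (M : ℕ → Type u)
    [∀ i, AddCommGroup (M i)] [∀ i, Module (A i) (M i)] [∀ i : Fin n, Algebra (A i) (A' i)] : Type (u + 1) where
  M' : ℕ → Type u
  [gM : ∀ i, AddCommGroup (M' i)]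
  [mM : ∀ i, Module (A' i) (M' i)]
  mA : ∀ i : Fin n, Module (A i) (M' i)
  tA : ∀ i : Fin n, letI := mA i; IsScalarTower (A i) (A' i) (M' i)
  g : ∀ i : Fin n, letI := mA i; M i →ₗ[A i] M' i
  hg : ∀ i : Fin n, letI := mA i; letI := tA i; IsBaseChange (A' i) (g i)

attribute [instance] GlueMod.gM GlueMod.mM

theorem exists_glueMod (n : ℕ) (A' A : ℕ → Type u) [∀ i, CommRing (A' i)] [∀ i, CommRing (A i)] (M : ℕ → Type u)
    [∀ i, AddCommGroup (M i)] [∀ i, Module (A i) (M i)] [∀ i : Fin n, Algebra (A i) (A' i)] :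
    Nonempty (GlueMod n A' A M) := by
  classical
  have key : ∀ i : ℕ, ∃ (X : Type u) (_ : AddCommGroup X) (_ : Module (A' i) X), ∀ h : i < n,
      letI : Algebra (A i) (A' i) := (inferInstance : Algebra (A (⟨i, h⟩ : Fin n)) (A' (⟨i, h⟩ : Fin n)))
      ∃ (_ : Module (A i) X) (_ : IsScalarTower (A i) (A' i) X) (g : M i →ₗ[A i] X), IsBaseChange (A' i) g := by
    intro i
    by_cases h : i < n
    · letI : Algebra (A i) (A' i) := (inferInstance : Algebra (A (⟨i, h⟩ : Fin n)) (A' (⟨i, h⟩ : Fin n)))
      exact ⟨A' i ⊗[A i] M i, inferInstance, inferInstance, fun _ => ⟨inferInstance, inferInstance,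
        TensorProduct.mk (A i) (A' i) (M i) 1, TensorProduct.isBaseChange (A i) (M i) (A' i)⟩⟩
    · exact ⟨PUnit, inferInstance, inferInstance, fun h' => absurd h' h⟩
  choose X gX mX key using key
  choose mA tA g hg using fun j : Fin n => key j j.2
  exact ⟨{ M' := X, mA := mA, tA := tA, g := g, hg := hg }⟩

open AlgebraicGeometry in
theorem smooth_of_smoothRelDim {n : ℕ} {R D : Type u} [CommRing R] [CommRing D] [Algebra R D]
    (h : FlatCA.SmoothRelDim n R D) : Algebra.Smooth R D := by
  haveI : SmoothOfRelativeDimension n (Spec.map (CommRingCat.ofHom (algebraMap R D))) := h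
  haveI : Smooth (Spec.map (CommRingCat.ofHom (algebraMap R D))) := SmoothOfRelativeDimension.smooth n _
  have h1 := (HasRingHomProperty.Spec_iff (P := @Smooth) (φ := CommRingCat.ofHom (algebraMap R D))).1 inferInstance
  exact RingHom.smooth_algebraMap.1 h1

/-- a principal open meets every fibre over the shrunken base -/
theorem surj_shrink {R D R' D' : Type u} [CommRing R] [CommRing D] [Algebra R D] [CommRing R'] [CommRing D']
    [Algebra R R'] [Algebra D D'] [Algebra R' D'] [Algebra R D'] [IsScalarTower R R' D'] [IsScalarTower R D D']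
    (g : R) [IsLocalization.Away g R'] (b : D) [IsLocalization.Away b D']
    (h : ∀ P : PrimeSpectrum R, g ∉ P.asIdeal →
      ∃ Q : PrimeSpectrum D, b ∉ Q.asIdeal ∧ Q.asIdeal.comap (algebraMap R D) = P.asIdeal) :
    Function.Surjective (PrimeSpectrum.comap (algebraMap R' D')) := by
  intro P
  have hgP : g ∉ P.asIdeal.comap (algebraMap R R') := fun hh => P.isPrime.ne_top
    (Ideal.eq_top_of_isUnit_mem _ hh (IsLocalization.Away.algebraMap_isUnit g))
  obtain ⟨Q, hbQ, hQP⟩ := h (PrimeSpectrum.comap (algebraMap R R') P) hgP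
  obtain ⟨Q', hQ'⟩ : Q ∈ Set.range (PrimeSpectrum.comap (algebraMap D D')) := by
    rw [PrimeSpectrum.localization_away_comap_range D' b]; exact hbQ
  refine ⟨Q', PrimeSpectrum.localization_comap_injective R' (Submonoid.powers g) (PrimeSpectrum.ext ?_)⟩
  rw [← hQP, ← hQ']
  simp only [PrimeSpectrum.comap_asIdeal]
  rw [Ideal.comap_comap, Ideal.comap_comap, ← IsScalarTower.algebraMap_eq, ← IsScalarTower.algebraMap_eq]

theorem isPullback_id_of_mono {C : Type*} [Category C] {X Y Z : C} (f : X ⟶ Y) (i : Y ⟶ Z) [Mono i] :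
    IsPullback (𝟙 X) f (f ≫ i) i :=
  ⟨⟨by simp⟩, ⟨Limits.PullbackCone.IsLimit.mk _ (fun s => s.fst) (fun s => Category.comp_id _)
    (fun s => by
      rw [← cancel_mono i, Category.assoc]
      exact s.condition)
    (fun s m h1 _ => by simpa using h1)⟩⟩

open AlgebraicGeometry in
theorem smoothRelDim_shrink {n : ℕ} {R D R' D' : Type u} [CommRing R] [CommRing D] [Algebra R D] [CommRing R']
    [CommRing D'] [Algebra R R'] [Algebra D D'] [Algebra R' D'] [Algebra R D'] [IsScalarTower R R' D']
    [IsScalarTower R D D'] (g : R) [IsLocalization.Away g R'] (b : D) [IsLocalization.Away b D']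
    (h : FlatCA.SmoothRelDim n R D) : FlatCA.SmoothRelDim n R' D' := by
  haveI : SmoothOfRelativeDimension n (Spec.map (CommRingCat.ofHom (algebraMap R D))) := h
  haveI : IsOpenImmersion (Spec.map (CommRingCat.ofHom (algebraMap R R'))) := IsOpenImmersion.of_isLocalization g
  haveI : IsOpenImmersion (Spec.map (CommRingCat.ofHom (algebraMap D D'))) := IsOpenImmersion.of_isLocalization b
  have h2 : SmoothOfRelativeDimension n
      (Spec.map (CommRingCat.ofHom (algebraMap R' D')) ≫ Spec.map (CommRingCat.ofHom (algebraMap R R'))) := by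
    rw [← Spec.map_comp, ← CommRingCat.ofHom_comp, ← IsScalarTower.algebraMap_eq,
      IsScalarTower.algebraMap_eq R D D', CommRingCat.ofHom_comp, Spec.map_comp]
    have : SmoothOfRelativeDimension (0 + n)
        (Spec.map (CommRingCat.ofHom (algebraMap D D')) ≫ Spec.map (CommRingCat.ofHom (algebraMap R D))) :=
      inferInstance
    simpa using this
  haveI := smoothOfRelativeDimension_isStableUnderBaseChange (n := n)
  exact MorphismProperty.of_isPullback (P := @SmoothOfRelativeDimension n) (isPullback_id_of_mono _ _) h2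

end Groth.Agent.RG.Dev.Shrink
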