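import Groth.Agent.RG.Dev.ConnNbhd
import Groth.Agent.RG.Dev.GeomConnPoint
import Groth.Agent.RG.Dev.IntegralFibre
import Groth.Agent.RG.Dev.Shrink
import Groth.Agent.RG.Dev.ShrinkTools
import Groth.Agent.EtaPt.UnivHomeo
import Groth.Agent.Unibranch.SectionComp

/-!
# Geometrically integral fibres near a point with purely transcendental residue field
-/

set_option autoImplicit false

universe u

open CategoryTheory AlgebraicGeometry Limits TopologicalSpace
open scoped TensorProduct
open Groth.Agent

attribute [local instance] Algebra.TensorProduct.rightAlgebra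

namespace Groth.Agent.RG.Dev.SmoothNbhd

/-- The component through a point with purely transcendental residue field in the fibre of a smooth
algebra becomes, étale locally on the base, a smooth algebra with geometrically integral fibres. -/
theorem exists_integral_open_nbhd {R P : Type u} [CommRing R] [CommRing P] [Algebra R P] {n : ℕ}
    (hP : FlatCA.SmoothRelDim n R P) (p : Ideal R) [p.IsPrime] (y : Ideal P) [y.IsPrime] [y.LiesOver p]
    (hy : FlatCA.PurelyTranscendental p y) :
    ∃ (R' : Type u) (_ : CommRing R') (_ : Algebra R R') (p' : Ideal R') (_ : p'.IsPrime)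
      (D : Type u) (_ : CommRing D) (_ : Algebra P D) (_ : Algebra R' D) (_ : Algebra R D)
      (_ : IsScalarTower R R' D) (_ : IsScalarTower R P D) (y' : Ideal D) (_ : y'.IsPrime) (_ : y'.LiesOver p')
      (hy' : y'.LiesOver y),
      FlatCA.IsEtaleNhd R R' p p' ∧ Algebra.Etale P D ∧
      Function.Bijective (Ideal.ResidueField.map y y' (algebraMap P D) hy'.over) ∧
      FlatCA.PurelyTranscendental p' y' ∧ FlatCA.SmoothRelDim n R' D ∧ FlatCA.GeomIntegralFibres R' D ∧
      IsOpenImmersion (Spec.map (CommRingCat.ofHom (Algebra.TensorProduct.lift (IsScalarTower.toAlgHom R R' D)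
        (IsScalarTower.toAlgHom R P D) fun _ _ => Commute.all _ _).toRingHom)) := by
  haveI : Algebra.Smooth R P := Shrink.smooth_of_smoothRelDim hP
  let h : Spec (CommRingCat.of P) ⟶ Spec (CommRingCat.of R) := Spec.map (CommRingCat.ofHom (algebraMap R P))
  haveI : SmoothOfRelativeDimension n h := hP
  haveI : Smooth h := SmoothOfRelativeDimension.smooth n h
  haveI : GeometricallyReduced h := Rigid.geometricallyReduced_of_smooth h
  let s : PrimeSpectrum R := ⟨p, ‹_›⟩
  let κ := (Spec (CommRingCat.of R)).residueField s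
  let L := y.ResidueField
  let e : κ ≃+* p.ResidueField := (Scheme.Spec.residueFieldIso (CommRingCat.of R) s).commRingCatIsoToRingEquiv
  let ψL : p.ResidueField →+* L := (Ideal.ResidueField.mapₐ p y (Algebra.ofId R P) (y.over_def p)).toRingHom
  letI : Algebra κ L := (ψL.comp e.toRingHom).toAlgebra
  have hF : separableClosure κ L = ⊥ :=
    RGDev.separableClosure_eq_bot_of_purelyTranscendental p y hy κ e fun _ => rfl
  let φ : κ ⟶ CommRingCat.of L := CommRingCat.ofHom (algebraMap κ L)
  have hw : Spec.map (CommRingCat.ofHom (algebraMap P L)) ≫ h =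
      Spec.map φ ≫ (Spec (CommRingCat.of R)).fromSpecResidueField s := by
    rw [← Scheme.Spec.map_residueFieldIso_inv_eq_fromSpecResidueField, ← Spec.map_comp, ← Spec.map_comp,
      ← Spec.map_comp]
    congr 1
    refine CommRingCat.hom_ext (RingHom.ext fun r => ?_)
    show algebraMap P L (algebraMap R P r) = ψL (e ((Scheme.Spec.residueFieldIso (CommRingCat.of R) s).inv
      (algebraMap R p.ResidueField r)))
    rw [show e ((Scheme.Spec.residueFieldIso (CommRingCat.of R) s).inv (algebraMap R p.ResidueField r)) =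
      algebraMap R p.ResidueField r from e.apply_symm_apply _, ← IsScalarTower.algebraMap_apply R P L]
    exact ((Ideal.ResidueField.mapₐ p y (Algebra.ofId R P) (y.over_def p)).commutes r).symm
  let m : Spec (CommRingCat.of L) ⟶ h.fiber s := pullback.lift (Spec.map (CommRingCat.ofHom (algebraMap P L))) (Spec.map φ) hw
  let pt : Spec (CommRingCat.of L) := IsLocalRing.closedPoint L
  haveI := Unibranch.locallyConnectedSpace_fiber h s
  let T : (h.fiber s).Opens := ⟨connectedComponent (m pt), isOpen_connectedComponent⟩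
  have hT : GeometricallyConnected (T.ι ≫ h.fiberToSpecResidueField s) :=
    RGDev.geometricallyConnected_component (k := κ) hF (h.fiberToSpecResidueField s) m (pullback.lift_snd _ _ _) pt T rfl
  obtain ⟨S', g, s', hS', hg, V, hVc, hVconn, hVmem⟩ := RGDev.exists_geomConn_nbhd h s T hT
  -- the ring of the neighbourhood
  let R₁ := Γ(S', ⊤)
  obtain ⟨ψ, hψ⟩ : ∃ ψ : CommRingCat.of R ⟶ R₁, Spec.map ψ = S'.isoSpec.inv ≫ g :=
    ⟨Spec.preimage _, Spec.map_preimage _⟩
  letI : Algebra R R₁ := ψ.hom.toAlgebra
  have hψ' : Spec.map (CommRingCat.ofHom (algebraMap R R₁)) = S'.isoSpec.inv ≫ g := hψ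
  let s₁ : PrimeSpectrum R₁ := S'.isoSpec.hom s'
  let p₁ := s₁.asIdeal
  have hs₁ : S'.isoSpec.inv s₁ = s' := by
    show (S'.isoSpec.hom ≫ S'.isoSpec.inv) s' = s'
    rw [Iso.hom_inv_id]; rfl
  have hcs : PrimeSpectrum.comap (algebraMap R R₁) s₁ = s := by
    show (Spec.map (CommRingCat.ofHom (algebraMap R R₁))) s₁ = s
    rw [hψ', Scheme.Hom.comp_apply, hs₁]
    exact hg.base_eq
  haveI hp₁ : p₁.LiesOver p := ⟨(congrArg PrimeSpectrum.asIdeal hcs).symm⟩
  haveI hR₁et : Algebra.Etale R R₁ := by
    haveI := hg.etale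
    have h1 : Etale (Spec.map (CommRingCat.ofHom (algebraMap R R₁))) := by rw [hψ']; infer_instance
    rw [HasRingHomProperty.Spec_iff (P := @Etale)] at h1
    exact RingHom.etale_algebraMap.1 h1
  have hκ₁ : Function.Bijective (Ideal.ResidueField.mapₐ p p₁ (Algebra.ofId R R₁) hp₁.over) := by
    have h1 : Function.Bijective ((Spec.map (CommRingCat.ofHom (algebraMap R R₁))).residueFieldMap s₁) := by
      have h2 : Function.Bijective ((S'.isoSpec.inv ≫ g).residueFieldMap s₁) := by
        rw [Scheme.residueFieldMap_comp]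
        refine (ConcreteCategory.bijective_of_isIso (S'.isoSpec.inv.residueFieldMap s₁)).comp ?_
        have h3 := hg.residue_bijective
        rw [← hs₁] at h3
        exact h3
      rw [Scheme.Hom.residueFieldMap_congr hψ' s₁]
      exact h2.comp (ConcreteCategory.bijective_of_isIso _)
    haveI := (ConcreteCategory.isIso_iff_bijective _).2 h1
    have h4 := (EtaPtLib.bijective_residueField_map_iff' (CommRingCat.ofHom (algebraMap R R₁)) s₁).1 inferInstance
    have key : ∀ (I : Ideal R) [I.IsPrime] (hI : I = p₁.comap (algebraMap R R₁)),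
        I = p → Function.Bijective (Ideal.ResidueField.map I p₁ (algebraMap R R₁) hI) →
        Function.Bijective (Ideal.ResidueField.mapₐ p p₁ (Algebra.ofId R R₁) hp₁.over) := by
      intro I _ hI hIp hb
      subst hIp
      exact hb
    exact key _ rfl (congrArg PrimeSpectrum.asIdeal hcs) h4
  -- the point over `y`
  let P₁ := P ⊗[R] R₁
  haveI : Algebra.IsPushout R R₁ P P₁ := Algebra.IsPushout.symm inferInstance
  haveI : Algebra.Smooth R₁ P₁ := by
    haveI : Algebra.Smooth R₁ (R₁ ⊗[R] P) := inferInstance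
    exact Algebra.Smooth.of_equiv
      (AlgEquiv.ofRingEquiv (f := (Algebra.TensorProduct.comm R R₁ P).toRingEquiv)
        (fun r => by simp [Algebra.TensorProduct.right_algebraMap_apply]; rfl))
  obtain ⟨y₁, hy₁, hy₁p, hy₁y⟩ := FibreBij.exists_liesOver (S := P) (S' := P₁) p p₁ hκ₁ y
  let Q : Spec (CommRingCat.of P₁) := ⟨y₁, hy₁⟩
  let E : Spec (CommRingCat.of P₁) ⟶ pullback h g :=
    (pullbackSpecIso R P R₁).inv ≫ pullback.map h (Spec.map (CommRingCat.ofHom (algebraMap R R₁))) h g
      (𝟙 _) S'.isoSpec.inv (𝟙 _) (by simp) (by rw [Category.comp_id]; exact hψ')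
  have hEf : E ≫ pullback.fst h g = Spec.map (CommRingCat.ofHom (algebraMap P P₁)) := by
    rw [Category.assoc, pullback.lift_fst, Category.comp_id, pullbackSpecIso_inv_fst']
  have hEs : E ≫ pullback.snd h g =
      Spec.map (CommRingCat.ofHom (algebraMap R₁ P₁)) ≫ S'.isoSpec.inv := by
    rw [Category.assoc, pullback.lift_snd, pullbackSpecIso_inv_snd_assoc]
    rfl
  have hQs : pullback.snd h g (E Q) = s' := by
    rw [← Scheme.Hom.comp_apply, hEs, Scheme.Hom.comp_apply, ← hs₁]
    exact congrArg S'.isoSpec.inv (PrimeSpectrum.ext hy₁p.over.symm)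
  have hQV : E Q ∈ V := by
    rw [hVmem _ hQs, ← Scheme.Hom.comp_apply, hEf]
    refine ⟨m pt, mem_connectedComponent, ?_⟩
    show (m ≫ h.fiberι s) pt = _
    rw [show m ≫ h.fiberι s = Spec.map (CommRingCat.ofHom (algebraMap P L)) from pullback.lift_fst _ _ _]
    refine PrimeSpectrum.ext ?_
    show (IsLocalRing.closedPoint L).asIdeal.comap (algebraMap P L) = y₁.comap (algebraMap P P₁)
    rw [show (IsLocalRing.closedPoint L).asIdeal = (⊥ : Ideal L) from IsLocalRing.maximalIdeal_eq_bot,
      ← RingHom.ker_eq_comap_bot, Ideal.ker_algebraMap_residueField]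
    exact hy₁y.over
  haveI hEiso : IsIso E := inferInstance
  let W : (Spec (CommRingCat.of P₁)).Opens := E ⁻¹ᵁ V
  let π₁ : Spec (CommRingCat.of P₁) ⟶ Spec (CommRingCat.of R₁) := Spec.map (CommRingCat.ofHom (algebraMap R₁ P₁))
  haveI : Smooth π₁ := by
    rw [HasRingHomProperty.Spec_iff (P := @Smooth)]
    exact RingHom.smooth_algebraMap.2 inferInstance
  have hfW : W.ι ≫ π₁ = (E ∣_ V) ≫ (V.ι ≫ pullback.snd h g) ≫ S'.isoSpec.hom := by
    rw [Category.assoc, morphismRestrict_ι_assoc, reassoc_of% hEs, Iso.inv_hom_id, Category.comp_id]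
  haveI : GeometricallyConnected (W.ι ≫ π₁) := by
    rw [hfW]
    exact (MorphismProperty.cancel_left_of_respectsIso @GeometricallyConnected _ _).2
      ((MorphismProperty.cancel_right_of_respectsIso @GeometricallyConnected _ _).2 hVconn)
  haveI : QuasiCompact (W.ι ≫ π₁) := by
    haveI : CompactSpace W.toScheme := isCompact_iff_compactSpace.mp
      (QuasiCompact.isCompact_preimage (f := E) _ V.2 hVc)
    exact (quasiCompact_iff_compactSpace _).mpr inferInstance
  haveI := RGDev.geometricallyIntegral_of_smooth (W.ι ≫ π₁)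
  -- shrink to a principal open
  obtain ⟨_, ⟨b, rfl⟩, hQb, hbW⟩ :=
    PrimeSpectrum.isTopologicalBasis_basic_opens.exists_subset_of_mem_open (show Q ∈ (W : Set _) from hQV) W.2
  haveI : y₁.LiesOver p₁ := hy₁p
  obtain ⟨r, hr, hrs⟩ := Shrink.exists_g (R := R₁) (D := P₁) p₁ y₁ b hQb
  let b' := b * algebraMap R₁ P₁ r
  have hb' : b' ∉ y₁ := fun hh => (hy₁.mem_or_mem hh).elim hQb fun h' => hr (by
    rw [hy₁p.over]; exact h')
  let R' := Localization.Away r
  let D := Localization.Away b'
  have hru : IsUnit ((algebraMap P₁ D).comp (algebraMap R₁ P₁) r) :=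
    isUnit_of_dvd_unit (map_dvd (algebraMap P₁ D) (dvd_mul_left _ b)) (IsLocalization.Away.algebraMap_isUnit b')
  letI : Algebra R' D := (IsLocalization.Away.lift (S := R') r hru).toAlgebra
  haveI : IsScalarTower R₁ R' D := IsScalarTower.of_algebraMap_eq fun a => by
    rw [RingHom.algebraMap_toAlgebra, IsLocalization.Away.lift_eq, IsScalarTower.algebraMap_apply R₁ P₁ D]
    rfl
  haveI : IsScalarTower R R' D := IsScalarTower.of_algebraMap_eq fun a => by
    rw [IsScalarTower.algebraMap_apply R R₁ R', ← IsScalarTower.algebraMap_apply R₁ R' D,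
      IsScalarTower.algebraMap_apply R₁ P₁ D, ← IsScalarTower.algebraMap_apply R R₁ P₁,
      ← IsScalarTower.algebraMap_apply R P₁ D]
  let p' := p₁.map (algebraMap R₁ R')
  have hdr : Disjoint (Submonoid.powers r : Set R₁) p₁ := by
    rwa [Ideal.disjoint_powers_iff_notMem_of_isPrime]
  have hdb : Disjoint (Submonoid.powers b' : Set P₁) y₁ := by
    rwa [Ideal.disjoint_powers_iff_notMem_of_isPrime]
  haveI hp' : p'.IsPrime := IsLocalization.isPrime_of_isPrime_disjoint (Submonoid.powers r) R' _ s₁.isPrime hdr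
  have hp'1 : p₁ = p'.comap (algebraMap R₁ R') :=
    (IsLocalization.comap_map_of_isPrime_disjoint (Submonoid.powers r) R' s₁.isPrime hdr).symm
  let y' := y₁.map (algebraMap P₁ D)
  haveI hy' : y'.IsPrime := IsLocalization.isPrime_of_isPrime_disjoint (Submonoid.powers b') D _ hy₁ hdb
  have hy'1 : y₁ = y'.comap (algebraMap P₁ D) :=
    (IsLocalization.comap_map_of_isPrime_disjoint (Submonoid.powers b') D hy₁ hdb).symm
  haveI hy'p : y'.LiesOver p' := by
    refine ⟨?_⟩
    rw [Ideal.under, ← IsLocalization.map_comap (Submonoid.powers r) R' (y'.comap (algebraMap R' D)), Ideal.under, Ideal.comap_comap,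
      ← IsScalarTower.algebraMap_eq, IsScalarTower.algebraMap_eq R₁ P₁ D, ← Ideal.comap_comap, ← hy'1,
      ← Ideal.under, ← hy₁p.over]
  haveI hy'y : y'.LiesOver y := ⟨by
    rw [Ideal.under, IsScalarTower.algebraMap_eq P P₁ D, ← Ideal.comap_comap, ← hy'1]; exact hy₁y.over⟩
  haveI hp'p : p'.LiesOver p := ⟨by
    rw [Ideal.under, IsScalarTower.algebraMap_eq R R₁ R', ← Ideal.comap_comap, ← hp'1]; exact hp₁.over⟩
  have hbR : Function.Bijective (Ideal.ResidueField.map p p' (algebraMap R R') hp'p.over) := by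
    have h1 := Shrink.residue_bijective (Submonoid.powers r) p₁ p' hp'1
    have h2 : Ideal.ResidueField.map p p' (algebraMap R R') hp'p.over =
        (Ideal.ResidueField.map p₁ p' (algebraMap R₁ R') hp'1).comp
          (Ideal.ResidueField.mapₐ p p₁ (Algebra.ofId R R₁) hp₁.over).toRingHom := by
      refine Ideal.ResidueField.ringHom_ext (RingHom.ext fun a => ?_)
      simp only [RingHom.comp_apply, AlgHom.toRingHom_eq_coe, RingHom.coe_coe, Ideal.ResidueField.map_algebraMap,
        AlgHom.commutes, IsScalarTower.algebraMap_apply R R₁ p₁.ResidueField]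
      rw [← IsScalarTower.algebraMap_apply R R₁ R']
    rw [h2]
    exact h1.comp hκ₁
  have hbP : Function.Bijective (Ideal.ResidueField.map y y' (algebraMap P D) hy'y.over) := by
    have h1 := Shrink.residue_bijective (Submonoid.powers b') y₁ y' hy'1
    have h0 := FibreBij.residue_bijective (S := P) (S' := P₁) p p₁ hκ₁ y y₁
    have h2 : Ideal.ResidueField.map y y' (algebraMap P D) hy'y.over =
        (Ideal.ResidueField.map y₁ y' (algebraMap P₁ D) hy'1).comp
          (Ideal.ResidueField.map y y₁ (algebraMap P P₁) hy₁y.over) := by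
      refine Ideal.ResidueField.ringHom_ext (RingHom.ext fun a => ?_)
      simp only [RingHom.comp_apply, Ideal.ResidueField.map_algebraMap]
      rw [← IsScalarTower.algebraMap_apply P P₁ D]
    rw [h2]
    exact h1.comp h0
  haveI : Algebra.Etale P D := by
    haveI : Algebra.Etale P₁ D := Algebra.Etale.of_isLocalizationAway b'
    exact Algebra.Etale.comp P P₁ D
  haveI : Algebra.Etale R R' := by
    haveI : Algebra.Etale R₁ R' := Algebra.Etale.of_isLocalizationAway r
    exact Algebra.Etale.comp R R₁ R'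
  have hsur : Function.Surjective (PrimeSpectrum.comap (algebraMap R' D)) :=
    Shrink.surj_shrink r b' fun Pr hPr => by
      obtain ⟨Q', hQ', hQP⟩ := hrs Pr hPr
      refine ⟨Q', fun hh => (Q'.isPrime.mem_or_mem hh).elim hQ' fun h' => hPr ?_, hQP⟩
      rw [← hQP]; exact h'
  refine ⟨R', inferInstance, inferInstance, p', hp', D, inferInstance, inferInstance, inferInstance, inferInstance,
    inferInstance, inferInstance, y', hy', hy'p, hy'y, ⟨inferInstance, hp'p, hbR⟩, inferInstance, hbP, ?_, ?_, ?_, ?_⟩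
  · exact Shrink.purelyTranscendental_of_bijective p y p' y' hp'p.over hy'y.over hbR hbP hy
  · refine Shrink.smoothRelDim_shrink r b' ?_
    haveI := smoothOfRelativeDimension_isStableUnderBaseChange (n := n)
    exact MorphismProperty.of_isPullback (P := @SmoothOfRelativeDimension n)
      (isPullback_SpecMap_of_isPushout (CommRingCat.ofHom (algebraMap R P)) (CommRingCat.ofHom (algebraMap R R₁))
        (CommRingCat.ofHom (algebraMap P P₁)) (CommRingCat.ofHom (algebraMap R₁ P₁))
        (CommRingCat.isPushout_of_isPushout R P R₁ P₁)) hP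
  · let jD : Spec (CommRingCat.of D) ⟶ Spec (CommRingCat.of P₁) := Spec.map (CommRingCat.ofHom (algebraMap P₁ D))
    haveI : IsOpenImmersion jD := IsOpenImmersion.of_isLocalization b'
    have hfac : Set.range jD ⊆ Set.range W.ι := by
      rintro _ ⟨t, rfl⟩
      rw [W.range_ι]
      refine hbW (fun hh => ?_)
      have hu : IsUnit (algebraMap P₁ D b) :=
        isUnit_of_dvd_unit (map_dvd (algebraMap P₁ D) (dvd_mul_right b _)) (IsLocalization.Away.algebraMap_isUnit b')
      exact t.isPrime.ne_top (Ideal.eq_top_of_isUnit_mem _ hh hu)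
    let j := IsOpenImmersion.lift W.ι jD hfac
    have hj : j ≫ W.ι = jD := IsOpenImmersion.lift_fac _ _ _
    haveI : IsOpenImmersion j := by
      have : IsOpenImmersion (j ≫ W.ι) := by rw [hj]; infer_instance
      exact IsOpenImmersion.of_comp j W.ι
    haveI : IsOpenImmersion (Spec.map (CommRingCat.ofHom (algebraMap R₁ R'))) := IsOpenImmersion.of_isLocalization r
    haveI : AlgebraicGeometry.Surjective (Spec.map (CommRingCat.ofHom (algebraMap R' D))) := ⟨hsur⟩
    refine RGDev.geometricallyIntegral_openImmersion_lift j (W.ι ≫ π₁) _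
      (Spec.map (CommRingCat.ofHom (algebraMap R₁ R'))) ?_
    rw [reassoc_of% hj, ← Spec.map_comp, ← Spec.map_comp, ← CommRingCat.ofHom_comp, ← CommRingCat.ofHom_comp,
      ← IsScalarTower.algebraMap_eq, ← IsScalarTower.algebraMap_eq]
  · let T := R' ⊗[R] P
    let φT : T →+* D := (Algebra.TensorProduct.lift (IsScalarTower.toAlgHom R R' D)
        (IsScalarTower.toAlgHom R P D) fun _ _ => Commute.all _ _).toRingHom
    let θ : P₁ →ₐ[R] T := Algebra.TensorProduct.lift (Algebra.TensorProduct.includeRight (R := R) (A := R') (B := P))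
      ((Algebra.TensorProduct.includeLeft (S := R)).comp (IsScalarTower.toAlgHom R R₁ R')) fun _ _ => Commute.all _ _
    letI : Algebra P₁ T := θ.toRingHom.toAlgebra
    have hθP : ∀ x, θ (algebraMap P P₁ x) = (1 : R') ⊗ₜ[R] x := fun x => by
      show θ (x ⊗ₜ[R] (1 : R₁)) = _
      refine (Algebra.TensorProduct.lift_tmul _ _ _ x (1 : R₁)).trans ?_
      rw [map_one, mul_one]
      rfl
    have hθR : ∀ a, θ (algebraMap R₁ P₁ a) = (algebraMap R₁ R' a) ⊗ₜ[R] (1 : P) := fun a => by
      show θ ((1 : P) ⊗ₜ[R] a) = _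
      refine (Algebra.TensorProduct.lift_tmul _ _ _ (1 : P) a).trans ?_
      rw [map_one, one_mul]
      rfl
    haveI : IsScalarTower R₁ P₁ T := IsScalarTower.of_algebraMap_eq fun a => (hθR a).symm
    haveI : IsScalarTower P P₁ T := IsScalarTower.of_algebraMap_eq fun a => (hθP a).symm
    haveI : IsScalarTower R₁ R' T := inferInstance
    haveI : Algebra.IsPushout R R' P T := inferInstance
    haveI h2 : Algebra.IsPushout R₁ R' P₁ T :=
      (Algebra.IsPushout.comp_iff R R₁ P P₁ (T := R') (T' := T)).1 inferInstance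
    haveI : IsOpenImmersion (Spec.map (CommRingCat.ofHom (algebraMap R₁ R'))) := IsOpenImmersion.of_isLocalization r
    haveI : IsOpenImmersion (Spec.map (CommRingCat.ofHom (algebraMap P₁ T))) :=
      MorphismProperty.of_isPullback (P := @IsOpenImmersion)
        (isPullback_SpecMap_of_isPushout _ _ _ _ (CommRingCat.isPushout_of_isPushout R₁ R' P₁ T)) inferInstance
    have hcomp : φT.comp (algebraMap P₁ T) = algebraMap P₁ D := by
      refine RingHom.ext fun z => ?_
      induction z using TensorProduct.induction_on with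
      | zero => simp
      | tmul x a =>
        show φT (θ (x ⊗ₜ[R] a)) = _
        have hxa : x ⊗ₜ[R] a = algebraMap P P₁ x * algebraMap R₁ P₁ a := by
          show _ = (x ⊗ₜ[R] (1 : R₁)) * ((1 : P) ⊗ₜ[R] a)
          rw [Algebra.TensorProduct.tmul_mul_tmul, mul_one, one_mul]
        rw [hxa, map_mul, map_mul, hθP, hθR, map_mul, ← IsScalarTower.algebraMap_apply P P₁ D,
          ← IsScalarTower.algebraMap_apply R₁ P₁ D, IsScalarTower.algebraMap_apply R₁ R' D]
        refine congrArg₂ (· * ·) ((Algebra.TensorProduct.lift_tmul _ _ _ (1 : R') x).trans ?_)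
          ((Algebra.TensorProduct.lift_tmul _ _ _ (algebraMap R₁ R' a) (1 : P)).trans ?_)
        · rw [map_one, one_mul]; rfl
        · rw [map_one, mul_one]; rfl
      | add z w hz hw => rw [map_add, hz, hw, map_add]
    haveI : IsOpenImmersion (Spec.map (CommRingCat.ofHom φT) ≫ Spec.map (CommRingCat.ofHom (algebraMap P₁ T))) := by
      rw [← Spec.map_comp, ← CommRingCat.ofHom_comp, hcomp]
      exact IsOpenImmersion.of_isLocalization b'
    exact IsOpenImmersion.of_comp _ (Spec.map (CommRingCat.ofHom (algebraMap P₁ T)))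

/-- The component through a point with purely transcendental residue field in the fibre of a smooth
algebra becomes, étale locally on the base, a smooth algebra with geometrically integral fibres. -/
theorem exists_integral_nbhd {R P : Type u} [CommRing R] [CommRing P] [Algebra R P] {n : ℕ}
    (hP : FlatCA.SmoothRelDim n R P) (p : Ideal R) [p.IsPrime] (y : Ideal P) [y.IsPrime] [y.LiesOver p]
    (hy : FlatCA.PurelyTranscendental p y) :
    ∃ (R' : Type u) (_ : CommRing R') (_ : Algebra R R') (p' : Ideal R') (_ : p'.IsPrime)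
      (D : Type u) (_ : CommRing D) (_ : Algebra P D) (_ : Algebra R' D) (_ : Algebra R D)
      (_ : IsScalarTower R R' D) (_ : IsScalarTower R P D) (y' : Ideal D) (_ : y'.IsPrime) (_ : y'.LiesOver p')
      (hy' : y'.LiesOver y),
      FlatCA.IsEtaleNhd R R' p p' ∧ Algebra.Etale P D ∧
      Function.Bijective (Ideal.ResidueField.map y y' (algebraMap P D) hy'.over) ∧
      FlatCA.PurelyTranscendental p' y' ∧ FlatCA.SmoothRelDim n R' D ∧ FlatCA.GeomIntegralFibres R' D := by
  obtain ⟨R', i1, i2, p', i3, D, i4, i5, i6, i7, i8, i9, y', i10, i11, hy', h1, h2, h3, h4, h5, h6, -⟩ :=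
    exists_integral_open_nbhd hP p y hy
  exact ⟨R', i1, i2, p', i3, D, i4, i5, i6, i7, i8, i9, y', i10, i11, hy', h1, h2, h3, h4, h5, h6⟩

end Groth.Agent.RG.Dev.SmoothNbhd
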