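import Groth.Prelude.Def_FlatCA
import Groth.Agent.RG.Loc.PureCor
import Groth.Agent.RG.Pure.GeomInt
import Groth.Agent.RG.Pure.Global
import Groth.Agent.SmoothRed.Basic
import Groth.Agent.FlatCx.Artinian
import Groth.Agent.InjFibre.Loc
import Mathlib.AlgebraicGeometry.Morphisms.Smooth

/-!
One step of a complete dévissage over a local ring.
-/

set_option autoImplicit false
set_option linter.style.haveILetI false
set_option backward.isDefEq.respectTransparency false

universe u

open TensorProduct AlgebraicGeometry CategoryTheory

namespace Groth.Agent.RG.Dev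

/-- smooth with geometrically irreducible fibres implies geometrically integral fibres -/
theorem geomIntegral_of_smooth {A B : Type u} [CommRing A] [CommRing B] [Algebra A B] [Algebra.Smooth A B]
    (h : FlatCA.GeomIrredFibres A B) : FlatCA.GeomIntegralFibres A B := by
  haveI := h
  haveI : GeometricallyReduced (Spec.map (CommRingCat.ofHom (algebraMap A B))) := by
    refine ⟨fun K _ y W fst snd hp => ?_⟩
    obtain ⟨ψ, hψ⟩ := Spec.map_surjective y
    subst hψ
    letI : Algebra A K := ψ.hom.toAlgebra
    have h2 := isPullback_SpecMap_of_isPushout _ _ _ _ (CommRingCat.isPushout_tensorProduct A B K)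
    let e := hp.isoIsPullback _ _ h2
    haveI : IsReduced (B ⊗[A] K) := by
      haveI : IsReduced (K ⊗[A] B) := SmoothRed.isReduced_of_field K (K ⊗[A] B)
      exact isReduced_of_injective (Algebra.TensorProduct.comm A B K).toRingEquiv.toRingHom
        (Algebra.TensorProduct.comm A B K).injective
    exact isReduced_of_isOpenImmersion e.hom
  exact GeometricallyIntegral.of_geometricallyReduced_of_geometricallyIrreducible _

/-- smooth with geometrically irreducible fibres is projective as a module -/
theorem projective_of_smooth_geomIrred {A B : Type u} [CommRing A] [CommRing B] [Algebra A B] [Algebra.Smooth A B]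
    (h : FlatCA.GeomIrredFibres A B) : Module.Projective A B := by
  haveI : Module.Flat A B := Algebra.Smooth.flat A B
  haveI : Algebra.FinitePresentation A B := inferInstance
  refine RG.Pure.projective_of_pure (A := A) (B := B) B fun p _ => ?_
  intro A' B' N' _ _ _ _ _ _ _ _ _ _ _ _ _ _ f t' t _ _ P _ _
  exact RG.Pure.isUnivPure_of_geomIntegral (geomIntegral_of_smooth h) p A' B' N' f t' t P

variable {R : Type u} [CommRing R] [IsLocalRing R]

open IsLocalRing

/-- the maps of a dévissage are universally injective, with flat cokernel at the point -/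
theorem univInj_and_flat_coker {B M : Type u} [CommRing B] [Algebra R B] [Module.Projective R B]
    [hP : ((maximalIdeal R).map (algebraMap R B)).IsPrime] (qB : Ideal B) [qB.IsPrime]
    (hq : (maximalIdeal R).map (algebraMap R B) ≤ qB)
    [AddCommGroup M] [Module B M] [Module R M] [IsScalarTower R B M]
    (hflat : Module.Flat R (LocalizedModule qB.primeCompl M)) {r : ℕ} (α : (Fin r → B) →ₗ[B] M)
    (hα : Function.Injective (α.baseChange ((maximalIdeal R).map (algebraMap R B)).ResidueField)) :
    FlatCA.UnivInj R (α.restrictScalars R) ∧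
      Module.Flat R (LocalizedModule qB.primeCompl (M ⧸ LinearMap.range α)) := by
  let m := maximalIdeal R
  let ξ : Ideal B := m.map (algebraMap R B)
  let κ := ξ.ResidueField
  let Mq := LocalizedModule qB.primeCompl M
  let loc : M →ₗ[B] Mq := LocalizedModule.mkLinearMap qB.primeCompl M
  haveI := hflat
  let v : (Fin r → B) →ₗ[R] Mq := (loc.comp α).restrictScalars R
  haveI : Module.Projective R (Fin r → B) := by
    haveI : Module.Projective R (DirectSum (Fin r) fun _ => B) := inferInstance
    exact Module.Projective.of_equiv (DirectSum.linearEquivFunOnFintype R (Fin r) fun _ => B)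
  have hv : FlatCA.UnivInj R v := by
    refine RG.Loc.univInj_of_residue v fun m' hm' => ?_
    obtain rfl : m' = m := eq_maximalIdeal hm'
    rw [injective_iff_map_eq_zero]
    intro z hz
    obtain ⟨x, rfl⟩ : ∃ x, ((1 : R ⧸ m) ⊗ₜ[R] x) = z := by
      refine TensorProduct.induction_on z ⟨0, tmul_zero _ _⟩ (fun c x => ?_) ?_
      · obtain ⟨c, rfl⟩ := Ideal.Quotient.mk_surjective c
        exact ⟨c • x, by rw [← smul_tmul, Algebra.smul_def, mul_one, Ideal.Quotient.algebraMap_eq]⟩
      · rintro a b ⟨x, rfl⟩ ⟨y, rfl⟩
        exact ⟨x + y, tmul_add _ _ _⟩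
    rw [LinearMap.lTensor_tmul] at hz
    have h1 : v x ∈ m • (⊤ : Submodule R Mq) := by
      have h := congrArg (TensorProduct.quotTensorEquivQuotSMul Mq m) hz
      simpa using h
    -- pass to the residue field at `ξ`
    have hu : ∀ s : qB.primeCompl, IsUnit (algebraMap B (Module.End B (κ ⊗[B] M)) s) := fun s => by
      have hsξ : algebraMap B κ (s : B) ≠ 0 := fun h0 => s.2 (hq (Ideal.algebraMap_residueField_eq_zero.1 h0))
      rw [Module.End.isUnit_iff]
      have : (algebraMap B (Module.End B (κ ⊗[B] M)) s : κ ⊗[B] M → κ ⊗[B] M)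
          = fun y => algebraMap B κ (s : B) • y := by
        funext y; simp [Module.algebraMap_end_apply]
      rw [this]
      exact ⟨smul_right_injective _ hsξ, fun y => ⟨(algebraMap B κ (s : B))⁻¹ • y, smul_inv_smul₀ hsξ y⟩⟩
    let φ : Mq →ₗ[B] κ ⊗[B] M := IsLocalizedModule.lift qB.primeCompl loc (TensorProduct.mk B κ M 1) hu
    have hφ : ∀ y, y ∈ m • (⊤ : Submodule R Mq) → φ y = 0 := fun y hy => by
      refine Submodule.smul_induction_on hy (fun a ha w _ => ?_) fun a b ha hb => by rw [map_add, ha, hb, add_zero]
      rw [← algebraMap_smul B a w, map_smul, ← algebraMap_smul κ (algebraMap R B a),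
        (Ideal.algebraMap_residueField_eq_zero (I := ξ)).2 (Ideal.mem_map_of_mem _ ha), zero_smul]
    have h2 : (1 : κ) ⊗ₜ[B] α x = 0 := by
      rw [← hφ _ h1]
      exact (IsLocalizedModule.lift_apply qB.primeCompl loc (TensorProduct.mk B κ M 1) hu (α x)).symm
    have h3 : (1 : κ) ⊗ₜ[B] x = 0 := hα (by simpa using h2)
    have h4 : ∀ i, x i ∈ ξ := fun i => by
      have h := congrArg ((LinearMap.proj i).baseChange κ) h3
      rw [LinearMap.baseChange_tmul, map_zero] at h
      have h' := congrArg (TensorProduct.rid B κ) h
      simp [Algebra.smul_def, Ideal.algebraMap_residueField_eq_zero] at h'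
      exact Ideal.algebraMap_residueField_eq_zero.1 h'
    have h5 : x ∈ m • (⊤ : Submodule R (Fin r → B)) := by
      rw [← Submodule.restrictScalars_top R B (Fin r → B), ← Ideal.smul_restrictScalars,
        Submodule.restrictScalars_mem, pi_eq_sum_univ' x]
      exact Submodule.sum_mem _ fun i _ => Submodule.smul_mem_smul (h4 i) trivial
    refine (TensorProduct.quotTensorEquivQuotSMul (Fin r → B) m).injective ?_
    simpa using h5
  refine ⟨fun Q _ _ => ?_, ?_⟩
  · have h := hv Q
    rw [show v = (loc.restrictScalars R).comp (α.restrictScalars R) from rfl, LinearMap.lTensor_comp] at h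
    exact Function.Injective.of_comp h
  · let C' := Mq ⧸ LinearMap.range (loc.comp α)
    haveI : Module.Flat R C' := by
      refine FlatCx.flat_quotient_of_rTensor_injective (f := v) (g := ((LinearMap.range (loc.comp α)).mkQ).restrictScalars R)
        (fun y => ?_) (Submodule.mkQ_surjective _) fun Q _ _ => ?_
      · change (LinearMap.range (loc.comp α)).mkQ y = 0 ↔ _
        rw [Submodule.mkQ_apply, Submodule.Quotient.mk_eq_zero]
        exact Iff.rfl
      · rw [← LinearMap.comm_comp_lTensor_comp_comm_eq]
        exact (TensorProduct.comm R Q Mq).injective.comp ((hv Q).comp (TensorProduct.comm R _ Q).injective)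
    let g : (M ⧸ LinearMap.range α) →ₗ[B] LocalizedModule qB.primeCompl C' :=
      Submodule.liftQ _ ((LocalizedModule.mkLinearMap qB.primeCompl C').comp
        ((LinearMap.range (loc.comp α)).mkQ.comp loc)) (LinearMap.range_le_ker_iff.2 (by
          rw [LinearMap.comp_assoc, LinearMap.comp_assoc, LinearMap.range_mkQ_comp, LinearMap.comp_zero]))
    haveI : IsLocalizedModule qB.primeCompl g := by
      refine ⟨fun s => IsLocalizedModule.map_units (LocalizedModule.mkLinearMap qB.primeCompl C') s, fun y => ?_,
        fun {x₁ x₂} he => ?_⟩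
      · obtain ⟨⟨w, t⟩, hwt⟩ := IsLocalizedModule.surj qB.primeCompl (LocalizedModule.mkLinearMap qB.primeCompl C') y
        obtain ⟨w, rfl⟩ := Submodule.mkQ_surjective _ w
        obtain ⟨⟨x, s⟩, hxs⟩ := IsLocalizedModule.surj qB.primeCompl loc w
        refine ⟨(Submodule.Quotient.mk x, s * t), ?_⟩
        change (s * t) • y = LocalizedModule.mkLinearMap qB.primeCompl C' ((LinearMap.range (loc.comp α)).mkQ (loc x))
        rw [show loc x = s • w from hxs.symm, mul_smul, show t • y = _ from hwt]
        simp only [Submonoid.smul_def, map_smul]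
      · obtain ⟨x₁, rfl⟩ := Submodule.mkQ_surjective _ x₁
        obtain ⟨x₂, rfl⟩ := Submodule.mkQ_surjective _ x₂
        change LocalizedModule.mkLinearMap qB.primeCompl C' ((LinearMap.range (loc.comp α)).mkQ (loc x₁)) =
          LocalizedModule.mkLinearMap qB.primeCompl C' ((LinearMap.range (loc.comp α)).mkQ (loc x₂)) at he
        obtain ⟨t, ht⟩ := IsLocalizedModule.exists_of_eq (S := qB.primeCompl)
          (f := LocalizedModule.mkLinearMap qB.primeCompl C') he
        have ht2 : (LinearMap.range (loc.comp α)).mkQ ((t : B) • loc x₁ - (t : B) • loc x₂) = 0 := by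
          rw [map_sub, map_smul, map_smul, sub_eq_zero]; exact ht
        rw [Submodule.mkQ_apply, Submodule.Quotient.mk_eq_zero] at ht2
        obtain ⟨y, hy⟩ := ht2
        have hy' : loc (α y) = loc ((t : B) • x₁ - (t : B) • x₂) := by
          rw [map_sub, map_smul, map_smul]; exact hy
        obtain ⟨s, hs⟩ := IsLocalizedModule.exists_of_eq (S := qB.primeCompl) (f := loc) hy'
        refine ⟨s * t, ?_⟩
        simp only [Submonoid.smul_def, Submodule.mkQ_apply, ← Submodule.Quotient.mk_smul, Submodule.Quotient.eq]
        refine ⟨(s : B) • y, ?_⟩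
        rw [map_smul, Submonoid.coe_mul, mul_smul, mul_smul, ← smul_sub]
        exact hs
    haveI : Module.Flat R (LocalizedModule qB.primeCompl C') :=
      InjFibre.flat_localized qB.primeCompl (LocalizedModule.mkLinearMap qB.primeCompl C')
    exact Module.Flat.of_linearEquiv ((IsLocalizedModule.iso qB.primeCompl g).restrictScalars R)

end Groth.Agent.RG.Dev
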