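import Mathlib
import Groth.Prelude
import Groth.Agent.RG.Dev.Step
import Groth.Agent.RG.Pure.GeomInt

/-!
Base change of the pieces of a complete dévissage.
-/

set_option autoImplicit false

universe u
open TensorProduct

namespace Groth.Agent.RG.Dev.DevBC

section Point

/-- kernel of a flat algebra to its fibre -/
theorem mem_map_of_one_tmul_eq_zero {R B : Type u} [CommRing R] [CommRing B] [Algebra R B] [Module.Flat R B]
    (p : Ideal R) [p.IsPrime] (b : B) (h : (1 : p.ResidueField) ⊗ₜ[R] b = 0) : b ∈ p.map (algebraMap R B) := by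
  let j : R ⧸ p →ₗ[R] p.ResidueField := (IsScalarTower.toAlgHom R (R ⧸ p) p.ResidueField).toLinearMap
  have hj : Function.Injective j := p.injective_algebraMap_quotient_residueField
  have h1 : (1 : R ⧸ p) ⊗ₜ[R] b = 0 := by
    refine Module.Flat.rTensor_preserves_injective_linearMap (M := B) j hj ?_
    rw [LinearMap.rTensor_tmul, map_zero, ← h]
    congr 1
    exact map_one (algebraMap (R ⧸ p) p.ResidueField)
  let φ : R ⧸ p →ₐ[R] B ⧸ p.map (algebraMap R B) :=
    Ideal.Quotient.liftₐ p (Algebra.ofId R _) fun r hr => by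
      show algebraMap R (B ⧸ p.map (algebraMap R B)) r = 0
      rw [IsScalarTower.algebraMap_apply R B (B ⧸ p.map (algebraMap R B)), Ideal.Quotient.algebraMap_eq,
        Ideal.Quotient.eq_zero_iff_mem]
      exact Ideal.mem_map_of_mem _ hr
  have h2 := congrArg (Algebra.TensorProduct.lift φ (Ideal.Quotient.mkₐ R (p.map (algebraMap R B)))
    fun _ _ => Commute.all _ _) h1
  rw [Algebra.TensorProduct.lift_tmul, map_one, one_mul, map_zero] at h2
  exact Ideal.Quotient.eq_zero_iff_mem.1 h2

theorem one_tmul_eq_zero {R B : Type u} [CommRing R] [CommRing B] [Algebra R B] (p : Ideal R) [p.IsPrime] (b : B)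
    (hb : b ∈ p.map (algebraMap R B)) : (1 : p.ResidueField) ⊗ₜ[R] b = 0 := by
  have hle : p.map (algebraMap R B) ≤
      RingHom.ker (Algebra.TensorProduct.includeRight : B →ₐ[R] p.ResidueField ⊗[R] B).toRingHom := by
    rw [Ideal.map_le_iff_le_comap]
    intro r hr
    show (Algebra.TensorProduct.includeRight : B →ₐ[R] p.ResidueField ⊗[R] B) (algebraMap R B r) = 0
    rw [AlgHom.commutes, IsScalarTower.algebraMap_apply R p.ResidueField, Ideal.algebraMap_residueField_eq_zero.2 hr,
      map_zero]
  exact hle hb

/-- the generic point of the fibre is prime -/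
theorem map_isPrime {R B : Type u} [CommRing R] [CommRing B] [Algebra R B] [Algebra.Smooth R B]
    (h : FlatCA.GeomIrredFibres R B) (p : Ideal R) [p.IsPrime] : (p.map (algebraMap R B)).IsPrime := by
  haveI : Module.Flat R B := Algebra.Smooth.flat R B
  haveI : IsDomain (p.ResidueField ⊗[R] B) := by
    haveI := RG.Pure.isDomain_baseChange_field (geomIntegral_of_smooth h) p.ResidueField
    exact (Algebra.TensorProduct.comm R p.ResidueField B).toRingEquiv.injective.isDomain
      (Algebra.TensorProduct.comm R p.ResidueField B).toRingEquiv.toRingHom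
  have heq : p.map (algebraMap R B) =
      RingHom.ker (Algebra.TensorProduct.includeRight : B →ₐ[R] p.ResidueField ⊗[R] B).toRingHom :=
    le_antisymm (fun b hb => one_tmul_eq_zero p b hb) fun b hb => mem_map_of_one_tmul_eq_zero p b hb
  rw [heq]
  exact RingHom.ker_isPrime _

/-- generic points of fibres go to generic points -/
theorem comap_map_eq {R R' B B' : Type u} [CommRing R] [CommRing R'] [CommRing B] [CommRing B'] [Algebra R R']
    [Algebra R B] [Algebra R' B'] [Algebra R B'] [Algebra B B'] [IsScalarTower R R' B'] [IsScalarTower R B B']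
    [Algebra.IsPushout R R' B B'] [Module.Flat R B] (p : Ideal R) [p.IsPrime] (p' : Ideal R') [p'.IsPrime]
    [hp' : p'.LiesOver p] :
    (p'.map (algebraMap R' B')).comap (algebraMap B B') = p.map (algebraMap R B) := by
  refine le_antisymm (fun b hb => ?_) ?_
  · refine mem_map_of_one_tmul_eq_zero p b ?_
    have h1 : (1 : p'.ResidueField) ⊗ₜ[R'] algebraMap B B' b = 0 := one_tmul_eq_zero p' _ hb
    have h2 := congrArg (TensorProduct.AlgebraTensorModule.congr (LinearEquiv.refl p'.ResidueField p'.ResidueField)
      (Algebra.IsPushout.equiv R R' B B').toLinearEquiv.symm ≪≫ₗ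
      TensorProduct.AlgebraTensorModule.cancelBaseChange R R' p'.ResidueField p'.ResidueField B) h1
    rw [map_zero] at h2
    have h3 : (Algebra.IsPushout.equiv R R' B B').symm (algebraMap B B' b) = (1 : R') ⊗ₜ[R] b := by
      rw [AlgEquiv.symm_apply_eq, Algebra.IsPushout.equiv_tmul, map_one, one_mul]
    change TensorProduct.AlgebraTensorModule.cancelBaseChange R R' p'.ResidueField p'.ResidueField B
      ((1 : p'.ResidueField) ⊗ₜ[R'] ((Algebra.IsPushout.equiv R R' B B').symm (algebraMap B B' b))) = 0 at h2
    rw [h3, TensorProduct.AlgebraTensorModule.cancelBaseChange_tmul, one_smul] at h2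
    let m : p.ResidueField →ₗ[R] p'.ResidueField :=
      (Ideal.ResidueField.mapₐ p p' (Algebra.ofId R R') hp'.over).toLinearMap
    refine Module.Flat.rTensor_preserves_injective_linearMap (M := B) m
      (Ideal.ResidueField.mapₐ p p' (Algebra.ofId R R') hp'.over).toRingHom.injective ?_
    rw [LinearMap.rTensor_tmul, map_zero, ← h2]
    congr 1
    exact map_one (Ideal.ResidueField.mapₐ p p' (Algebra.ofId R R') hp'.over)
  · rw [Ideal.map_le_iff_le_comap]
    intro r hr
    rw [Ideal.mem_comap, Ideal.mem_comap, ← IsScalarTower.algebraMap_apply, IsScalarTower.algebraMap_apply R R' B']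
    exact Ideal.mem_map_of_mem _ ((Ideal.LiesOver.over (p := p) (P := p')).le hr)

end Point

section Linear

variable {B B' : Type u} [CommRing B] [CommRing B'] [Algebra B B'] {M M' : Type u} [AddCommGroup M] [Module B M]
  [AddCommGroup M'] [Module B' M']

/-- base change of a map from a finite free module -/
noncomputable def mapFree (e : B' ⊗[B] M ≃ₗ[B'] M') {r : ℕ} (α : (Fin r → B) →ₗ[B] M) :
    (Fin r → B') →ₗ[B'] M' :=
  e.toLinearMap.comp ((α.baseChange B').comp (TensorProduct.piScalarRight B B' B' (Fin r)).symm.toLinearMap)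

variable (e : B' ⊗[B] M ≃ₗ[B'] M') {r : ℕ} (α : (Fin r → B) →ₗ[B] M)

theorem mapFree_single (j : Fin r) : mapFree e α (Pi.single j 1) = e ((1 : B') ⊗ₜ[B] α (Pi.single j 1)) := by
  simp [mapFree]

theorem range_mapFree : LinearMap.range (mapFree e α) = (LinearMap.range (α.baseChange B')).map e.toLinearMap := by
  rw [mapFree, LinearMap.range_comp, LinearMap.range_comp_of_range_eq_top]
  exact LinearEquiv.range _

theorem range_mapFree_eq_span : LinearMap.range (mapFree e α) =
    Submodule.span B' ((fun m => e ((1 : B') ⊗ₜ[B] m)) '' (LinearMap.range α : Set M)) := by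
  refine le_antisymm ?_ ?_
  · rintro _ ⟨v, rfl⟩
    rw [← (Pi.basisFun B' (Fin r)).sum_repr v, map_sum]
    refine sum_mem fun j _ => ?_
    rw [map_smul, Pi.basisFun_apply, mapFree_single]
    exact Submodule.smul_mem _ _ (Submodule.subset_span ⟨α (Pi.single j 1), LinearMap.mem_range_self α _, rfl⟩)
  · rw [Submodule.span_le]
    rintro _ ⟨_, ⟨x, rfl⟩, rfl⟩
    rw [range_mapFree]
    exact ⟨(1 : B') ⊗ₜ[B] α x, ⟨(1 : B') ⊗ₜ[B] x, by simp⟩, rfl⟩

theorem mapFree_surjective (h : Function.Surjective α) : Function.Surjective (mapFree e α) :=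
  e.surjective.comp ((LinearMap.baseChange_surjective B' h).comp
    (TensorProduct.piScalarRight B B' B' (Fin r)).symm.surjective)

/-- the cokernel of the base change is the base change of the cokernel -/
theorem exists_coker_equiv {M2 M2' : Type u} [AddCommGroup M2] [Module B M2] [AddCommGroup M2'] [Module B' M2']
    (i : (M ⧸ LinearMap.range α) ≃ₗ[B] M2) (e2 : B' ⊗[B] M2 ≃ₗ[B'] M2') :
    Nonempty ((M' ⧸ LinearMap.range (mapFree e α)) ≃ₗ[B'] M2') := by
  let q : M →ₗ[B] M2 := i.toLinearMap.comp (LinearMap.range α).mkQ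
  have hq : Function.Surjective q := i.surjective.comp (Submodule.mkQ_surjective _)
  have hex : Function.Exact α q := by
    rw [LinearMap.exact_iff]
    simp [q, LinearEquiv.ker_comp]
  let Q : B' ⊗[B] M →ₗ[B'] M2' := e2.toLinearMap.comp (q.baseChange B')
  have hQs : Function.Surjective Q := e2.surjective.comp (LinearMap.baseChange_surjective B' hq)
  have hQk : LinearMap.ker Q = LinearMap.range (α.baseChange B') := by
    rw [LinearEquiv.ker_comp]
    refine SetLike.ext fun z => ?_
    exact (lTensor_exact B' hex hq z)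
  let P : M' →ₗ[B'] M2' := Q.comp e.symm.toLinearMap
  have hPk : LinearMap.ker P = LinearMap.range (mapFree e α) := by
    rw [range_mapFree, LinearMap.ker_comp, hQk]
    exact (Submodule.map_equiv_eq_comap_symm e _).symm
  exact ⟨Submodule.quotEquivOfEq _ _ hPk.symm ≪≫ₗ
    P.quotKerEquivOfSurjective (hQs.comp e.symm.surjective)⟩

/-- bijectivity at a point above -/
theorem baseChange_mapFree_bijective (K K' : Type u) [Field K] [CommRing K'] [Algebra B K] [Algebra B' K']
    [Algebra B K'] [IsScalarTower B B' K'] [Algebra K K'] [IsScalarTower B K K']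
    (h : Function.Bijective (α.baseChange K)) : Function.Bijective ((mapFree e α).baseChange K') := by
  have h1 : Function.Bijective (α.baseChange K') := by
    let E1 := TensorProduct.AlgebraTensorModule.cancelBaseChange B K K' K' (Fin r → B)
    let E2 := TensorProduct.AlgebraTensorModule.cancelBaseChange B K K' K' M
    have he : ⇑(α.baseChange K') = E2 ∘ ((α.baseChange K).baseChange K') ∘ E1.symm := by
      have : α.baseChange K' = E2.toLinearMap.comp (((α.baseChange K).baseChange K').comp E1.symm.toLinearMap) := by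
        refine TensorProduct.AlgebraTensorModule.ext fun k x => ?_
        simp [E1, E2]
      exact congrArg DFunLike.coe this
    rw [he]
    exact E2.bijective.comp ((((LinearEquiv.ofBijective _ h).baseChange K K' _ _).bijective).comp E1.symm.bijective)
  let F1 := TensorProduct.AlgebraTensorModule.cancelBaseChange B B' K' K' (Fin r → B)
  let F2 := TensorProduct.AlgebraTensorModule.cancelBaseChange B B' K' K' M
  let G1 := ((TensorProduct.piScalarRight B B' B' (Fin r)).symm).baseChange B' K' _ _
  let G2 := e.baseChange B' K' _ _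
  have he : (mapFree e α).baseChange K' =
      G2.toLinearMap.comp (F2.symm.toLinearMap.comp ((α.baseChange K').comp (F1.toLinearMap.comp G1.toLinearMap))) := by
    refine TensorProduct.AlgebraTensorModule.ext fun k v => ?_
    have key : ∀ w : B' ⊗[B] (Fin r → B),
        k ⊗ₜ[B'] e (α.baseChange B' w) = G2 (F2.symm (α.baseChange K' (F1 (k ⊗ₜ[B'] w)))) := by
      intro w
      induction w using TensorProduct.induction_on with
      | zero => simp
      | tmul b x =>
        simp only [LinearMap.baseChange_tmul, F1, TensorProduct.AlgebraTensorModule.cancelBaseChange_tmul, F2,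
          TensorProduct.AlgebraTensorModule.cancelBaseChange_symm_tmul]
        show k ⊗ₜ[B'] e (b ⊗ₜ[B] α x) = (b • k) ⊗ₜ[B'] e ((1 : B') ⊗ₜ[B] α x)
        rw [TensorProduct.smul_tmul, ← map_smul, TensorProduct.smul_tmul', smul_eq_mul, mul_one]
      | add a b ha hb => simp only [TensorProduct.tmul_add, map_add, ha, hb]
    exact key _
  rw [he]
  exact G2.bijective.comp (F2.symm.bijective.comp (h1.comp (F1.bijective.comp G1.bijective)))

end Linear

end Groth.Agent.RG.Dev.DevBC
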