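import Groth.Agent.RG.Dev.FibreBij
import Groth.Agent.RG.Dev.Shrink

/-!
# Elementary étale neighbourhoods of rings
-/

set_option autoImplicit false

universe u

open CategoryTheory AlgebraicGeometry Limits
open scoped TensorProduct

namespace Groth.Agent.RG.Dev.EtaleMaps

theorem bijective_map_iff {R R' : Type u} [CommRing R] [CommRing R'] [Algebra R R'] (p : Ideal R) [p.IsPrime]
    (p' : Ideal R') [p'.IsPrime] (h : p = p'.comap (algebraMap R R')) :
    Function.Bijective (Ideal.ResidueField.map p p' (algebraMap R R') h) ↔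
      Function.Bijective (Ideal.ResidueField.mapₐ p p' (Algebra.ofId R R') h) := by
  have : Ideal.ResidueField.map p p' (algebraMap R R') h =
      (Ideal.ResidueField.mapₐ p p' (Algebra.ofId R R') h).toRingHom := by
    refine Ideal.ResidueField.ringHom_ext (RingHom.ext fun a => ?_)
    simp [IsScalarTower.algebraMap_apply R R' p'.ResidueField]
  rw [this]
  rfl

theorem isEtaleNhd_iff {R R' : Type u} [CommRing R] [CommRing R'] [Algebra R R'] (p : Ideal R) [p.IsPrime]
    (p' : Ideal R') [p'.IsPrime] : FlatCA.IsEtaleNhd R R' p p' ↔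
      Algebra.Etale R R' ∧ ∃ h : p'.LiesOver p,
        Function.Bijective (Ideal.ResidueField.map p p' (algebraMap R R') h.over) :=
  and_congr_right fun _ => exists_congr fun h => (bijective_map_iff p p' h.over).symm

/-- Composition of elementary étale neighbourhoods. -/
theorem isEtaleNhd_trans {R R₁ R₂ : Type u} [CommRing R] [CommRing R₁] [CommRing R₂] [Algebra R R₁] [Algebra R₁ R₂]
    [Algebra R R₂] [IsScalarTower R R₁ R₂] {p : Ideal R} [p.IsPrime] {p₁ : Ideal R₁} [p₁.IsPrime] {p₂ : Ideal R₂}
    [p₂.IsPrime] (h₁ : FlatCA.IsEtaleNhd R R₁ p p₁) (h₂ : FlatCA.IsEtaleNhd R₁ R₂ p₁ p₂) :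
    FlatCA.IsEtaleNhd R R₂ p p₂ := by
  obtain ⟨e₁, l₁, b₁⟩ := (isEtaleNhd_iff p p₁).1 h₁
  obtain ⟨e₂, l₂, b₂⟩ := (isEtaleNhd_iff p₁ p₂).1 h₂
  haveI := e₁
  haveI := e₂
  haveI := l₁
  haveI := l₂
  refine (isEtaleNhd_iff p p₂).2 ⟨Algebra.Etale.comp R R₁ R₂, Ideal.LiesOver.trans p₂ p₁ p, ?_⟩
  have : Ideal.ResidueField.map p p₂ (algebraMap R R₂) (Ideal.LiesOver.trans p₂ p₁ p).over =
      (Ideal.ResidueField.map p₁ p₂ (algebraMap R₁ R₂) l₂.over).comp
        (Ideal.ResidueField.map p p₁ (algebraMap R R₁) l₁.over) := by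
    refine Ideal.ResidueField.ringHom_ext (RingHom.ext fun a => ?_)
    simp only [RingHom.comp_apply, Ideal.ResidueField.map_algebraMap]
    rw [← IsScalarTower.algebraMap_apply R R₁ R₂]
  rw [this]
  exact b₂.comp b₁

/-- Base change of an elementary étale neighbourhood of the base. -/
theorem isEtaleNhd_pushout {R R' S S' : Type u} [CommRing R] [CommRing R'] [CommRing S] [CommRing S'] [Algebra R R']
    [Algebra R S] [Algebra R' S'] [Algebra R S'] [Algebra S S'] [IsScalarTower R R' S'] [IsScalarTower R S S']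
    [Algebra.IsPushout R R' S S'] {p : Ideal R} [p.IsPrime] {p' : Ideal R'} [p'.IsPrime]
    (h : FlatCA.IsEtaleNhd R R' p p') (q : Ideal S) [q.IsPrime] [q.LiesOver p] (q' : Ideal S') [q'.IsPrime]
    [q'.LiesOver p'] [q'.LiesOver q] : FlatCA.IsEtaleNhd S S' q q' := by
  obtain ⟨e, l, b⟩ := h
  haveI := e
  haveI := l
  refine (isEtaleNhd_iff q q').2 ⟨?_, ‹_›, FibreBij.residue_bijective p p' b q q'⟩
  haveI : Algebra.IsPushout R S R' S' := Algebra.IsPushout.symm inferInstance
  exact Algebra.Etale.of_equiv (Algebra.IsPushout.equiv R S R' S')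

/-- A principal open is an elementary étale neighbourhood. -/
theorem isEtaleNhd_away {R R' : Type u} [CommRing R] [CommRing R'] [Algebra R R'] (g : R) [IsLocalization.Away g R']
    (p : Ideal R) [p.IsPrime] (p' : Ideal R') [p'.IsPrime] [p'.LiesOver p] : FlatCA.IsEtaleNhd R R' p p' :=
  (isEtaleNhd_iff p p').2
    ⟨Algebra.Etale.of_isLocalizationAway g, ‹_›, Shrink.residue_bijective (Submonoid.powers g) p p' (p'.over_def p)⟩

/-- A morphism which becomes smooth of relative dimension `n` after composing with an étale one is so. -/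
theorem smoothRelDim_of_comp_etale {U V Z : Scheme.{u}} (f : U ⟶ V) (g : V ⟶ Z) [Etale g] (n : ℕ)
    [SmoothOfRelativeDimension n (f ≫ g)] : SmoothOfRelativeDimension n f := by
  let Γ : U ⟶ pullback (f ≫ g) g := pullback.lift (𝟙 U) f (Category.id_comp _)
  have : MorphismProperty.HasOfPostcompProperty @IsOpenImmersion @Etale :=
    MorphismProperty.hasOfPostcompProperty_iff_le_diagonal.2 fun _ _ k (hk : Etale k) =>
      (inferInstance : IsOpenImmersion (pullback.diagonal k))
  have hΓ : IsOpenImmersion Γ := MorphismProperty.of_postcomp (W := @IsOpenImmersion) (W' := @Etale) Γ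
    (pullback.fst (f ≫ g) g) (MorphismProperty.pullback_fst _ _ ‹_›) (by rw [pullback.lift_fst]; infer_instance)
  haveI := smoothOfRelativeDimension_isStableUnderBaseChange (n := n)
  haveI : SmoothOfRelativeDimension n (pullback.snd (f ≫ g) g) := MorphismProperty.pullback_snd _ _ ‹_›
  have h : SmoothOfRelativeDimension (0 + n) (Γ ≫ pullback.snd (f ≫ g) g) := inferInstance
  rwa [zero_add, pullback.lift_snd] at h

/-- Smoothness of relative dimension `n` is kept under étale changes of source and target. -/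
theorem smoothRelDim_etale {R R' D D' : Type u} [CommRing R] [CommRing R'] [CommRing D] [CommRing D'] [Algebra R R']
    [Algebra R D] [Algebra D D'] [Algebra R' D'] [Algebra R D'] [IsScalarTower R R' D'] [IsScalarTower R D D']
    [Algebra.Etale R R'] [Algebra.Etale D D'] {n : ℕ} (h : FlatCA.SmoothRelDim n R D) :
    FlatCA.SmoothRelDim n R' D' := by
  haveI : Etale (Spec.map (CommRingCat.ofHom (algebraMap R R'))) :=
    (HasRingHomProperty.Spec_iff (P := @Etale)).2 (RingHom.etale_algebraMap.2 inferInstance)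
  haveI : Etale (Spec.map (CommRingCat.ofHom (algebraMap D D'))) :=
    (HasRingHomProperty.Spec_iff (P := @Etale)).2 (RingHom.etale_algebraMap.2 inferInstance)
  haveI : SmoothOfRelativeDimension n (Spec.map (CommRingCat.ofHom (algebraMap R D))) := h
  have h2 : SmoothOfRelativeDimension (0 + n)
      (Spec.map (CommRingCat.ofHom (algebraMap D D')) ≫ Spec.map (CommRingCat.ofHom (algebraMap R D))) := inferInstance
  rw [zero_add, ← Spec.map_comp, ← CommRingCat.ofHom_comp, ← IsScalarTower.algebraMap_eq,
    IsScalarTower.algebraMap_eq R R' D', CommRingCat.ofHom_comp, Spec.map_comp] at h2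
  haveI := h2
  exact smoothRelDim_of_comp_etale (Spec.map (CommRingCat.ofHom (algebraMap R' D')))
    (Spec.map (CommRingCat.ofHom (algebraMap R R'))) n

/-- The generic point of a fibre lifts to the generic point. -/
theorem comap_map_eq {R R' D D' : Type u} [CommRing R] [CommRing R'] [CommRing D] [CommRing D'] [Algebra R R']
    [Algebra R D] [Algebra D D'] [Algebra R' D'] [Algebra R D'] [IsScalarTower R R' D'] [IsScalarTower R D D']
    [Algebra.Etale R R'] [Algebra.Etale D D'] (p : Ideal R) [p.IsPrime] (p' : Ideal R') [p'.IsPrime] [p'.LiesOver p]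
    [(p.map (algebraMap R D)).IsPrime] [(p'.map (algebraMap R' D')).IsPrime]
    (hp' : (p'.map (algebraMap R' D')).comap (algebraMap R' D') = p')
    (hp : (p.map (algebraMap R D)).comap (algebraMap R D) = p) :
    (p'.map (algebraMap R' D')).comap (algebraMap D D') = p.map (algebraMap R D) := by
  let ξ := p.map (algebraMap R D)
  let ξ' := p'.map (algebraMap R' D')
  have hle : ξ ≤ ξ'.comap (algebraMap D D') := by
    rw [Ideal.map_le_iff_le_comap, Ideal.comap_comap, ← IsScalarTower.algebraMap_eq, IsScalarTower.algebraMap_eq R R' D',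
      ← Ideal.comap_comap, hp']
    exact (p'.over_def p).le
  haveI : Module.Flat D D' := Algebra.Smooth.flat D D'
  haveI : ξ'.LiesOver (ξ'.comap (algebraMap D D')) := ⟨rfl⟩
  obtain ⟨Q, hQ, hQp, hQo⟩ := Ideal.exists_ideal_le_liesOver_of_le ξ' hle
  haveI := hQp
  have hQR : Q.comap (algebraMap R' D') = p' := by
    refine Algebra.QuasiFinite.eq_of_le_of_under_eq (R := R) _ _ ?_ ?_
    · rw [← hp']; exact Ideal.comap_mono hQ
    · show (Q.comap (algebraMap R' D')).comap (algebraMap R R') = p'.comap (algebraMap R R')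
      rw [Ideal.comap_comap, ← IsScalarTower.algebraMap_eq, IsScalarTower.algebraMap_eq R D D', ← Ideal.comap_comap]
      exact ((congrArg (Ideal.comap (algebraMap R D)) hQo.over.symm).trans hp).trans (p'.over_def p)
  refine le_antisymm ?_ hle
  refine (Ideal.comap_mono (?_ : ξ' ≤ Q)).trans hQo.over.ge
  exact Ideal.map_le_iff_le_comap.2 hQR.ge

end Groth.Agent.RG.Dev.EtaleMaps
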