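import Groth.Agent.RG.Dev.StepData
import Groth.Agent.RG.Dev.EtaleMaps
import Groth.Agent.RG.Dev.DevBC

/-!
# Base change of complete dévissages
-/

set_option autoImplicit false

universe u

open scoped TensorProduct
open Groth.Agent

namespace Groth.Agent.RG.Dev

theorem exists_pushouts {R S A B R' S' : Type u} [CommRing R] [CommRing S] [CommRing A] [CommRing B] [CommRing R'] [CommRing S']
    [Algebra R S] [Algebra R A] [Algebra R B] [Algebra B A] [IsScalarTower R B A] [Algebra S A] [IsScalarTower R S A]
    [Algebra R R'] [Algebra R' S'] [Algebra R S'] [Algebra S S'] [IsScalarTower R R' S'] [IsScalarTower R S S']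
    [Algebra.IsPushout R R' S S'] :
    ∃ (A' B' : Type u) (_ : CommRing A') (_ : CommRing B') (_ : Algebra R' A') (_ : Algebra R' B') (_ : Algebra R A')
      (_ : Algebra R B') (_ : IsScalarTower R R' A') (_ : IsScalarTower R R' B') (_ : Algebra A A') (_ : Algebra B B')
      (_ : IsScalarTower R A A') (_ : IsScalarTower R B B') (_ : Algebra B' A') (_ : IsScalarTower R' B' A')
      (_ : Algebra B A') (_ : IsScalarTower B A A') (_ : IsScalarTower B B' A') (_ : Algebra S' A') (_ : IsScalarTower R' S' A')
      (_ : Algebra S A') (_ : IsScalarTower S A A') (_ : IsScalarTower S S' A'),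
      Algebra.IsPushout R R' A A' ∧ Algebra.IsPushout R R' B B' ∧ Algebra.IsPushout B B' A A' ∧
      Algebra.IsPushout S S' A A' := by
  let A' := R' ⊗[R] A
  let B' := R' ⊗[R] B
  letI : Algebra A A' := Algebra.TensorProduct.rightAlgebra
  letI : Algebra B B' := Algebra.TensorProduct.rightAlgebra
  haveI pA : Algebra.IsPushout R R' A A' := inferInstance
  haveI pB : Algebra.IsPushout R R' B B' := inferInstance
  let φ : B' →ₐ[R'] A' := Algebra.TensorProduct.map (AlgHom.id R' R') (IsScalarTower.toAlgHom R B A)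
  letI : Algebra B' A' := φ.toRingHom.toAlgebra
  haveI : IsScalarTower R' B' A' := IsScalarTower.of_algebraMap_eq fun r => (φ.commutes r).symm
  letI : Algebra B A' := ((algebraMap A A').comp (algebraMap B A)).toAlgebra
  haveI : IsScalarTower B A A' := IsScalarTower.of_algebraMap_eq fun _ => rfl
  haveI : IsScalarTower B B' A' := IsScalarTower.of_algebraMap_eq fun b => by
    show (1 : R') ⊗ₜ[R] algebraMap B A b = φ ((1 : R') ⊗ₜ[R] b)
    exact ((Algebra.TensorProduct.map_tmul (AlgHom.id R' R') (IsScalarTower.toAlgHom R B A) (1 : R') b).trans rfl).symm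
  let ψ : S' →ₐ[R'] A' := (Algebra.TensorProduct.map (AlgHom.id R' R') (IsScalarTower.toAlgHom R S A)).comp
    (Algebra.IsPushout.equiv R R' S S').symm.toAlgHom
  letI : Algebra S' A' := ψ.toRingHom.toAlgebra
  haveI : IsScalarTower R' S' A' := IsScalarTower.of_algebraMap_eq fun r => (ψ.commutes r).symm
  letI : Algebra S A' := ((algebraMap A A').comp (algebraMap S A)).toAlgebra
  haveI : IsScalarTower S A A' := IsScalarTower.of_algebraMap_eq fun _ => rfl
  haveI : IsScalarTower S S' A' := IsScalarTower.of_algebraMap_eq fun s => by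
    have h3 : (Algebra.IsPushout.equiv R R' S S').symm (algebraMap S S' s) = (1 : R') ⊗ₜ[R] s := by
      rw [AlgEquiv.symm_apply_eq, Algebra.IsPushout.equiv_tmul, map_one, one_mul]
    show (1 : R') ⊗ₜ[R] algebraMap S A s = ψ (algebraMap S S' s)
    show (1 : R') ⊗ₜ[R] algebraMap S A s = Algebra.TensorProduct.map (AlgHom.id R' R') (IsScalarTower.toAlgHom R S A)
      ((Algebra.IsPushout.equiv R R' S S').symm (algebraMap S S' s))
    rw [h3]
    exact ((Algebra.TensorProduct.map_tmul (AlgHom.id R' R') (IsScalarTower.toAlgHom R S A) (1 : R') s).trans rfl).symm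
  haveI : IsScalarTower R B' A' := IsScalarTower.of_algebraMap_eq fun r => by
    rw [IsScalarTower.algebraMap_apply R R' B', ← IsScalarTower.algebraMap_apply R' B' A',
      ← IsScalarTower.algebraMap_apply R R' A']
  haveI : IsScalarTower R S' A' := IsScalarTower.of_algebraMap_eq fun r => by
    rw [IsScalarTower.algebraMap_apply R R' S', ← IsScalarTower.algebraMap_apply R' S' A',
      ← IsScalarTower.algebraMap_apply R R' A']
  haveI : Algebra.IsPushout R A R' A' := Algebra.IsPushout.symm inferInstance
  haveI : Algebra.IsPushout R B R' B' := Algebra.IsPushout.symm inferInstance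
  haveI : Algebra.IsPushout R S R' S' := Algebra.IsPushout.symm inferInstance
  have h1 : Algebra.IsPushout B A B' A' :=
    (Algebra.IsPushout.comp_iff R B R' B' (T := A) (T' := A')).1 inferInstance
  have h2 : Algebra.IsPushout S A S' A' :=
    (Algebra.IsPushout.comp_iff R S R' S' (T := A) (T' := A')).1 inferInstance
  exact ⟨A', B', inferInstance, inferInstance, inferInstance, inferInstance, inferInstance, inferInstance, inferInstance,
    inferInstance, inferInstance, inferInstance, inferInstance, inferInstance, inferInstance, inferInstance,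
    inferInstance, inferInstance, inferInstance, inferInstance, inferInstance, inferInstance, inferInstance,
    inferInstance, pA, pB, Algebra.IsPushout.symm h1, Algebra.IsPushout.symm h2⟩

open AlgebraicGeometry CategoryTheory in
/-- Base change of one step of a complete dévissage. -/
theorem exists_step_baseChange {R S : Type u} [CommRing R] [CommRing S] [Algebra R S] {N : Type u}
    [AddCommGroup N] [Module S N] {p : Ideal R} [p.IsPrime] {q : Ideal S} [q.IsPrime] [q.LiesOver p]
    (s : Step1 R S N p q)
    {R' : Type u} [CommRing R'] [Algebra R R'] {p' : Ideal R'} [p'.IsPrime] [hp' : p'.LiesOver p]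
    (hκ : Function.Bijective (Ideal.ResidueField.mapₐ p p' (Algebra.ofId R R') hp'.over))
    {S' : Type u} [CommRing S'] [Algebra R' S'] [Algebra R S'] [Algebra S S'] [IsScalarTower R R' S']
    [IsScalarTower R S S'] [Algebra.IsPushout R R' S S']
    {N' : Type u} [AddCommGroup N'] [Module S' N'] [Module S N'] [IsScalarTower S S' N']
    (f : N →ₗ[S] N') (hf : IsBaseChange S' f)
    (q' : Ideal S') [q'.IsPrime] [q'.LiesOver q] [q'.LiesOver p'] :
    ∃ (s' : Step1 R' S' N' p' q') (_ : Algebra s.B s'.B) (_ : Algebra R s'.B) (_ : IsScalarTower R R' s'.B)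
      (_ : IsScalarTower R s.B s'.B),
      Algebra.IsPushout R R' s.B s'.B ∧ s'.qB.LiesOver s.qB ∧ (Function.Surjective s.α → Function.Surjective s'.α) ∧
      Nonempty ((s'.M ⧸ LinearMap.range s'.α) ≃ₗ[s'.B] s'.B ⊗[s.B] (s.M ⧸ LinearMap.range s.α)) := by
  obtain ⟨A', B', _, _, _, _, _, _, _, _, _, _, _, _, _, _, _, _, _, _, _, _, _, _, pA, pB, pBA, pSA⟩ :=
    exists_pushouts (R := R) (S := S) (A := s.A) (B := s.B) (R' := R') (S' := S')
  haveI := pA
  haveI := pB
  haveI := pBA
  haveI := pSA
  haveI := s.smooth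
  haveI := s.fpSA
  haveI := s.finiteBA
  haveI := s.finiteM
  haveI : IsScalarTower R B' A' := IsScalarTower.of_algebraMap_eq fun r => by
    rw [IsScalarTower.algebraMap_apply R R' B', ← IsScalarTower.algebraMap_apply R' B' A',
      ← IsScalarTower.algebraMap_apply R R' A']
  let M' := A' ⊗[s.A] s.M
  let g : s.M →ₗ[s.A] M' := TensorProduct.mk s.A A' s.M 1
  haveI : IsScalarTower R' B' M' := IsScalarTower.of_algebraMap_smul fun r m => by
    rw [← algebraMap_smul A' (algebraMap R' B' r) m, ← IsScalarTower.algebraMap_apply R' B' A', algebraMap_smul]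
  let e : B' ⊗[s.B] s.M ≃ₗ[B'] M' := (Algebra.IsPushout.cancelBaseChange s.B B' s.A A' s.M).symm
  let α' := DevBC.mapFree e s.α
  haveI hsm : Algebra.Smooth R' B' := Algebra.Smooth.of_equiv (Algebra.IsPushout.equiv R R' s.B B')
  have hpb := isPullback_SpecMap_of_isPushout _ _ _ _ (CommRingCat.isPushout_of_isPushout R R' s.B B')
  have hirr : FlatCA.GeomIrredFibres R' B' :=
    MorphismProperty.of_isPullback (P := @GeometricallyIrreducible) hpb.flip s.geomIrred
  have hrel : FlatCA.SmoothRelDim s.d R' B' := by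
    haveI := smoothOfRelativeDimension_isStableUnderBaseChange (n := s.d)
    exact MorphismProperty.of_isPullback (P := @SmoothOfRelativeDimension s.d) hpb.flip s.relDim
  haveI hpB : (p'.map (algebraMap R' B')).IsPrime := DevBC.map_isPrime hirr p'
  haveI : Module.Flat R s.B := Algebra.Smooth.flat R s.B
  have hξ : p.map (algebraMap R s.B) = (p'.map (algebraMap R' B')).comap (algebraMap s.B B') :=
    (DevBC.comap_map_eq p p').symm
  letI : Algebra (p.map (algebraMap R s.B)).ResidueField (p'.map (algebraMap R' B')).ResidueField :=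
    (Ideal.ResidueField.map _ _ (algebraMap s.B B') hξ).toAlgebra
  haveI : IsScalarTower s.B (p.map (algebraMap R s.B)).ResidueField (p'.map (algebraMap R' B')).ResidueField :=
    IsScalarTower.of_algebraMap_eq fun x => by
      rw [RingHom.algebraMap_toAlgebra, Ideal.ResidueField.map_algebraMap, ← IsScalarTower.algebraMap_apply]
  have hfib : Function.Bijective (α'.baseChange (p'.map (algebraMap R' B')).ResidueField) :=
    DevBC.baseChange_mapFree_bijective e s.α _ _ s.fibreIso
  haveI : s.qA.LiesOver p := Ideal.LiesOver.trans s.qA s.qB p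
  obtain ⟨qB', hqB', hqB'p, hqB'q⟩ := FibreBij.exists_liesOver p p' hκ (S' := B') s.qB
  obtain ⟨qA', hqA', hqA'p, hqA'q⟩ := FibreBij.exists_liesOver p p' hκ (S' := A') s.qA
  haveI := hqB'
  haveI := hqA'
  haveI := hqB'p
  haveI := hqA'p
  haveI := hqB'q
  haveI := hqA'q
  haveI : (qA'.comap (algebraMap B' A')).LiesOver p' := ⟨by
    rw [Ideal.under, Ideal.comap_comap, ← IsScalarTower.algebraMap_eq]; exact hqA'p.over⟩
  haveI hover : qA'.LiesOver qB' := ⟨(FibreBij.eq_of_liesOver p p' hκ s.qB _ qB' ⟨by
    rw [Ideal.under, Ideal.comap_comap, ← IsScalarTower.algebraMap_eq, IsScalarTower.algebraMap_eq s.B s.A A',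
      ← Ideal.comap_comap]
    exact s.overA.over.trans (congrArg (Ideal.comap _) hqA'q.over)⟩ inferInstance).symm⟩
  have huniq : ∀ (Q : Ideal A') [Q.IsPrime], Q.LiesOver qB' → Q = qA' := fun Q _ hQ => by
    haveI := hQ
    haveI : Q.LiesOver p' := Ideal.LiesOver.trans Q qB' p'
    refine FibreBij.eq_of_liesOver p p' hκ s.qA Q qA' ⟨(s.uniq (Q.comap (algebraMap s.A A')) ⟨?_⟩).symm⟩ hqA'q
    rw [Ideal.under, Ideal.comap_comap, ← IsScalarTower.algebraMap_eq, IsScalarTower.algebraMap_eq s.B B' A',
      ← Ideal.comap_comap]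
    exact hqB'q.over.trans (congrArg (Ideal.comap _) hQ.over)
  have hq0 : qA'.comap (algebraMap S' A') = q' := by
    haveI : (qA'.comap (algebraMap S' A')).LiesOver p' := ⟨by
      rw [Ideal.under, Ideal.comap_comap, ← IsScalarTower.algebraMap_eq]; exact hqA'p.over⟩
    refine FibreBij.eq_of_liesOver p p' hκ q _ q' ⟨?_⟩ inferInstance
    rw [Ideal.under, Ideal.comap_comap, ← IsScalarTower.algebraMap_eq, IsScalarTower.algebraMap_eq S s.A A',
      ← Ideal.comap_comap]
    exact s.q0.symm.trans (congrArg (Ideal.comap _) hqA'q.over)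
  haveI : Module.Finite s.B s.M := Module.Finite.trans s.A s.M
  have hloc := FibreBij.localDim_support p p' hκ s.M M'
    ((e.toLinearMap.restrictScalars s.B).comp (TensorProduct.mk s.B B' s.M 1))
    (IsBaseChange.of_equiv e fun _ => rfl) s.qB qB' _ s.locDim
  haveI : Algebra.IsPushout S s.A S' A' := Algebra.IsPushout.symm inferInstance
  have hsurj : Function.Surjective (algebraMap S' A') :=
    @RingHom.surjective_isStableUnderBaseChange S s.A S' A' _ _ _ _ _ _ _ _ _ _ _ inferInstance s.surjSA
  refine ⟨{ A := A', B := B', M := M', r := s.r, α := α', surjSA := hsurj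
            fpSA := Algebra.FinitePresentation.equiv (Algebra.IsPushout.equiv S S' s.A A')
            finiteBA := Module.Finite.equiv (Algebra.IsPushout.equiv s.B B' s.A A').toLinearEquiv
            smooth := hsm, geomIrred := hirr, finiteM := inferInstance
            isoN := hf.equiv.symm ≪≫ₗ TensorProduct.AlgebraTensorModule.congr (LinearEquiv.refl S' S') s.isoN ≪≫ₗ
              (Algebra.IsPushout.cancelBaseChange S S' s.A A' s.M).symm
            fibreIso := hfib, qB := qB', qA := qA'
            pureTrans := FibreBij.purelyTranscendental p p' hκ s.qB qB' s.pureTrans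
            uniq := huniq, q0 := hq0, d := s.d, relDim := hrel, locDim := hloc },
    inferInstance, inferInstance, inferInstance, inferInstance, pB, hqB'q,
    fun h => DevBC.mapFree_surjective e s.α h, ?_⟩
  exact DevBC.exists_coker_equiv e s.α (LinearEquiv.refl s.B _) (LinearEquiv.refl B' _)

/-- Complete dévissages at a point survive base change preserving the residue field. -/
theorem hasDev_baseChange_aux {R : Type u} [CommRing R] {p : Ideal R} [p.IsPrime]
    {R' : Type u} [CommRing R'] [Algebra R R'] {p' : Ideal R'} [p'.IsPrime] [hp' : p'.LiesOver p]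
    (hκ : Function.Bijective (Ideal.ResidueField.mapₐ p p' (Algebra.ofId R R') hp'.over)) (n : ℕ) :
    ∀ {S : Type u} [CommRing S] [Algebra R S] {N : Type u} [AddCommGroup N] [Module S N] {q : Ideal S} [q.IsPrime]
      [q.LiesOver p] {S' : Type u} [CommRing S'] [Algebra R' S'] [Algebra R S'] [Algebra S S'] [IsScalarTower R R' S']
      [IsScalarTower R S S'] [Algebra.IsPushout R R' S S']
      {N' : Type u} [AddCommGroup N'] [Module S' N'] [Module S N'] [IsScalarTower S S' N']
      (f : N →ₗ[S] N') (_ : IsBaseChange S' f)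
      (q' : Ideal S') [q'.IsPrime] [q'.LiesOver q] [q'.LiesOver p'],
      HasDevN R S N p q n → FlatCA.HasCompleteDevissageAt R' S' N' p' q' := by
  induction n with
  | zero =>
    intro S _ _ N _ _ q _ _ S' _ _ _ _ _ _ _ N' _ _ _ _ f hf q' _ _ _ h
    obtain ⟨𝒟, h0, -⟩ := h
    exact absurd h0 (Nat.pos_iff_ne_zero.1 𝒟.pos)
  | succ k ih =>
    intro S _ _ N _ _ q _ _ S' _ _ _ _ _ _ _ N' _ _ _ _ f hf q' _ _ _ h
    obtain ⟨s, h1, h2⟩ := exists_step1 h
    obtain ⟨s', _, _, _, _, hpo, hover, hsurj, ⟨e⟩⟩ := exists_step_baseChange s hκ f hf q'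
    rcases Nat.eq_zero_or_pos k with rfl | hk
    · exact hasDev_single s' (hsurj (h1 rfl))
    · haveI := hpo
      haveI := hover
      refine hasDev_prepend s' (s'.B ⊗[s.B] (s.M ⧸ LinearMap.range s.α)) e ?_
      exact ih (TensorProduct.mk s.B s'.B (s.M ⧸ LinearMap.range s.α) 1) (TensorProduct.isBaseChange _ _ _) s'.qB
        (by simpa using h2 (by omega))

/-- Complete dévissages at a point survive base change preserving the residue field. -/
theorem hasDev_baseChange {R S : Type u} [CommRing R] [CommRing S] [Algebra R S] {N : Type u}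
    [AddCommGroup N] [Module S N] {p : Ideal R} [p.IsPrime] {q : Ideal S} [q.IsPrime] [q.LiesOver p]
    {R' : Type u} [CommRing R'] [Algebra R R'] {p' : Ideal R'} [p'.IsPrime] [hp' : p'.LiesOver p]
    (hκ : Function.Bijective (Ideal.ResidueField.mapₐ p p' (Algebra.ofId R R') hp'.over))
    {S' : Type u} [CommRing S'] [Algebra R' S'] [Algebra R S'] [Algebra S S'] [IsScalarTower R R' S']
    [IsScalarTower R S S'] [Algebra.IsPushout R R' S S']
    {N' : Type u} [AddCommGroup N'] [Module S' N'] [Module S N'] [IsScalarTower S S' N']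
    (f : N →ₗ[S] N') (hf : IsBaseChange S' f)
    (q' : Ideal S') [q'.IsPrime] [q'.LiesOver q] [q'.LiesOver p']
    (h : FlatCA.HasCompleteDevissageAt R S N p q) : FlatCA.HasCompleteDevissageAt R' S' N' p' q' := by
  obtain ⟨𝒟, h𝒜⟩ := h
  exact hasDev_baseChange_aux hκ 𝒟.n f hf q' ⟨𝒟, rfl, h𝒜⟩

end Groth.Agent.RG.Dev
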