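import Mathlib
import Groth.Prelude

/-!
Localised families of a complete dévissage, with a field in the indices beyond the length.
-/

set_option autoImplicit false

universe u

namespace Groth.Agent.RG.Dev.LocFamily

/-- families which agree with `X` below `n` and with `L` from `n` on -/
structure Glue (R' : Type u) [CommRing R'] (n : ℕ) (X : ℕ → Type u) [∀ i, CommRing (X i)] [∀ i, Algebra R' (X i)]
    (L : Type u) [CommRing L] [Algebra R' L] : Type (u + 1) where
  T : ℕ → Type u
  [cT : ∀ i, CommRing (T i)]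
  [lT : ∀ i, Algebra R' (T i)]
  head : ∀ i, i < n → (T i ≃ₐ[R'] X i)
  tail : ∀ i, n ≤ i → (T i ≃ₐ[R'] L)

attribute [instance] Glue.cT Glue.lT

theorem exists_glue (R' : Type u) [CommRing R'] (n : ℕ) (X : ℕ → Type u) [∀ i, CommRing (X i)]
    [∀ i, Algebra R' (X i)] (L : Type u) [CommRing L] [Algebra R' L] : Nonempty (Glue R' n X L) := by
  classical
  let J : ∀ i, Ideal (X i × L) := fun i => if i < n then Ideal.prod ⊥ ⊤ else Ideal.prod ⊤ ⊥
  refine ⟨{ T := fun i => (X i × L) ⧸ J i, head := fun i hi => ?_, tail := fun i hi => ?_ }⟩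
  · refine (Ideal.quotientEquivAlgOfEq R' (I := J i) (J := RingHom.ker (AlgHom.fst R' (X i) L)) ?_).trans
      (Ideal.quotientKerAlgEquivOfSurjective (f := AlgHom.fst R' (X i) L) fun x => ⟨(x, 0), rfl⟩)
    ext x
    simp [J, hi]
  · refine (Ideal.quotientEquivAlgOfEq R' (I := J i) (J := RingHom.ker (AlgHom.snd R' (X i) L)) ?_).trans
      (Ideal.quotientKerAlgEquivOfSurjective (f := AlgHom.snd R' (X i) L) fun x => ⟨(0, x), rfl⟩)
    ext x
    simp [J, not_lt.2 hi]

/-- localised families below `n` -/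
structure Fam (R : Type u) [CommRing R] (R' : Type u) [CommRing R'] [Algebra R R'] (p' : Ideal R') (n : ℕ)
    (A B : ℕ → Type u) [∀ i, CommRing (A i)] [∀ i, CommRing (B i)] [∀ i, Algebra R (A i)] [∀ i, Algebra R (B i)]
    [∀ i, Algebra (B i) (A i)] [∀ i, Algebra (B i) (A (i + 1))] (b : ∀ i, B i) : Type (u + 1) where
  A' : ℕ → Type u
  B' : ℕ → Type u
  [cA : ∀ i, CommRing (A' i)]
  [cB : ∀ i, CommRing (B' i)]
  [lA : ∀ i, Algebra R' (A' i)]
  [lB : ∀ i, Algebra R' (B' i)]
  [rA : ∀ i, Algebra R (A' i)]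
  [rB : ∀ i, Algebra R (B' i)]
  [tA : ∀ i, IsScalarTower R R' (A' i)]
  [tB : ∀ i, IsScalarTower R R' (B' i)]
  [aBA : ∀ i, Algebra (B' i) (A' i)]
  [aBA' : ∀ i, Algebra (B' i) (A' (i + 1))]
  [tBA : ∀ i, IsScalarTower R' (B' i) (A' i)]
  [tBA' : ∀ i, IsScalarTower R' (B' i) (A' (i + 1))]
  aA : ∀ i : Fin n, Algebra (A i) (A' i)
  aB : ∀ i : Fin n, Algebra (B i) (B' i)
  tAA : ∀ i : Fin n, letI := aA i; IsScalarTower R (A i) (A' i)
  tBB : ∀ i : Fin n, letI := aB i; IsScalarTower R (B i) (B' i)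
  locA : ∀ i : Fin n, letI := aA i; IsLocalization.Away (algebraMap (B i) (A i) (b i)) (A' i)
  locB : ∀ i : Fin n, letI := aB i; IsLocalization.Away (b i) (B' i)
  comm : ∀ i : Fin n, letI := aA i; letI := aB i; ∀ x : B i,
    algebraMap (B' i) (A' i) (algebraMap (B i) (B' i) x) = algebraMap (A i) (A' i) (algebraMap (B i) (A i) x)
  comm' : ∀ (i : Fin n) (h : (i : ℕ) + 1 < n), letI := aA ⟨i + 1, h⟩; letI := aB i; ∀ x : B i,
    algebraMap (B' i) (A' (i + 1)) (algebraMap (B i) (B' i) x) =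
      algebraMap (A (i + 1)) (A' (i + 1)) (algebraMap (B i) (A (i + 1)) x)
  prime : ∀ i, n ≤ i → (p'.map (algebraMap R' (B' i))).IsPrime
  points : ∀ i, n ≤ i → ∃ (Q : Ideal (B' i)) (P : Ideal (A' i)), Q.IsPrime ∧ P.IsPrime ∧ Q.LiesOver p' ∧ P.LiesOver Q

attribute [instance] Fam.cA Fam.cB Fam.lA Fam.lB Fam.rA Fam.rB Fam.tA Fam.tB Fam.aBA Fam.aBA' Fam.tBA Fam.tBA'

theorem exists_fam {R : Type u} [CommRing R] {R' : Type u} [CommRing R'] [Algebra R R'] (g : R)
    [IsLocalization.Away g R'] (p' : Ideal R') [p'.IsPrime] {n : ℕ} (hn : 0 < n) (A B : ℕ → Type u)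
    [∀ i, CommRing (A i)] [∀ i, CommRing (B i)] [∀ i, Algebra R (A i)] [∀ i, Algebra R (B i)]
    [∀ i, Algebra (B i) (A i)] [∀ i, Algebra (B i) (A (i + 1))] [∀ i, IsScalarTower R (B i) (A i)]
    [∀ i, IsScalarTower R (B i) (A (i + 1))] (b : ∀ i, B i)
    (hg : ∀ i, i < n → algebraMap R (B i) g ∣ b i)
    (hcompat : ∀ i, i + 1 < n → algebraMap (B i) (A (i + 1)) (b i) = algebraMap (B (i + 1)) (A (i + 1)) (b (i + 1)))
    (Q : Ideal (B (n - 1))) [Q.IsPrime] (hQb : b (n - 1) ∉ Q) (hQ : Q.comap (algebraMap R (B (n - 1))) = p'.comap (algebraMap R R')) :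
    Nonempty (Fam R R' p' n A B b) := by
  classical
  -- beyond the length: the residue field of the last point
  have hgQ : IsUnit (algebraMap R Q.ResidueField g) := by
    refine isUnit_iff_ne_zero.2 fun h => ?_
    rw [IsScalarTower.algebraMap_apply R (B (n - 1)) Q.ResidueField, Ideal.algebraMap_residueField_eq_zero] at h
    have h2 : algebraMap R R' g ∈ p' := (hQ ▸ h : g ∈ p'.comap (algebraMap R R'))
    exact ‹p'.IsPrime›.ne_top (Ideal.eq_top_of_isUnit_mem _ h2 (IsLocalization.Away.algebraMap_isUnit g))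
  let L := Q.ResidueField
  letI aL : Algebra R' L := (IsLocalization.Away.lift g hgQ).toAlgebra
  haveI tL : IsScalarTower R R' L := IsScalarTower.of_algebraMap_eq fun r => (IsLocalization.Away.lift_eq g hgQ r).symm
  -- totalise the action of `R'`
  let c : ∀ i, B i := fun i => if i < n then b i else 0
  have hc : ∀ i, i < n → c i = b i := fun i hi => if_pos hi
  have hcd : ∀ i, algebraMap R (B i) g ∣ c i := fun i => by
    by_cases hi : i < n
    · rw [hc i hi]; exact hg i hi
    · simp [c, hi]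
  let XB : ℕ → Type u := fun i => Localization.Away (c i)
  let XA : ℕ → Type u := fun i => Localization.Away (algebraMap (B i) (A i) (c i))
  have uB : ∀ i, IsUnit (algebraMap R (XB i) g) := fun i => by
    rw [IsScalarTower.algebraMap_apply R (B i) (XB i)]
    exact isUnit_of_dvd_unit (map_dvd _ (hcd i)) (IsLocalization.Away.algebraMap_isUnit (c i))
  have uA : ∀ i, IsUnit (algebraMap R (XA i) g) := fun i => by
    rw [IsScalarTower.algebraMap_apply R (A i) (XA i), IsScalarTower.algebraMap_apply R (B i) (A i)]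
    exact isUnit_of_dvd_unit (map_dvd _ (map_dvd _ (hcd i))) (IsLocalization.Away.algebraMap_isUnit _)
  letI lB : ∀ i, Algebra R' (XB i) := fun i => (IsLocalization.Away.lift g (uB i)).toAlgebra
  letI lA : ∀ i, Algebra R' (XA i) := fun i => (IsLocalization.Away.lift g (uA i)).toAlgebra
  haveI tB : ∀ i, IsScalarTower R R' (XB i) := fun i =>
    IsScalarTower.of_algebraMap_eq fun r => (IsLocalization.Away.lift_eq g (uB i) r).symm
  haveI tA : ∀ i, IsScalarTower R R' (XA i) := fun i =>
    IsScalarTower.of_algebraMap_eq fun r => (IsLocalization.Away.lift_eq g (uA i) r).symm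
  obtain ⟨GA⟩ := exists_glue R' n XA L
  obtain ⟨GB⟩ := exists_glue R' n XB L
  -- the maps between the localisations
  have mk : ∀ (i : ℕ) (Y : Type u) [CommRing Y] [Algebra R' Y] [Algebra R Y] [IsScalarTower R R' Y]
      (ψ : B i →ₐ[R] Y), IsUnit (ψ (c i)) → ∃ φ : XB i →ₐ[R'] Y, ∀ x, φ (algebraMap (B i) (XB i) x) = ψ x := by
    intro i Y _ _ _ _ ψ hu
    let f : XB i →+* Y := IsLocalization.Away.lift (c i) (g := (ψ : B i →+* Y)) hu
    refine ⟨⟨f, fun r => ?_⟩, fun x => IsLocalization.Away.lift_eq (c i) hu x⟩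
    refine RingHom.congr_fun (f := f.comp (algebraMap R' (XB i))) (g := algebraMap R' Y) ?_ r
    refine IsLocalization.ringHom_ext (Submonoid.powers g) (RingHom.ext fun a => ?_)
    simp only [RingHom.comp_apply]
    rw [← IsScalarTower.algebraMap_apply R R' (XB i), IsScalarTower.algebraMap_apply R (B i) (XB i),
      IsLocalization.Away.lift_eq, ← IsScalarTower.algebraMap_apply R R' Y]
    exact ψ.commutes a
  have m1 : ∀ i, ∃ φ : XB i →ₐ[R'] XA i,
      ∀ x, φ (algebraMap (B i) (XB i) x) = algebraMap (A i) (XA i) (algebraMap (B i) (A i) x) := fun i =>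
    mk i (XA i) ((IsScalarTower.toAlgHom R (A i) (XA i)).comp (IsScalarTower.toAlgHom R (B i) (A i)))
      (IsLocalization.Away.algebraMap_isUnit (algebraMap (B i) (A i) (c i)))
  choose φ hφ using m1
  have m2 : ∀ i, i + 1 < n → ∃ ψ : XB i →ₐ[R'] XA (i + 1),
      ∀ x, ψ (algebraMap (B i) (XB i) x) = algebraMap (A (i + 1)) (XA (i + 1)) (algebraMap (B i) (A (i + 1)) x) := by
    intro i hi
    refine mk i (XA (i + 1))
      ((IsScalarTower.toAlgHom R (A (i + 1)) (XA (i + 1))).comp (IsScalarTower.toAlgHom R (B i) (A (i + 1)))) ?_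
    show IsUnit (algebraMap (A (i + 1)) (XA (i + 1)) (algebraMap (B i) (A (i + 1)) (c i)))
    rw [hc i (by omega), hcompat i hi, ← hc (i + 1) hi]
    exact IsLocalization.Away.algebraMap_isUnit _
  choose ψ hψ using m2
  have m3 : ∀ i, i + 1 = n → ∃ χ : XB i →ₐ[R'] L, True := by
    intro i hi
    obtain rfl : i = n - 1 := by omega
    obtain ⟨χ, -⟩ := mk (n - 1) L (IsScalarTower.toAlgHom R (B (n - 1)) Q.ResidueField) (by
      rw [hc (n - 1) (by omega)]
      exact isUnit_iff_ne_zero.2 fun h => hQb (Ideal.algebraMap_residueField_eq_zero.1 h))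
    exact ⟨χ, trivial⟩
  choose χ _ using m3
  let F : ∀ i, GB.T i →ₐ[R'] GA.T i := fun i =>
    if hi : i < n then (GA.head i hi).symm.toAlgHom.comp ((φ i).comp (GB.head i hi).toAlgHom)
    else (GA.tail i (not_lt.1 hi)).symm.toAlgHom.comp (GB.tail i (not_lt.1 hi)).toAlgHom
  let F' : ∀ i, GB.T i →ₐ[R'] GA.T (i + 1) := fun i =>
    if hi : i + 1 < n then (GA.head (i + 1) hi).symm.toAlgHom.comp ((ψ i hi).comp (GB.head i (by omega)).toAlgHom)
    else if hi' : i + 1 = n then
      (GA.tail (i + 1) (by omega)).symm.toAlgHom.comp ((χ i hi').comp (GB.head i (by omega)).toAlgHom)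
    else (GA.tail (i + 1) (by omega)).symm.toAlgHom.comp (GB.tail i (by omega)).toAlgHom
  letI rA : ∀ i, Algebra R (GA.T i) := fun i => ((algebraMap R' (GA.T i)).comp (algebraMap R R')).toAlgebra
  letI rB : ∀ i, Algebra R (GB.T i) := fun i => ((algebraMap R' (GB.T i)).comp (algebraMap R R')).toAlgebra
  haveI sA : ∀ i, IsScalarTower R R' (GA.T i) := fun i => IsScalarTower.of_algebraMap_eq fun _ => rfl
  haveI sB : ∀ i, IsScalarTower R R' (GB.T i) := fun i => IsScalarTower.of_algebraMap_eq fun _ => rfl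
  let aA : ∀ i : Fin n, Algebra (A i) (GA.T i) := fun i =>
    ((GA.head i i.2).symm.toAlgHom.toRingHom.comp (algebraMap (A i) (XA i))).toAlgebra
  let aB : ∀ i : Fin n, Algebra (B i) (GB.T i) := fun i =>
    ((GB.head i i.2).symm.toAlgHom.toRingHom.comp (algebraMap (B i) (XB i))).toAlgebra
  have hker : ∀ r : R', algebraMap R' L r = 0 ↔ r ∈ p' := by
    intro r
    obtain ⟨⟨a, s⟩, has⟩ := IsLocalization.surj (Submonoid.powers g) r
    have hs := IsLocalization.map_units R' s
    have h2 := congrArg (algebraMap R' L) has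
    rw [map_mul] at h2
    rw [← (hs.map (algebraMap R' L)).mul_left_eq_zero, h2, ← IsScalarTower.algebraMap_apply R R' L,
      IsScalarTower.algebraMap_apply R (B (n - 1)) L, Ideal.algebraMap_residueField_eq_zero, ← Ideal.mem_comap, hQ,
      Ideal.mem_comap, ← has, Ideal.mul_unit_mem_iff_mem _ hs]
  refine ⟨{
    A' := GA.T
    B' := GB.T
    aBA := fun i => (F i).toRingHom.toAlgebra
    aBA' := fun i => (F' i).toRingHom.toAlgebra
    tBA := fun i => @IsScalarTower.of_algebraMap_eq R' (GB.T i) (GA.T i) _ _ _ _ (F i).toRingHom.toAlgebra _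
      fun r => ((F i).commutes r).symm
    tBA' := fun i => @IsScalarTower.of_algebraMap_eq R' (GB.T i) (GA.T (i + 1)) _ _ _ _ (F' i).toRingHom.toAlgebra _
      fun r => ((F' i).commutes r).symm
    aA := aA
    aB := aB
    tAA := fun i => ?_
    tBB := fun i => ?_
    locA := fun i => ?_
    locB := fun i => ?_
    comm := fun i => ?_
    comm' := fun i h => ?_
    prime := fun i hi => ?_
    points := fun i hi => ?_ }⟩
  · letI := aA i
    refine IsScalarTower.of_algebraMap_eq fun r => ?_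
    show algebraMap R (GA.T i) r = (GA.head i i.2).symm (algebraMap (A i) (XA i) (algebraMap R (A i) r))
    rw [← IsScalarTower.algebraMap_apply R (A i) (XA i), IsScalarTower.algebraMap_apply R R' (XA i), AlgEquiv.commutes,
      ← IsScalarTower.algebraMap_apply]
  · letI := aB i
    refine IsScalarTower.of_algebraMap_eq fun r => ?_
    show algebraMap R (GB.T i) r = (GB.head i i.2).symm (algebraMap (B i) (XB i) (algebraMap R (B i) r))
    rw [← IsScalarTower.algebraMap_apply R (B i) (XB i), IsScalarTower.algebraMap_apply R R' (XB i), AlgEquiv.commutes,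
      ← IsScalarTower.algebraMap_apply]
  · letI := aA i
    rw [← hc i i.2]
    exact IsLocalization.isLocalization_of_algEquiv (Submonoid.powers (algebraMap (B i) (A i) (c i)))
      (AlgEquiv.ofRingEquiv (f := (GA.head i i.2).symm.toRingEquiv) (R := A i) fun _ => rfl)
  · letI := aB i
    rw [← hc i i.2]
    exact IsLocalization.isLocalization_of_algEquiv (Submonoid.powers (c i))
      (AlgEquiv.ofRingEquiv (f := (GB.head i i.2).symm.toRingEquiv) (R := B i) fun _ => rfl)
  · intro x
    show F i ((GB.head i i.2).symm (algebraMap (B i) (XB i) x)) = (GA.head i i.2).symm (algebraMap (A i) (XA i) _)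
    simp only [F, dif_pos i.2]
    show (GA.head i i.2).symm (φ i (GB.head i i.2 ((GB.head i i.2).symm _))) = _
    rw [AlgEquiv.apply_symm_apply, hφ]
  · intro x
    show F' i ((GB.head i i.2).symm (algebraMap (B i) (XB i) x)) =
      (GA.head (i + 1) h).symm (algebraMap (A (i + 1)) (XA (i + 1)) _)
    simp only [F', dif_pos h]
    show (GA.head (i + 1) h).symm (ψ i h (GB.head i i.2 ((GB.head i i.2).symm _))) = _
    rw [AlgEquiv.apply_symm_apply, hψ]
  · let e := GB.tail i hi
    have hbot : p'.map (algebraMap R' (GB.T i)) = ⊥ := by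
      rw [eq_bot_iff, Ideal.map_le_iff_le_comap]
      intro r hr
      rw [Ideal.mem_comap, Ideal.mem_bot]
      refine e.injective ?_
      rw [AlgEquiv.commutes, map_zero]
      exact (hker r).2 hr
    rw [hbot]
    haveI : IsDomain (GB.T i) := e.toRingEquiv.injective.isDomain e.toRingEquiv.toRingHom
    exact Ideal.isPrime_bot
  · let e := GB.tail i hi
    let e' := GA.tail i hi
    haveI : IsDomain (GB.T i) := e.toRingEquiv.injective.isDomain e.toRingEquiv.toRingHom
    haveI : IsDomain (GA.T i) := e'.toRingEquiv.injective.isDomain e'.toRingEquiv.toRingHom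
    letI : Algebra (GB.T i) (GA.T i) := (F i).toRingHom.toAlgebra
    refine ⟨⊥, ⊥, Ideal.isPrime_bot, Ideal.isPrime_bot, ⟨?_⟩, ⟨?_⟩⟩
    · ext r
      rw [Ideal.under, Ideal.mem_comap, Ideal.mem_bot, ← hker r, ← map_eq_zero_iff e e.injective, AlgEquiv.commutes]
    · ext x
      rw [Ideal.under, Ideal.mem_comap, Ideal.mem_bot, Ideal.mem_bot]
      show x = 0 ↔ F i x = 0
      simp only [F, dif_neg (not_lt.2 hi)]
      show x = 0 ↔ (GA.tail i hi).symm (GB.tail i hi x) = 0
      rw [map_eq_zero_iff _ (GA.tail i hi).symm.injective, map_eq_zero_iff _ (GB.tail i hi).injective]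

end Groth.Agent.RG.Dev.LocFamily
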