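import Groth.Agent.RG.Dev.ShrinkStep
import Groth.Agent.RG.Dev.LocFamily
import Groth.Agent.RG.Dev.ShrinkTools
import Groth.Agent.RG.Dev.DevBC

/-!
Standard shrinking of a complete dévissage at a point.
-/

set_option autoImplicit false
set_option maxHeartbeats 4000000
universe u
open FlatMor TensorProduct

namespace Groth.Agent.RG.Dev.Shrink

attribute [local instance] Algebra.TensorProduct.rightAlgebra in
theorem exists_shrink_complete
    (R S : Type u) [CommRing R] [CommRing S] [Algebra R S] [Algebra.FiniteType R S]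
    (N : Type u) [AddCommGroup N] [Module S N] [Module.Finite S N]
    (p : Ideal R) [p.IsPrime] (q : Ideal S) [q.IsPrime] (𝒟 : FlatCA.CompleteDevissage R S N p)
    (𝒜 : FlatCA.CompleteDevissageAt R S N p q 𝒟)
    (bb : ∀ i, 𝒟.B i) (hbb : ∀ i, i < 𝒟.n → bb i ∉ 𝒜.qB i)
    (hcompat : ∀ i, i + 1 < 𝒟.n →
      algebraMap (𝒟.B i) (𝒟.A (i + 1)) (bb i) = algebraMap (𝒟.B (i + 1)) (𝒟.A (i + 1)) (bb (i + 1)))
    (s : S) (hs : algebraMap S (𝒟.A 0) s = algebraMap (𝒟.B 0) (𝒟.A 0) (bb 0)) :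
    ∃ (g : R) (hX : S), g ∉ p ∧ hX ∉ q ∧ IsUnit (algebraMap S (Localization.Away hX) s) ∧
      ∃ (_ : Algebra (Localization.Away g) (Localization.Away hX)) (_ : IsScalarTower R (Localization.Away g) (Localization.Away hX))
        (_ : Module (Localization.Away g) (LocalizedModule (Submonoid.powers hX) N)) (_ : IsScalarTower (Localization.Away g) (Localization.Away hX) (LocalizedModule (Submonoid.powers hX) N))
        (_ : (Ideal.map (algebraMap R (Localization.Away g)) p).IsPrime) (_ : (Ideal.map (algebraMap S (Localization.Away hX)) q).IsPrime)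
        (𝒟' : FlatCA.CompleteDevissage (Localization.Away g) (Localization.Away hX) (LocalizedModule (Submonoid.powers hX) N) (Ideal.map (algebraMap R (Localization.Away g)) p))
        (𝒜' : FlatCA.CompleteDevissageAt (Localization.Away g) (Localization.Away hX) (LocalizedModule (Submonoid.powers hX) N) (Ideal.map (algebraMap R (Localization.Away g)) p) (Ideal.map (algebraMap S (Localization.Away hX)) q) 𝒟')
        (a : ∀ i : Fin 𝒟.n, 𝒟.A i) (b : ∀ i : Fin 𝒟.n, 𝒟.B i)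
      (aA : ∀ i : Fin 𝒟.n, Algebra (𝒟.A i) (𝒟'.A i)) (rA : ∀ i : Fin 𝒟.n, Algebra R (𝒟'.A i))
      (_t1 : ∀ i : Fin 𝒟.n, IsScalarTower R (Localization.Away g) (𝒟'.A i)) (_t2 : ∀ i : Fin 𝒟.n, IsScalarTower R (𝒟.A i) (𝒟'.A i))
      (aB : ∀ i : Fin 𝒟.n, Algebra (𝒟.B i) (𝒟'.B i)) (rB : ∀ i : Fin 𝒟.n, Algebra R (𝒟'.B i))
      (_t3 : ∀ i : Fin 𝒟.n, IsScalarTower R (Localization.Away g) (𝒟'.B i)) (_t4 : ∀ i : Fin 𝒟.n, IsScalarTower R (𝒟.B i) (𝒟'.B i))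
      (bA : ∀ i : Fin 𝒟.n, Algebra (𝒟.B i) (𝒟'.A i)) (_t5 : ∀ i : Fin 𝒟.n, IsScalarTower (𝒟.B i) (𝒟.A i) (𝒟'.A i))
      (_t6 : ∀ i : Fin 𝒟.n, IsScalarTower (𝒟.B i) (𝒟'.B i) (𝒟'.A i))
      (bA' : ∀ i : Fin 𝒟.n, Algebra (𝒟.B i) (𝒟'.A (i + 1)))
      (_t7 : ∀ i : Fin 𝒟.n, IsScalarTower (𝒟.B i) (𝒟'.B i) (𝒟'.A (i + 1)))
      (sA : Algebra S (𝒟'.A 0)) (_t8 : IsScalarTower S (Localization.Away hX) (𝒟'.A 0))
      (mA : ∀ i : Fin 𝒟.n, Module (𝒟.A i) (𝒟'.M i)) (_t9 : ∀ i : Fin 𝒟.n, IsScalarTower (𝒟.A i) (𝒟'.A i) (𝒟'.M i))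
      (gM : ∀ i : Fin 𝒟.n, 𝒟.M i →ₗ[𝒟.A i] 𝒟'.M i),
        𝒟'.n = 𝒟.n ∧ 𝒟'.r = 𝒟.r ∧ 𝒜'.d = 𝒜.d ∧
        (letI := aA ⟨0, 𝒟.pos⟩; IsScalarTower S (𝒟.A 0) (𝒟'.A 0)) ∧
      (∀ x : N, 𝒟'.isoN (LocalizedModule.mkLinearMap (Submonoid.powers hX) N x) = gM ⟨0, 𝒟.pos⟩ (𝒟.isoN x)) ∧
      (∀ (i : Fin 𝒟.n) (h : (i : ℕ) + 1 < 𝒟.n),
        letI := aA ⟨i + 1, h⟩; IsScalarTower (𝒟.B i) (𝒟.A (i + 1)) (𝒟'.A (i + 1))) ∧
        (∀ i : Fin 𝒟.n, b i = bb i * algebraMap R (𝒟.B i) g) ∧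
        ∀ i : Fin 𝒟.n,
          a i ∉ 𝒜.qA i ∧ b i ∉ 𝒜.qB i ∧
          IsLocalization.Away (a i) (𝒟'.A i) ∧ IsLocalization.Away (b i) (𝒟'.B i) ∧
          IsLocalizedModule (Submonoid.powers (a i)) (gM i) ∧
          (𝒜'.qA i).LiesOver (𝒜.qA i) ∧ (𝒜'.qB i).LiesOver (𝒜.qB i) ∧
          LinearMap.range (𝒟'.α i) =
            Submodule.span (𝒟'.B i) ((gM i) '' (LinearMap.range (𝒟.α i) : Set (𝒟.M i))) := by
  classical
  have hn0 : 0 < 𝒟.n := 𝒟.pos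
  haveI := 𝒜.hqB
  haveI := 𝒜.hqA
  haveI := 𝒜.overB
  haveI := 𝒜.overA
  have hgi : ∀ i, ∃ gi : R, gi ∉ p ∧ (i < 𝒟.n → ∀ P : PrimeSpectrum R, gi ∉ P.asIdeal →
      ∃ Q : PrimeSpectrum (𝒟.B i), bb i ∉ Q.asIdeal ∧ Q.asIdeal.comap (algebraMap R (𝒟.B i)) = P.asIdeal) := by
    intro i
    by_cases hi : i < 𝒟.n
    · haveI := 𝒟.smooth i hi
      obtain ⟨gi, h1, h2⟩ := exists_g p (𝒜.qB i) (bb i) (hbb i hi)
      exact ⟨gi, h1, fun _ => h2⟩
    · exact ⟨1, fun h => ‹p.IsPrime›.ne_top ((Ideal.eq_top_iff_one p).2 h), fun h => absurd h hi⟩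
  choose gi hgi himg using hgi
  let g : R := ∏ i ∈ Finset.range 𝒟.n, gi i
  have hg : g ∉ p := fun h => by
    obtain ⟨i, -, hi⟩ := (Ideal.IsPrime.prod_mem_iff).1 h
    exact hgi i hi
  let b : ∀ i, 𝒟.B i := fun i => bb i * algebraMap R (𝒟.B i) g
  have hgB : ∀ i, algebraMap R (𝒟.B i) g ∉ 𝒜.qB i := fun i h =>
    hg ((Ideal.LiesOver.over (p := p) (P := 𝒜.qB i)).symm ▸ (h : g ∈ (𝒜.qB i).under R))
  have hb : ∀ i, i < 𝒟.n → b i ∉ 𝒜.qB i := fun i hi h =>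
    ((𝒜.hqB i).mem_or_mem h).elim (hbb i hi) (hgB i)
  have hbA : ∀ i, i < 𝒟.n → algebraMap (𝒟.B i) (𝒟.A i) (b i) ∉ 𝒜.qA i := fun i hi h =>
    hb i hi ((Ideal.LiesOver.over (p := 𝒜.qB i) (P := 𝒜.qA i)).symm ▸ (h : b i ∈ (𝒜.qA i).under (𝒟.B i)))
  have hbcompat : ∀ i, i + 1 < 𝒟.n →
      algebraMap (𝒟.B i) (𝒟.A (i + 1)) (b i) = algebraMap (𝒟.B (i + 1)) (𝒟.A (i + 1)) (b (i + 1)) := fun i hi => by
    simp only [b, map_mul, hcompat i hi, ← IsScalarTower.algebraMap_apply]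
  let hX : S := s * algebraMap R S g
  have hX0 : algebraMap S (𝒟.A 0) hX = algebraMap (𝒟.B 0) (𝒟.A 0) (b 0) := by
    simp only [hX, b, map_mul, hs, ← IsScalarTower.algebraMap_apply]
  have hXq : hX ∉ q := fun h => hbA 0 hn0 (by
    rw [← hX0]; rw [← 𝒜.q0] at h; exact h)
  let R' := Localization.Away g
  let S' := Localization.Away hX
  have hgS : IsUnit (algebraMap R S' g) := by
    rw [IsScalarTower.algebraMap_apply R S S']
    exact isUnit_of_dvd_unit (map_dvd _ (dvd_mul_left _ s)) (IsLocalization.Away.algebraMap_isUnit (S := S') hX)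
  letI aRS : Algebra R' S' := (IsLocalization.Away.lift (S := R') g hgS).toAlgebra
  haveI tRS : IsScalarTower R R' S' := IsScalarTower.of_algebraMap_eq fun r => (IsLocalization.Away.lift_eq g hgS r).symm
  let N' := LocalizedModule (Submonoid.powers hX) N
  letI mRN : Module R' N' := Module.compHom N' (algebraMap R' S')
  haveI tRN : IsScalarTower R' S' N' := IsScalarTower.of_compHom R' S' N'
  have hgp : Disjoint (Submonoid.powers g : Set R) (p : Set R) :=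
    (Ideal.disjoint_powers_iff_notMem g ‹p.IsPrime›.isRadical).2 hg
  have hqd : Disjoint (Submonoid.powers hX : Set S) (q : Set S) :=
    (Ideal.disjoint_powers_iff_notMem hX ‹q.IsPrime›.isRadical).2 hXq
  let p' := Ideal.map (algebraMap R R') p
  let q' := Ideal.map (algebraMap S S') q
  haveI hp' : p'.IsPrime := IsLocalization.isPrime_of_isPrime_disjoint (Submonoid.powers g) R' p ‹_› hgp
  haveI hq' : q'.IsPrime := IsLocalization.isPrime_of_isPrime_disjoint (Submonoid.powers hX) S' q ‹_› hqd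
  have cp : p'.comap (algebraMap R R') = p :=
    IsLocalization.under_map_of_isPrime_disjoint (Submonoid.powers g) R' ‹_› hgp
  haveI hp'p : p'.LiesOver p := ⟨cp.symm⟩
  have uniqR : ∀ I : Ideal R', I.comap (algebraMap R R') = p → I = p' := fun I hI => by
    rw [← IsLocalization.map_under (Submonoid.powers g) R' I, Ideal.under, hI]
  have uniqS : ∀ I : Ideal S', I.comap (algebraMap S S') = q → I = q' := fun I hI => by
    rw [← IsLocalization.map_under (Submonoid.powers hX) S' I, Ideal.under, hI]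
  obtain ⟨F⟩ := LocFamily.exists_fam g p' hn0 𝒟.A 𝒟.B b (fun i _ => dvd_mul_left _ (bb i)) hbcompat
    (𝒜.qB (𝒟.n - 1)) (hb _ (Nat.sub_lt hn0 Nat.one_pos))
    ((Ideal.LiesOver.over (p := p) (P := 𝒜.qB (𝒟.n - 1))).symm.trans cp.symm)
  letI := F.aA
  letI := F.aB
  haveI := F.tAA
  haveI := F.tBB
  have locA : ∀ i : Fin 𝒟.n, IsLocalization.Away (algebraMap (𝒟.B i) (𝒟.A i) (b i)) (F.A' i) := F.locA
  have locB : ∀ i : Fin 𝒟.n, IsLocalization.Away (b i) (F.B' i) := F.locB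
  letI bAo : ∀ i : Fin 𝒟.n, Algebra (𝒟.B i) (F.A' i) := fun i =>
    ((algebraMap (𝒟.A i) (F.A' i)).comp (algebraMap (𝒟.B i) (𝒟.A i))).toAlgebra
  haveI tAo : ∀ i : Fin 𝒟.n, IsScalarTower (𝒟.B i) (𝒟.A i) (F.A' i) := fun i =>
    IsScalarTower.of_algebraMap_eq fun _ => rfl
  haveI t6 : ∀ i : Fin 𝒟.n, IsScalarTower (𝒟.B i) (F.B' i) (F.A' i) := fun i =>
    IsScalarTower.of_algebraMap_eq fun x => (F.comm i x).symm
  letI bAo' : ∀ i : Fin 𝒟.n, Algebra (𝒟.B i) (F.A' (i + 1)) := fun i =>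
    ((algebraMap (F.B' i) (F.A' (i + 1))).comp (algebraMap (𝒟.B i) (F.B' i))).toAlgebra
  haveI t7 : ∀ i : Fin 𝒟.n, IsScalarTower (𝒟.B i) (F.B' i) (F.A' (i + 1)) := fun i =>
    IsScalarTower.of_algebraMap_eq fun _ => rfl
  have t10 : ∀ (i : Fin 𝒟.n) (h : (i : ℕ) + 1 < 𝒟.n),
      letI : Algebra (𝒟.A (i + 1)) (F.A' (i + 1)) := F.aA ⟨i + 1, h⟩
      IsScalarTower (𝒟.B i) (𝒟.A (i + 1)) (F.A' (i + 1)) := fun i h => by
    letI : Algebra (𝒟.A (i + 1)) (F.A' (i + 1)) := F.aA ⟨i + 1, h⟩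
    exact IsScalarTower.of_algebraMap_eq fun x => F.comm' i h x
  -- the step zero
  let i0 : Fin 𝒟.n := ⟨0, hn0⟩
  letI : Algebra (𝒟.A 0) (F.A' 0) := F.aA i0
  haveI : IsScalarTower R (𝒟.A 0) (F.A' 0) := F.tAA i0
  letI sA : Algebra S (F.A' 0) := ((algebraMap (𝒟.A 0) (F.A' 0)).comp (algebraMap S (𝒟.A 0))).toAlgebra
  haveI t0 : IsScalarTower S (𝒟.A 0) (F.A' 0) := IsScalarTower.of_algebraMap_eq fun _ => rfl
  have hXA : IsUnit (algebraMap S (F.A' 0) hX) := by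
    rw [IsScalarTower.algebraMap_apply S (𝒟.A 0) (F.A' 0), hX0]
    haveI := locA i0
    exact IsLocalization.Away.algebraMap_isUnit (S := F.A' 0) (algebraMap (𝒟.B 0) (𝒟.A 0) (b 0))
  letI aSA : Algebra S' (F.A' 0) := (IsLocalization.Away.lift (S := S') hX hXA).toAlgebra
  haveI tSS : IsScalarTower S S' (F.A' 0) :=
    IsScalarTower.of_algebraMap_eq fun r => (IsLocalization.Away.lift_eq hX hXA r).symm
  haveI : IsScalarTower R S (F.A' 0) := IsScalarTower.of_algebraMap_eq fun r => by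
    rw [IsScalarTower.algebraMap_apply S (𝒟.A 0) (F.A' 0), ← IsScalarTower.algebraMap_apply R S (𝒟.A 0),
      ← IsScalarTower.algebraMap_apply R (𝒟.A 0) (F.A' 0)]
  haveI : IsScalarTower R S' (F.A' 0) := IsScalarTower.of_algebraMap_eq fun r => by
    rw [IsScalarTower.algebraMap_apply R S S', ← IsScalarTower.algebraMap_apply S S' (F.A' 0),
      ← IsScalarTower.algebraMap_apply R S (F.A' 0)]
  haveI tR'SA : IsScalarTower R' S' (F.A' 0) := IsScalarTower.of_algebraMap_eq' (IsLocalization.ringHom_ext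
    (Submonoid.powers g) (by rw [RingHom.comp_assoc, ← IsScalarTower.algebraMap_eq, ← IsScalarTower.algebraMap_eq,
      ← IsScalarTower.algebraMap_eq]))
  haveI : IsLocalization (Algebra.algebraMapSubmonoid (𝒟.A 0) (Submonoid.powers hX)) (F.A' 0) := by
    rw [Algebra.algebraMapSubmonoid_powers, hX0]
    exact locA i0
  haveI : Algebra.IsPushout S (𝒟.A 0) S' (F.A' 0) :=
    Algebra.isPushout_of_isLocalization (Submonoid.powers hX) S' (𝒟.A 0) (F.A' 0)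
  haveI pS : Algebra.IsPushout S S' (𝒟.A 0) (F.A' 0) := Algebra.IsPushout.symm inferInstance
  -- pushouts
  have pBA : ∀ i : Fin 𝒟.n, Algebra.IsPushout (𝒟.B i) (F.B' i) (𝒟.A i) (F.A' i) := fun i => by
    haveI := locB i
    haveI : IsLocalization (Algebra.algebraMapSubmonoid (𝒟.A i) (Submonoid.powers (b i))) (F.A' i) := by
      rw [Algebra.algebraMapSubmonoid_powers]
      exact locA i
    exact Algebra.IsPushout.symm (Algebra.isPushout_of_isLocalization (Submonoid.powers (b i)) (F.B' i) (𝒟.A i) (F.A' i))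
  have pBA' : ∀ (i : Fin 𝒟.n) (h : (i : ℕ) + 1 < 𝒟.n),
      letI : Algebra (𝒟.A (i + 1)) (F.A' (i + 1)) := F.aA ⟨i + 1, h⟩
      haveI := t10 i h
      Algebra.IsPushout (𝒟.B i) (F.B' i) (𝒟.A (i + 1)) (F.A' (i + 1)) := fun i h => by
    letI : Algebra (𝒟.A (i + 1)) (F.A' (i + 1)) := F.aA ⟨i + 1, h⟩
    haveI := t10 i h
    haveI := locB i
    haveI : IsLocalization (Algebra.algebraMapSubmonoid (𝒟.A (i + 1)) (Submonoid.powers (b i))) (F.A' (i + 1)) := by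
      rw [Algebra.algebraMapSubmonoid_powers, hbcompat i h]
      exact locA ⟨i + 1, h⟩
    exact Algebra.IsPushout.symm
      (Algebra.isPushout_of_isLocalization (Submonoid.powers (b i)) (F.B' i) (𝒟.A (i + 1)) (F.A' (i + 1)))
  -- the modules
  obtain ⟨GM⟩ := exists_glueMod 𝒟.n F.A' 𝒟.A 𝒟.M
  letI := GM.mA
  haveI := GM.tA
  letI mR'M : ∀ i, Module R' (GM.M' i) := fun i => Module.compHom (GM.M' i) (algebraMap R' (F.A' i))
  haveI : ∀ i, IsScalarTower R' (F.A' i) (GM.M' i) := fun i => IsScalarTower.of_compHom _ _ _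
  letI mB'M : ∀ i, Module (F.B' i) (GM.M' i) := fun i => Module.compHom (GM.M' i) (algebraMap (F.B' i) (F.A' i))
  haveI : ∀ i, IsScalarTower (F.B' i) (F.A' i) (GM.M' i) := fun i => IsScalarTower.of_compHom _ _ _
  letI mB'M' : ∀ i, Module (F.B' i) (GM.M' (i + 1)) := fun i =>
    Module.compHom (GM.M' (i + 1)) (algebraMap (F.B' i) (F.A' (i + 1)))
  haveI : ∀ i, IsScalarTower (F.B' i) (F.A' (i + 1)) (GM.M' (i + 1)) := fun i => IsScalarTower.of_compHom _ _ _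
  letI mS'M : Module S' (GM.M' 0) := Module.compHom (GM.M' 0) (algebraMap S' (F.A' 0))
  haveI : IsScalarTower S' (F.A' 0) (GM.M' 0) := IsScalarTower.of_compHom _ _ _
  haveI tR'BM : ∀ i, IsScalarTower R' (F.B' i) (GM.M' i) := fun i => ⟨fun r x m => by
    show algebraMap (F.B' i) (F.A' i) (r • x) • m = algebraMap R' (F.A' i) r • (algebraMap (F.B' i) (F.A' i) x • m)
    rw [Algebra.smul_def, map_mul, ← IsScalarTower.algebraMap_apply, mul_smul]⟩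
  let gM : ∀ i : Fin 𝒟.n, 𝒟.M i →ₗ[𝒟.A i] GM.M' i := GM.g
  have hgM : ∀ i : Fin 𝒟.n, IsBaseChange (F.A' i) (gM i) := GM.hg
  have hcoord : ∀ i : Fin 𝒟.n, ∃ e : F.B' i ⊗[𝒟.B i] 𝒟.M i ≃ₗ[F.B' i] GM.M' i,
      ∀ m, e ((1 : F.B' i) ⊗ₜ m) = gM i m := fun i => by
    haveI := pBA i
    exact ⟨(Algebra.IsPushout.cancelBaseChange (𝒟.B i) (F.B' i) (𝒟.A i) (F.A' i) (𝒟.M i)).symm ≪≫ₗ
      ((hgM i).equiv.restrictScalars (F.B' i)), fun m => by
        simp [Algebra.IsPushout.cancelBaseChange_symm_tmul, IsBaseChange.equiv_tmul]⟩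
  choose eM heM using hcoord
  let α' : ∀ i, (Fin (𝒟.r i) → F.B' i) →ₗ[F.B' i] GM.M' i := fun i =>
    if hi : i < 𝒟.n then DevBC.mapFree (eM ⟨i, hi⟩) (𝒟.α i) else 0
  have hα : ∀ i : Fin 𝒟.n, α' i = DevBC.mapFree (eM i) (𝒟.α i) := fun i => dif_pos i.2
  -- smoothness
  have hrel : ∀ i : Fin 𝒟.n, FlatCA.SmoothRelDim (𝒜.d i) R' (F.B' i) := fun i => by
    haveI := locB i
    exact smoothRelDim_shrink g (b i) (𝒜.relDim i i.2)
  have hirr : ∀ i : Fin 𝒟.n, FlatCA.GeomIrredFibres R' (F.B' i) := fun i => by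
    haveI := locB i
    refine geomIrred_shrink g (b i) (𝒟.geomIrred i i.2) ?_
    refine surj_shrink g (b i) fun P hP => ?_
    have hgP : gi i ∉ P.asIdeal := fun h =>
      hP (Ideal.mem_of_dvd _ (Finset.dvd_prod_of_mem gi (Finset.mem_range.2 i.2)) h)
    obtain ⟨Q, hQ, hQP⟩ := himg i i.2 P hgP
    refine ⟨Q, fun h => ?_, hQP⟩
    exact (Q.isPrime.mem_or_mem h).elim hQ fun h' => hP (hQP ▸ (h' : g ∈ Q.asIdeal.comap (algebraMap R (𝒟.B i))))
  -- primes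
  have hξd : ∀ i : Fin 𝒟.n, Disjoint (Submonoid.powers (b i) : Set (𝒟.B i))
      (Ideal.map (algebraMap R (𝒟.B i)) p : Set (𝒟.B i)) := fun i =>
    (Ideal.disjoint_powers_iff_notMem (b i) (𝒟.hp i).isRadical).2 fun h => hb i i.2
      ((Ideal.map_le_iff_le_comap.2 (Ideal.LiesOver.over (p := p) (P := 𝒜.qB i)).le) h)
  have hξmap : ∀ i : Fin 𝒟.n, p'.map (algebraMap R' (F.B' i)) =
      (p.map (algebraMap R (𝒟.B i))).map (algebraMap (𝒟.B i) (F.B' i)) := fun i => by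
    rw [Ideal.map_map, Ideal.map_map, ← IsScalarTower.algebraMap_eq, ← IsScalarTower.algebraMap_eq]
  haveI hp'B : ∀ i, (p'.map (algebraMap R' (F.B' i))).IsPrime := fun i => by
    by_cases hi : i < 𝒟.n
    · obtain ⟨i, rfl⟩ : ∃ j : Fin 𝒟.n, (j : ℕ) = i := ⟨⟨i, hi⟩, rfl⟩
      haveI := locB i
      rw [hξmap i]
      exact IsLocalization.isPrime_of_isPrime_disjoint (Submonoid.powers (b i)) (F.B' i) _ (𝒟.hp i) (hξd i)
    · exact F.prime i (not_lt.1 hi)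
  have hiso : ∃ iso : N' ≃ₗ[S'] GM.M' 0,
      ∀ x, iso (LocalizedModule.mkLinearMap (Submonoid.powers hX) N x) = gM i0 (𝒟.isoN x) := by
    have hfN : IsBaseChange S' (LocalizedModule.mkLinearMap (Submonoid.powers hX) N) :=
      IsLocalizedModule.isBaseChange (Submonoid.powers hX) S' _
    letI : Module (𝒟.A 0) (GM.M' 0) := GM.mA i0
    haveI : IsScalarTower (𝒟.A 0) (F.A' 0) (GM.M' 0) := GM.tA i0
    have hg0 : IsBaseChange (F.A' 0) (GM.g i0 : 𝒟.M 0 →ₗ[𝒟.A 0] GM.M' 0) := GM.hg i0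
    refine ⟨hfN.equiv.symm ≪≫ₗ TensorProduct.AlgebraTensorModule.congr (LinearEquiv.refl S' S') 𝒟.isoN ≪≫ₗ
      ((Algebra.IsPushout.cancelBaseChange S S' (𝒟.A 0) (F.A' 0) (𝒟.M 0)).symm ≪≫ₗ
        (hg0.equiv.restrictScalars S')), fun x => ?_⟩
    have h1 : hfN.equiv.symm (LocalizedModule.mkLinearMap (Submonoid.powers hX) N x) = (1 : S') ⊗ₜ[S] x := by
      rw [LinearEquiv.symm_apply_eq, IsBaseChange.equiv_tmul, one_smul]
    simp only [LinearEquiv.trans_apply, LinearEquiv.restrictScalars_apply, h1,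
      TensorProduct.AlgebraTensorModule.congr_tmul, LinearEquiv.refl_apply,
      Algebra.IsPushout.cancelBaseChange_symm_tmul, map_one]
    exact (hg0.equiv_tmul _ _).trans (one_smul _ _)
  obtain ⟨iso, hiso⟩ := hiso
  have hcok : ∀ i (hi : i + 1 < 𝒟.n),
      Nonempty ((GM.M' i ⧸ LinearMap.range (α' i)) ≃ₗ[F.B' i] GM.M' (i + 1)) := fun i hi => by
    obtain ⟨i, rfl⟩ : ∃ j : Fin 𝒟.n, (j : ℕ) = i := ⟨⟨i, by omega⟩, rfl⟩
    letI : Algebra (𝒟.A (i + 1)) (F.A' (i + 1)) := F.aA ⟨i + 1, hi⟩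
    haveI := t10 i hi
    haveI := pBA' i hi
    letI : Module (𝒟.A (i + 1)) (GM.M' (i + 1)) := GM.mA ⟨i + 1, hi⟩
    haveI : IsScalarTower (𝒟.A (i + 1)) (F.A' (i + 1)) (GM.M' (i + 1)) := GM.tA ⟨i + 1, hi⟩
    have hg1 : IsBaseChange (F.A' (i + 1)) (GM.g ⟨i + 1, hi⟩ : 𝒟.M (i + 1) →ₗ[𝒟.A (i + 1)] GM.M' (i + 1)) :=
      GM.hg ⟨i + 1, hi⟩
    rw [hα i]
    exact DevBC.exists_coker_equiv (eM i) (𝒟.α i) (𝒟.isoCoker i hi)
      ((Algebra.IsPushout.cancelBaseChange (𝒟.B i) (F.B' i) (𝒟.A (i + 1)) (F.A' (i + 1)) (𝒟.M (i + 1))).symm ≪≫ₗ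
        (hg1.equiv.restrictScalars (F.B' i)))
  have hsurjSA : Function.Surjective (algebraMap S' (F.A' 0)) :=
    @RingHom.surjective_isStableUnderBaseChange S (𝒟.A 0) S' (F.A' 0) _ _ _ _ _ _ _ _ _ _ _ (Algebra.IsPushout.symm pS) 𝒟.surjSA
  have hfpSA : Algebra.FinitePresentation S' (F.A' 0) := by
    haveI := 𝒟.fpSA
    exact Algebra.FinitePresentation.equiv (Algebra.IsPushout.equiv S S' (𝒟.A 0) (F.A' 0))
  have hsurjBA : ∀ i, i + 1 < 𝒟.n → Function.Surjective (algebraMap (F.B' i) (F.A' (i + 1))) := fun i hi => by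
    obtain ⟨i, rfl⟩ : ∃ j : Fin 𝒟.n, (j : ℕ) = i := ⟨⟨i, by omega⟩, rfl⟩
    letI : Algebra (𝒟.A (i + 1)) (F.A' (i + 1)) := F.aA ⟨i + 1, hi⟩
    haveI := t10 i hi
    exact @RingHom.surjective_isStableUnderBaseChange (𝒟.B i) (𝒟.A (i + 1)) (F.B' i) (F.A' (i + 1))
      _ _ _ _ _ _ _ _ _ _ _ (Algebra.IsPushout.symm (pBA' i hi)) (𝒟.surjBA' i hi)
  have hfpBA : ∀ i, i + 1 < 𝒟.n → Algebra.FinitePresentation (F.B' i) (F.A' (i + 1)) := fun i hi => by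
    obtain ⟨i, rfl⟩ : ∃ j : Fin 𝒟.n, (j : ℕ) = i := ⟨⟨i, by omega⟩, rfl⟩
    letI : Algebra (𝒟.A (i + 1)) (F.A' (i + 1)) := F.aA ⟨i + 1, hi⟩
    haveI := t10 i hi
    haveI := pBA' i hi
    haveI := 𝒟.fpBA' i hi
    exact Algebra.FinitePresentation.equiv (Algebra.IsPushout.equiv (𝒟.B i) (F.B' i) (𝒟.A (i + 1)) (F.A' (i + 1)))
  have hfinBA : ∀ i, i < 𝒟.n → Module.Finite (F.B' i) (F.A' i) := fun i hi => by
    obtain ⟨i, rfl⟩ : ∃ j : Fin 𝒟.n, (j : ℕ) = i := ⟨⟨i, hi⟩, rfl⟩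
    haveI := pBA i
    haveI := 𝒟.finiteBA i hi
    exact Module.Finite.equiv (Algebra.IsPushout.equiv (𝒟.B i) (F.B' i) (𝒟.A i) (F.A' i)).toLinearEquiv
  have hsm : ∀ i, i < 𝒟.n → Algebra.Smooth R' (F.B' i) := fun i hi => smooth_of_smoothRelDim (hrel ⟨i, hi⟩)
  have hfinM : ∀ i, i < 𝒟.n → Module.Finite (F.A' i) (GM.M' i) := fun i hi => by
    haveI := 𝒟.finiteM i hi
    exact Module.Finite.equiv (hgM ⟨i, hi⟩).equiv
  have hfib : ∀ i, i < 𝒟.n →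
      Function.Bijective ((α' i).baseChange (p'.map (algebraMap R' (F.B' i))).ResidueField) := fun i hi => by
    obtain ⟨i, rfl⟩ : ∃ j : Fin 𝒟.n, (j : ℕ) = i := ⟨⟨i, hi⟩, rfl⟩
    haveI := locB i
    have hξ : p.map (algebraMap R (𝒟.B i)) = (p'.map (algebraMap R' (F.B' i))).comap (algebraMap (𝒟.B i) (F.B' i)) := by
      rw [hξmap i]
      exact (IsLocalization.under_map_of_isPrime_disjoint (Submonoid.powers (b i)) (F.B' i) (𝒟.hp i) (hξd i)).symm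
    letI : Algebra (p.map (algebraMap R (𝒟.B i))).ResidueField (p'.map (algebraMap R' (F.B' i))).ResidueField :=
      (Ideal.ResidueField.map _ _ (algebraMap (𝒟.B i) (F.B' i)) hξ).toAlgebra
    haveI : IsScalarTower (𝒟.B i) (p.map (algebraMap R (𝒟.B i))).ResidueField
        (p'.map (algebraMap R' (F.B' i))).ResidueField := IsScalarTower.of_algebraMap_eq fun x => by
      rw [RingHom.algebraMap_toAlgebra, Ideal.ResidueField.map_algebraMap, ← IsScalarTower.algebraMap_apply]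
    rw [hα i]
    exact DevBC.baseChange_mapFree_bijective (eM i) (𝒟.α i) _ _ (𝒟.fibreIso i hi)
  have hlast : Function.Surjective (α' (𝒟.n - 1)) := by
    rw [show α' (𝒟.n - 1) = _ from dif_pos (Nat.sub_lt hn0 Nat.one_pos)]
    exact DevBC.mapFree_surjective _ _ 𝒟.cokerLast
  let 𝒟' : FlatCA.CompleteDevissage R' S' N' p' :=
    { n := 𝒟.n, pos := hn0, A := F.A', B := F.B', M := GM.M', r := 𝒟.r, hp := hp'B, α := α'
      surjSA := hsurjSA, fpSA := hfpSA, surjBA' := hsurjBA, fpBA' := hfpBA, finiteBA := hfinBA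
      smooth := hsm, geomIrred := fun i hi => hirr ⟨i, hi⟩, finiteM := hfinM, isoN := iso
      isoCoker := fun i hi => (hcok i hi).some, fibreIso := hfib, cokerLast := hlast }
  -- the points
  choose Qt Pt hQtp hPtp hQto hPto using F.points
  let qB' : ∀ i, Ideal (F.B' i) := fun i =>
    if h : i < 𝒟.n then (𝒜.qB i).map (@algebraMap (𝒟.B i) (F.B' i) _ _ (F.aB ⟨i, h⟩)) else Qt i (not_lt.1 h)
  let qA' : ∀ i, Ideal (F.A' i) := fun i =>
    if h : i < 𝒟.n then (𝒜.qA i).map (@algebraMap (𝒟.A i) (F.A' i) _ _ (F.aA ⟨i, h⟩)) else Pt i (not_lt.1 h)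
  have hB : ∀ i : Fin 𝒟.n, qB' i = (𝒜.qB i).map (algebraMap (𝒟.B i) (F.B' i)) := fun i => dif_pos i.2
  have hA : ∀ i : Fin 𝒟.n, qA' i = (𝒜.qA i).map (algebraMap (𝒟.A i) (F.A' i)) := fun i => dif_pos i.2
  haveI hqB' : ∀ i, (qB' i).IsPrime := fun i => by
    by_cases h : i < 𝒟.n
    · obtain ⟨i, rfl⟩ : ∃ j : Fin 𝒟.n, (j : ℕ) = i := ⟨⟨i, h⟩, rfl⟩
      haveI := locB i
      rw [hB i]
      exact IsLocalization.isPrime_of_isPrime_disjoint (Submonoid.powers (b i)) (F.B' i) _ (𝒜.hqB i)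
        ((Ideal.disjoint_powers_iff_notMem _ (𝒜.hqB i).isRadical).2 (hb i h))
    · simp only [qB', dif_neg h]; exact hQtp _ _
  haveI hqA' : ∀ i, (qA' i).IsPrime := fun i => by
    by_cases h : i < 𝒟.n
    · obtain ⟨i, rfl⟩ : ∃ j : Fin 𝒟.n, (j : ℕ) = i := ⟨⟨i, h⟩, rfl⟩
      haveI := locA i
      rw [hA i]
      exact IsLocalization.isPrime_of_isPrime_disjoint
        (Submonoid.powers (algebraMap (𝒟.B i) (𝒟.A i) (b i))) (F.A' i) _ (𝒜.hqA i)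
        ((Ideal.disjoint_powers_iff_notMem _ (𝒜.hqA i).isRadical).2 (hbA i h))
    · simp only [qA', dif_neg h]; exact hPtp _ _
  have cB : ∀ i : Fin 𝒟.n, (qB' i).comap (algebraMap (𝒟.B i) (F.B' i)) = 𝒜.qB i := fun i => by
    haveI := locB i
    rw [hB i]
    exact IsLocalization.under_map_of_isPrime_disjoint (Submonoid.powers (b i)) (F.B' i) (𝒜.hqB i)
      ((Ideal.disjoint_powers_iff_notMem _ (𝒜.hqB i).isRadical).2 (hb i i.2))
  have cA : ∀ i : Fin 𝒟.n, (qA' i).comap (algebraMap (𝒟.A i) (F.A' i)) = 𝒜.qA i := fun i => by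
    haveI := locA i
    rw [hA i]
    exact IsLocalization.under_map_of_isPrime_disjoint
      (Submonoid.powers (algebraMap (𝒟.B i) (𝒟.A i) (b i))) (F.A' i) (𝒜.hqA i)
      ((Ideal.disjoint_powers_iff_notMem _ (𝒜.hqA i).isRadical).2 (hbA i i.2))
  have uniqB : ∀ (i : Fin 𝒟.n) (I : Ideal (F.B' i)),
      I.comap (algebraMap (𝒟.B i) (F.B' i)) = 𝒜.qB i → I = qB' i := fun i I hI => by
    haveI := locB i
    rw [← IsLocalization.map_under (Submonoid.powers (b i)) (F.B' i) I, Ideal.under, hI, hB i]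
  have uniqA : ∀ (i : Fin 𝒟.n) (I : Ideal (F.A' i)),
      I.comap (algebraMap (𝒟.A i) (F.A' i)) = 𝒜.qA i → I = qA' i := fun i I hI => by
    haveI := locA i
    rw [← IsLocalization.map_under (Submonoid.powers (algebraMap (𝒟.B i) (𝒟.A i) (b i))) (F.A' i) I, Ideal.under,
      hI, hA i]
  haveI overB' : ∀ i, (qB' i).LiesOver p' := fun i => by
    by_cases h : i < 𝒟.n
    · obtain ⟨i, rfl⟩ : ∃ j : Fin 𝒟.n, (j : ℕ) = i := ⟨⟨i, h⟩, rfl⟩
      refine ⟨(uniqR _ ?_).symm⟩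
      rw [Ideal.comap_comap, ← IsScalarTower.algebraMap_eq, IsScalarTower.algebraMap_eq R (𝒟.B i) (F.B' i),
        ← Ideal.comap_comap, cB i]
      exact (Ideal.LiesOver.over (p := p) (P := 𝒜.qB i)).symm
    · simp only [qB', dif_neg h]; exact hQto _ _
  haveI overA' : ∀ i, (qA' i).LiesOver (qB' i) := fun i => by
    by_cases h : i < 𝒟.n
    · obtain ⟨i, rfl⟩ : ∃ j : Fin 𝒟.n, (j : ℕ) = i := ⟨⟨i, h⟩, rfl⟩
      refine ⟨(uniqB i _ ?_).symm⟩
      rw [Ideal.comap_comap, ← IsScalarTower.algebraMap_eq, IsScalarTower.algebraMap_eq (𝒟.B i) (𝒟.A i) (F.A' i),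
        ← Ideal.comap_comap, cA i]
      exact (Ideal.LiesOver.over (p := 𝒜.qB i) (P := 𝒜.qA i)).symm
    · simp only [qB', qA', dif_neg h]; exact hPto _ _
  have hpt : ∀ i, i < 𝒟.n → FlatCA.PurelyTranscendental p' (qB' i) := fun i hi => by
    obtain ⟨i, rfl⟩ : ∃ j : Fin 𝒟.n, (j : ℕ) = i := ⟨⟨i, hi⟩, rfl⟩
    haveI := locB i
    exact purelyTranscendental_of_bijective p (𝒜.qB i) p' (qB' i) cp.symm (cB i).symm
      (residue_bijective (Submonoid.powers g) p p' cp.symm)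
      (residue_bijective (Submonoid.powers (b i)) (𝒜.qB i) (qB' i) (cB i).symm) (𝒜.pureTrans i hi)
  have huniq : ∀ i, i < 𝒟.n → ∀ (Q : Ideal (F.A' i)) [Q.IsPrime], Q.LiesOver (qB' i) → Q = qA' i := fun i hi => by
    obtain ⟨i, rfl⟩ : ∃ j : Fin 𝒟.n, (j : ℕ) = i := ⟨⟨i, hi⟩, rfl⟩
    intro Q _ hQ
    refine uniqA i Q (𝒜.uniq i hi _ ⟨?_⟩)
    rw [Ideal.under, Ideal.comap_comap, ← IsScalarTower.algebraMap_eq,
      IsScalarTower.algebraMap_eq (𝒟.B i) (F.B' i) (F.A' i), ← Ideal.comap_comap]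
    exact (cB i).symm.trans (congrArg (Ideal.comap (algebraMap (𝒟.B i) (F.B' i))) hQ.over)
  have hq0 : (qA' 0).comap (algebraMap S' (F.A' 0)) = q' := by
    refine uniqS _ ?_
    rw [Ideal.comap_comap, ← IsScalarTower.algebraMap_eq, IsScalarTower.algebraMap_eq S (𝒟.A 0) (F.A' 0),
      ← Ideal.comap_comap]
    exact (congrArg (Ideal.comap (algebraMap S (𝒟.A 0))) (cA i0)).trans 𝒜.q0
  have hstep : ∀ i, i + 1 < 𝒟.n → (qA' (i + 1)).comap (algebraMap (F.B' i) (F.A' (i + 1))) = qB' i := fun i hi => by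
    obtain ⟨i, rfl⟩ : ∃ j : Fin 𝒟.n, (j : ℕ) = i := ⟨⟨i, by omega⟩, rfl⟩
    letI : Algebra (𝒟.A (i + 1)) (F.A' (i + 1)) := F.aA ⟨i + 1, hi⟩
    haveI := t10 i hi
    refine uniqB i _ ?_
    rw [Ideal.comap_comap, ← IsScalarTower.algebraMap_eq,
      IsScalarTower.algebraMap_eq (𝒟.B i) (𝒟.A (i + 1)) (F.A' (i + 1)), ← Ideal.comap_comap]
    exact (congrArg (Ideal.comap (algebraMap (𝒟.B i) (𝒟.A (i + 1)))) (cA ⟨i + 1, hi⟩)).trans (𝒜.qStep i hi)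
  have hloc : ∀ i, i < 𝒟.n → ∃ (x : PrimeSpectrum (p'.Fiber (F.B' i)))
      (hx : x ∈ Module.support (p'.Fiber (F.B' i)) (FlatCA.fiberMod p' (F.B' i) (GM.M' i))),
      x.asIdeal = FlatCA.fiberIdeal p' (qB' i) ∧
      FlatMor.localDim (Module.support (p'.Fiber (F.B' i)) (FlatCA.fiberMod p' (F.B' i) (GM.M' i))) ⟨x, hx⟩ = 𝒜.d i :=
    fun i hi => by
    obtain ⟨i, rfl⟩ : ∃ j : Fin 𝒟.n, (j : ℕ) = i := ⟨⟨i, hi⟩, rfl⟩
    haveI := locB i
    haveI := 𝒟.finiteBA i hi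
    haveI := 𝒟.finiteM i hi
    haveI : Module.Finite (𝒟.B i) (𝒟.M i) := Module.Finite.trans (𝒟.A i) (𝒟.M i)
    letI : Module (𝒟.B i) (GM.M' i) := Module.compHom _ (algebraMap (𝒟.B i) (F.B' i))
    haveI : IsScalarTower (𝒟.B i) (F.B' i) (GM.M' i) := IsScalarTower.of_compHom _ _ _
    exact (support_shrink (R' := R') (S' := F.B' i) p g (b i) p' (𝒟.M i) (GM.M' i)
      (((eM i).toLinearMap.restrictScalars (𝒟.B i)).comp (TensorProduct.mk (𝒟.B i) (F.B' i) (𝒟.M i) 1))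
      (IsBaseChange.of_equiv (eM i) fun _ => rfl) (𝒜.qB i) (qB' i) (cB i) _ (𝒜.locDim i hi)).1
  let 𝒜' : FlatCA.CompleteDevissageAt R' S' N' p' q' 𝒟' :=
    { qB := qB', qA := qA', hqB := hqB', hqA := hqA', overB := overB', overA := overA', pureTrans := hpt
      uniq := huniq, q0 := hq0, qStep := hstep, d := 𝒜.d, relDim := fun i hi => hrel ⟨i, hi⟩, locDim := hloc }
  have hfin : ∀ i : Fin 𝒟.n,
      algebraMap (𝒟.B i) (𝒟.A i) (b i) ∉ 𝒜.qA i ∧ b i ∉ 𝒜.qB i ∧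
      IsLocalization.Away (algebraMap (𝒟.B i) (𝒟.A i) (b i)) (F.A' i) ∧ IsLocalization.Away (b i) (F.B' i) ∧
      IsLocalizedModule (Submonoid.powers (algebraMap (𝒟.B i) (𝒟.A i) (b i))) (gM i) ∧
      (qA' i).LiesOver (𝒜.qA i) ∧ (qB' i).LiesOver (𝒜.qB i) ∧
      LinearMap.range (α' i) = Submodule.span (F.B' i) ((gM i) '' (LinearMap.range (𝒟.α i) : Set (𝒟.M i))) := by
    intro i
    haveI := locA i
    refine ⟨hbA i i.2, hb i i.2, locA i, locB i,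
      (isLocalizedModule_iff_isBaseChange _ (F.A' i) (gM i)).2 (hgM i), ⟨(cA i).symm⟩, ⟨(cB i).symm⟩, ?_⟩
    rw [hα i, DevBC.range_mapFree_eq_span]
    congr 1
    exact Set.image_congr fun m _ => heM i m
  exact ⟨g, hX, hg, hXq, isUnit_of_dvd_unit (map_dvd _ (dvd_mul_right s _)) (IsLocalization.Away.algebraMap_isUnit (S := S') hX),
    aRS, tRS, mRN, tRN, hp', hq', 𝒟', 𝒜', fun i => algebraMap (𝒟.B i) (𝒟.A i) (b i), fun i => b i,
    F.aA, fun i => F.rA i, fun i => F.tA i, F.tAA, F.aB, fun i => F.rB i, fun i => F.tB i, F.tBB,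
    bAo, tAo, t6, bAo', t7, sA, tSS, GM.mA, GM.tA, gM, rfl, rfl, rfl, t0, hiso, t10, fun i => rfl, hfin⟩

end Groth.Agent.RG.Dev.Shrink
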