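import Mathlib
import Groth.Prelude

/-!
Compatible families of elements along a complete dévissage at a point.
-/

set_option autoImplicit false

universe u

namespace Groth.Agent.RG.Dev.Shrink

variable {R S : Type u} [CommRing R] [CommRing S] [Algebra R S] {N : Type u} [AddCommGroup N] [Module S N]
  {p : Ideal R} [p.IsPrime] {q : Ideal S} [q.IsPrime] {𝒟 : FlatCA.CompleteDevissage R S N p}
  (𝒜 : FlatCA.CompleteDevissageAt R S N p q 𝒟)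

theorem mem_qA_iff {i : ℕ} (x : 𝒟.B i) : algebraMap (𝒟.B i) (𝒟.A i) x ∈ 𝒜.qA i ↔ x ∈ 𝒜.qB i := by
  rw [(𝒜.overA i).over]
  rfl

theorem mem_qA_succ_iff {i : ℕ} (hi : i + 1 < 𝒟.n) (x : 𝒟.B i) :
    algebraMap (𝒟.B i) (𝒟.A (i + 1)) x ∈ 𝒜.qA (i + 1) ↔ x ∈ 𝒜.qB i := by
  rw [← 𝒜.qStep i hi]
  rfl

/-- an element of the smooth algebra, away from the point, which is a multiple of a given one -/
theorem exists_multiple {i : ℕ} (hi : i < 𝒟.n) (a : 𝒟.A i) (ha : a ∉ 𝒜.qA i) :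
    ∃ w : 𝒟.B i, w ∉ 𝒜.qB i ∧ a ∣ algebraMap (𝒟.B i) (𝒟.A i) w := by
  haveI := 𝒟.finiteBA i hi
  haveI : Algebra.IsIntegral (𝒟.B i) (𝒟.A i) := Algebra.IsIntegral.of_finite _ _
  haveI := 𝒜.hqB i
  by_contra hno
  obtain ⟨Q, hQJ, hQ, hQy⟩ := Ideal.exists_ideal_over_prime_of_isIntegral (𝒜.qB i) (Ideal.span {a}) (fun w hw => by
    by_contra h
    exact hno ⟨w, h, Ideal.mem_span_singleton.1 hw⟩)
  haveI := hQ
  exact ha (𝒜.uniq i hi Q ⟨hQy.symm⟩ ▸ hQJ (Ideal.subset_span rfl))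

/-- downwards: adjust a family so that the images in the middle rings agree -/
theorem exists_back (w : ∀ i, 𝒟.B i) (hw : w (𝒟.n - 1) ∉ 𝒜.qB (𝒟.n - 1))
    (hdiv : ∀ i, i + 1 < 𝒟.n →
      algebraMap (𝒟.B i) (𝒟.A (i + 1)) (w i) ∣ algebraMap (𝒟.B (i + 1)) (𝒟.A (i + 1)) (w (i + 1))) :
    ∃ bb : ∀ i, 𝒟.B i, bb (𝒟.n - 1) = w (𝒟.n - 1) ∧ (∀ i, i < 𝒟.n → bb i ∉ 𝒜.qB i) ∧
      (∀ i, i < 𝒟.n → w i ∣ bb i) ∧
      ∀ i, i + 1 < 𝒟.n → algebraMap (𝒟.B i) (𝒟.A (i + 1)) (bb i) = algebraMap (𝒟.B (i + 1)) (𝒟.A (i + 1)) (bb (i + 1)) := by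
  classical
  have hn0 : 0 < 𝒟.n := 𝒟.pos
  have key : ∀ k, k < 𝒟.n → ∃ bb : ∀ i, 𝒟.B i, bb (𝒟.n - 1) = w (𝒟.n - 1) ∧
      (∀ i, 𝒟.n - 1 - k ≤ i → i < 𝒟.n → bb i ∉ 𝒜.qB i ∧ w i ∣ bb i) ∧
      ∀ i, 𝒟.n - 1 - k ≤ i → i + 1 < 𝒟.n →
        algebraMap (𝒟.B i) (𝒟.A (i + 1)) (bb i) = algebraMap (𝒟.B (i + 1)) (𝒟.A (i + 1)) (bb (i + 1)) := by
    intro k
    induction k with
    | zero =>
      refine fun _ => ⟨w, rfl, fun i h1 h2 => ?_, fun i h1 h2 => absurd h2 (by omega)⟩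
      obtain rfl : i = 𝒟.n - 1 := by omega
      exact ⟨hw, dvd_rfl⟩
    | succ k ih =>
      intro hk
      obtain ⟨bb, hb1, hb2, hb3⟩ := ih (by omega)
      obtain ⟨j, hj⟩ : ∃ j, j = 𝒟.n - 1 - (k + 1) := ⟨_, rfl⟩
      have hj1 : j + 1 < 𝒟.n := by omega
      obtain ⟨hn1, hd1⟩ := hb2 (j + 1) (by omega) hj1
      obtain ⟨c, hc⟩ := (hdiv j hj1).trans (map_dvd (algebraMap (𝒟.B (j + 1)) (𝒟.A (j + 1))) hd1)
      obtain ⟨c0, hc0⟩ := 𝒟.surjBA' j hj1 c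
      have hx : algebraMap (𝒟.B j) (𝒟.A (j + 1)) (w j * c0) =
          algebraMap (𝒟.B (j + 1)) (𝒟.A (j + 1)) (bb (j + 1)) := by rw [map_mul, hc0, hc]
      refine ⟨Function.update bb j (w j * c0), ?_, fun i h1 h2 => ?_, fun i h1 h2 => ?_⟩
      · rw [Function.update_of_ne (by omega)]; exact hb1
      · by_cases hij : i = j
        · subst hij
          rw [Function.update_self]
          refine ⟨fun h => ?_, dvd_mul_right _ _⟩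
          rw [← mem_qA_succ_iff 𝒜 hj1, hx, mem_qA_iff] at h
          exact hn1 h
        · rw [Function.update_of_ne hij]
          exact hb2 i (by omega) h2
      · by_cases hij : i = j
        · subst hij
          rw [Function.update_self, Function.update_of_ne (by omega)]
          exact hx
        · rw [Function.update_of_ne hij, Function.update_of_ne (by omega)]
          exact hb3 i (by omega) h2
  obtain ⟨bb, h1, h2, h3⟩ := key (𝒟.n - 1) (by omega)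
  exact ⟨bb, h1, fun i hi => (h2 i (by omega) hi).1, fun i hi => (h2 i (by omega) hi).2,
    fun i hi => h3 i (by omega) hi⟩

/-- upwards: a family absorbing a given element of the ring -/
theorem exists_forward (u : S) (hu : u ∉ q) :
    ∃ w : ∀ i, 𝒟.B i, (algebraMap S (𝒟.A 0) u ∣ algebraMap (𝒟.B 0) (𝒟.A 0) (w 0)) ∧
      (∀ i, i < 𝒟.n → w i ∉ 𝒜.qB i) ∧
      ∀ i, i + 1 < 𝒟.n →
        algebraMap (𝒟.B i) (𝒟.A (i + 1)) (w i) ∣ algebraMap (𝒟.B (i + 1)) (𝒟.A (i + 1)) (w (i + 1)) := by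
  classical
  have hu0 : algebraMap S (𝒟.A 0) u ∉ 𝒜.qA 0 := fun h => hu (by rw [← 𝒜.q0]; exact h)
  obtain ⟨w0, hw0, hd0⟩ := exists_multiple 𝒜 𝒟.pos _ hu0
  have hstep : ∀ i (x : 𝒟.B i), ∃ y : 𝒟.B (i + 1), i + 1 < 𝒟.n → x ∉ 𝒜.qB i → y ∉ 𝒜.qB (i + 1) ∧
      algebraMap (𝒟.B i) (𝒟.A (i + 1)) x ∣ algebraMap (𝒟.B (i + 1)) (𝒟.A (i + 1)) y := by
    intro i x
    by_cases h : i + 1 < 𝒟.n ∧ x ∉ 𝒜.qB i
    · obtain ⟨y, hy⟩ := exists_multiple 𝒜 h.1 _ (fun h' => h.2 ((mem_qA_succ_iff 𝒜 h.1 x).1 h'))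
      exact ⟨y, fun _ _ => hy⟩
    · exact ⟨0, fun h1 h2 => absurd ⟨h1, h2⟩ h⟩
  choose y hy using hstep
  let w : ∀ i, 𝒟.B i := fun i => Nat.rec (motive := fun i => 𝒟.B i) w0 y i
  have hw : ∀ i, i < 𝒟.n → w i ∉ 𝒜.qB i := by
    intro i
    induction i with
    | zero => exact fun _ => hw0
    | succ i ih => exact fun hi => (hy i (w i) hi (ih (by omega))).1
  exact ⟨w, hd0, hw, fun i hi => (hy i (w i) hi (hw i (by omega))).2⟩

end Groth.Agent.RG.Dev.Shrink
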