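import Groth.Agent.RG.Dev.DevTools
import Groth.Agent.RG.Dev.StepBC
import Groth.Agent.RG.Dev.SmoothNbhd
import Groth.Agent.RG.Dev.GenericFree
import Groth.Agent.S12246

/-!
# Existence of complete dévissages after étale localisation
-/

set_option autoImplicit false

universe u

open CategoryTheory AlgebraicGeometry Limits
open scoped TensorProduct
open Groth.Agent

namespace Groth.Agent.RG.Dev.DevExists

/-- A complete dévissage exists at `q` after étale localisation. -/
def HasLoc (R S : Type u) [CommRing R] [CommRing S] [Algebra R S] (N : Type u) [AddCommGroup N] [Module S N]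
    (p : Ideal R) [p.IsPrime] (q : Ideal S) [q.IsPrime] : Prop :=
  ∃ (R' S' : Type u) (_ : CommRing R') (_ : CommRing S') (_ : Algebra R R') (_ : Algebra S S') (_ : Algebra R' S')
    (_ : Algebra R S') (_ : IsScalarTower R R' S') (_ : IsScalarTower R S S') (p' : Ideal R') (q' : Ideal S')
    (_ : p'.IsPrime) (_ : q'.IsPrime),
    FlatCA.IsEtaleNhd R R' p p' ∧ FlatCA.IsEtaleNhd S S' q q' ∧ q'.LiesOver p' ∧
      FlatCA.HasCompleteDevissageAt R' S' (S' ⊗[S] N) p' q'

/-- Shrinking the base so that an open piece of a geometrically integral algebra meets every fibre. -/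
theorem exists_geomIrred_shrink {R D : Type u} [CommRing R] [CommRing D] [Algebra R D] {n : ℕ}
    (hs : FlatCA.SmoothRelDim n R D) (p : Ideal R) [p.IsPrime] (y : Ideal D) [y.IsPrime] [y.LiesOver p]
    {X S₀ : Scheme.{u}} (f : X ⟶ S₀) [GeometricallyIntegral f] (j : Spec (CommRingCat.of D) ⟶ X) [IsOpenImmersion j]
    (ι : Spec (CommRingCat.of R) ⟶ S₀) [IsOpenImmersion ι]
    (w : Spec.map (CommRingCat.ofHom (algebraMap R D)) ≫ ι = j ≫ f) :
    ∃ (R₅ : Type u) (_ : CommRing R₅) (_ : Algebra R R₅) (p₅ : Ideal R₅) (_ : p₅.IsPrime)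
      (D₅ : Type u) (_ : CommRing D₅) (_ : Algebra D D₅) (_ : Algebra R₅ D₅) (_ : Algebra R D₅)
      (_ : IsScalarTower R R₅ D₅) (_ : IsScalarTower R D D₅) (y₅ : Ideal D₅) (_ : y₅.IsPrime)
      (_ : y₅.LiesOver p₅) (_ : y₅.LiesOver y),
      FlatCA.IsEtaleNhd R R₅ p p₅ ∧ FlatCA.IsEtaleNhd D D₅ y y₅ ∧ Algebra.IsPushout R R₅ D D₅ ∧
        FlatCA.GeomIrredFibres R₅ D₅ := by
  haveI : Algebra.Smooth R D := Shrink.smooth_of_smoothRelDim hs
  obtain ⟨g, hg, himg⟩ := Shrink.exists_g p y (1 : D) fun h1 => ‹y.IsPrime›.ne_top ((Ideal.eq_top_iff_one y).2 h1)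
  let b : D := algebraMap R D g
  let R₅ := Localization.Away g
  let D₅ := Localization.Away b
  have hu : IsUnit (algebraMap R D₅ g) := by
    rw [IsScalarTower.algebraMap_apply R D D₅]
    exact IsLocalization.Away.algebraMap_isUnit b
  letI : Algebra R₅ D₅ := (IsLocalization.Away.lift (S := R₅) g hu).toAlgebra
  haveI : IsScalarTower R R₅ D₅ :=
    IsScalarTower.of_algebraMap_eq fun a => (IsLocalization.Away.lift_eq g hu a).symm
  haveI : IsLocalization (Algebra.algebraMapSubmonoid D (Submonoid.powers g)) D₅ := by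
    rw [Algebra.algebraMapSubmonoid_powers]
    exact (inferInstance : IsLocalization.Away b D₅)
  haveI hpo : Algebra.IsPushout R R₅ D D₅ :=
    Algebra.IsPushout.symm (Algebra.isPushout_of_isLocalization (Submonoid.powers g) R₅ D D₅)
  have hdg : Disjoint (Submonoid.powers g : Set R) p := by
    rwa [Ideal.disjoint_powers_iff_notMem_of_isPrime]
  have hby : b ∉ y := fun h => hg (by rw [y.over_def p]; exact h)
  have hdb : Disjoint (Submonoid.powers b : Set D) y := by
    rwa [Ideal.disjoint_powers_iff_notMem_of_isPrime]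
  let p₅ := p.map (algebraMap R R₅)
  let y₅ := y.map (algebraMap D D₅)
  haveI : p₅.IsPrime := IsLocalization.isPrime_of_isPrime_disjoint (Submonoid.powers g) R₅ _ ‹_› hdg
  haveI : y₅.IsPrime := IsLocalization.isPrime_of_isPrime_disjoint (Submonoid.powers b) D₅ _ ‹_› hdb
  have hp₅ : p = p₅.comap (algebraMap R R₅) :=
    (IsLocalization.comap_map_of_isPrime_disjoint (Submonoid.powers g) R₅ ‹_› hdg).symm
  have hy₅ : y = y₅.comap (algebraMap D D₅) :=
    (IsLocalization.comap_map_of_isPrime_disjoint (Submonoid.powers b) D₅ ‹_› hdb).symm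
  haveI : p₅.LiesOver p := ⟨hp₅⟩
  haveI : y₅.LiesOver y := ⟨hy₅⟩
  haveI : y₅.LiesOver p₅ := ⟨by
    rw [← IsLocalization.map_comap (Submonoid.powers g) R₅ (y₅.under R₅), Ideal.under, Ideal.under, Ideal.comap_comap,
      ← IsScalarTower.algebraMap_eq, IsScalarTower.algebraMap_eq R D D₅, ← Ideal.comap_comap, ← hy₅, ← Ideal.under,
      ← y.over_def p]⟩
  have hsurj : Function.Surjective (PrimeSpectrum.comap (algebraMap R₅ D₅)) :=
    Shrink.surj_shrink g b fun P hP => by
      obtain ⟨Q, -, hQP⟩ := himg P hP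
      exact ⟨Q, fun h => hP (by rw [← hQP]; exact h), hQP⟩
  haveI : IsOpenImmersion (Spec.map (CommRingCat.ofHom (algebraMap R R₅))) := IsOpenImmersion.of_isLocalization g
  haveI : IsOpenImmersion (Spec.map (CommRingCat.ofHom (algebraMap D D₅))) := IsOpenImmersion.of_isLocalization b
  haveI : AlgebraicGeometry.Surjective (Spec.map (CommRingCat.ofHom (algebraMap R₅ D₅))) := ⟨hsurj⟩
  have hgi : GeometricallyIntegral (Spec.map (CommRingCat.ofHom (algebraMap R₅ D₅))) := by
    refine RGDev.geometricallyIntegral_openImmersion_lift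
      (Spec.map (CommRingCat.ofHom (algebraMap D D₅)) ≫ j) f _
      (Spec.map (CommRingCat.ofHom (algebraMap R R₅)) ≫ ι) ?_
    rw [Category.assoc, ← w, ← Category.assoc, ← Category.assoc, ← Spec.map_comp, ← Spec.map_comp,
      ← CommRingCat.ofHom_comp, ← CommRingCat.ofHom_comp, ← IsScalarTower.algebraMap_eq,
      ← IsScalarTower.algebraMap_eq]
  haveI := hgi
  exact ⟨R₅, inferInstance, inferInstance, p₅, inferInstance, D₅, inferInstance, inferInstance, inferInstance,
    inferInstance, inferInstance, inferInstance, y₅, inferInstance, inferInstance, inferInstance,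
    EtaleMaps.isEtaleNhd_away g p p₅, EtaleMaps.isEtaleNhd_away b y y₅, hpo, inferInstance⟩

/-- Successive base changes followed by a localisation. -/
noncomputable def chainEquivAway {A B T : Type u} [CommRing A] [CommRing B] [CommRing T] [Algebra A B] [Algebra B T]
    [Algebra A T] [IsScalarTower A B T] (M : Type u) [AddCommGroup M] [Module A M] (h : T) :
    Localization.Away h ⊗[A] M ≃ₗ[Localization.Away h]
      LocalizedModule (Submonoid.powers h) (T ⊗[B] (B ⊗[A] M)) := by
  haveI : IsScalarTower A B (Localization.Away h) := IsScalarTower.of_algebraMap_eq fun a => by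
    rw [IsScalarTower.algebraMap_apply A T (Localization.Away h), IsScalarTower.algebraMap_apply A B T,
      ← IsScalarTower.algebraMap_apply B T (Localization.Away h)]
  exact ((TensorProduct.AlgebraTensorModule.cancelBaseChange A B (Localization.Away h) (Localization.Away h) M).symm ≪≫ₗ
    (TensorProduct.AlgebraTensorModule.cancelBaseChange B T (Localization.Away h) (Localization.Away h)
      (B ⊗[A] M)).symm) ≪≫ₗ (LocalizedModule.equivTensorProduct (Submonoid.powers h) (T ⊗[B] (B ⊗[A] M))).symm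

/-- The next stage, once a complete dévissage is available over an open piece of a geometrically integral algebra. -/
theorem exists_finish {R D R₄ D₄ : Type u} [CommRing R] [CommRing D] [CommRing R₄] [CommRing D₄] [Algebra R D]
    [Algebra R R₄] [Algebra D D₄] [Algebra R₄ D₄] [Algebra R D₄] [IsScalarTower R R₄ D₄] [IsScalarTower R D D₄]
    {p : Ideal R} [p.IsPrime] {y : Ideal D} [y.IsPrime] {p₄ : Ideal R₄} [p₄.IsPrime] {y₄ : Ideal D₄} [y₄.IsPrime]
    [y₄.LiesOver p₄] (hR : FlatCA.IsEtaleNhd R R₄ p p₄) (hD : FlatCA.IsEtaleNhd D D₄ y y₄) {n : ℕ}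
    (hs : FlatCA.SmoothRelDim n R₄ D₄) {X S₀ : Scheme.{u}} (f : X ⟶ S₀) [GeometricallyIntegral f]
    (j : Spec (CommRingCat.of D₄) ⟶ X) [IsOpenImmersion j] (ι : Spec (CommRingCat.of R₄) ⟶ S₀) [IsOpenImmersion ι]
    (w : Spec.map (CommRingCat.ofHom (algebraMap R₄ D₄)) ≫ ι = j ≫ f) (N₁ : Type u) [AddCommGroup N₁] [Module D N₁]
    (N₄ : Type u) [AddCommGroup N₄] [Module D₄ N₄] (e : D₄ ⊗[D] N₁ ≃ₗ[D₄] N₄)
    (hdev : FlatCA.HasCompleteDevissageAt R₄ D₄ N₄ p₄ y₄) :
    ∃ (R₃ : Type u) (_ : CommRing R₃) (_ : Algebra R R₃) (p₃ : Ideal R₃) (_ : p₃.IsPrime)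
      (D₃ : Type u) (_ : CommRing D₃) (_ : Algebra D D₃) (_ : Algebra R₃ D₃) (_ : Algebra R D₃)
      (_ : IsScalarTower R R₃ D₃) (_ : IsScalarTower R D D₃) (y₃ : Ideal D₃) (_ : y₃.IsPrime) (_ : y₃.LiesOver p₃),
      FlatCA.IsEtaleNhd R R₃ p p₃ ∧ FlatCA.IsEtaleNhd D D₃ y y₃ ∧ FlatCA.GeomIrredFibres R₃ D₃ ∧
        (Subsingleton (D₃ ⊗[D] N₁) ∨ FlatCA.HasCompleteDevissageAt R₃ D₃ (D₃ ⊗[D] N₁) p₃ y₃) := by
  obtain ⟨R₅, _, _, p₅, _, D₅, _, _, _, _, _, _, y₅, _, _, _, hR₅, hD₅, hpo, hirr⟩ :=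
    exists_geomIrred_shrink hs p₄ y₄ f j ι w
  haveI := hpo
  obtain ⟨eR₅, lR₅, bR₅⟩ := hR₅
  haveI := lR₅
  letI : Algebra R R₅ := ((algebraMap R₄ R₅).comp (algebraMap R R₄)).toAlgebra
  haveI : IsScalarTower R R₄ R₅ := IsScalarTower.of_algebraMap_eq fun _ => rfl
  letI : Algebra D D₅ := ((algebraMap D₄ D₅).comp (algebraMap D D₄)).toAlgebra
  haveI : IsScalarTower D D₄ D₅ := IsScalarTower.of_algebraMap_eq fun _ => rfl
  letI : Algebra R D₅ := ((algebraMap R₅ D₅).comp (algebraMap R R₅)).toAlgebra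
  haveI : IsScalarTower R R₅ D₅ := IsScalarTower.of_algebraMap_eq fun _ => rfl
  haveI : IsScalarTower R D D₅ := IsScalarTower.of_algebraMap_eq fun r => by
    show algebraMap R₅ D₅ (algebraMap R₄ R₅ (algebraMap R R₄ r)) =
      algebraMap D₄ D₅ (algebraMap D D₄ (algebraMap R D r))
    rw [← IsScalarTower.algebraMap_apply R₄ R₅ D₅, ← IsScalarTower.algebraMap_apply R D D₄,
      IsScalarTower.algebraMap_apply R R₄ D₄, ← IsScalarTower.algebraMap_apply R₄ D₄ D₅]
  have hdev₅ : FlatCA.HasCompleteDevissageAt R₅ D₅ (D₅ ⊗[D₄] N₄) p₅ y₅ :=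
    hasDev_baseChange bR₅ (TensorProduct.mk D₄ D₅ N₄ 1) (TensorProduct.isBaseChange _ _ _) y₅ hdev
  have hdev' : FlatCA.HasCompleteDevissageAt R₅ D₅ (D₅ ⊗[D] N₁) p₅ y₅ :=
    hasDev_equiv ((TensorProduct.AlgebraTensorModule.cancelBaseChange D D₄ D₅ D₅ N₁).symm.trans
      (TensorProduct.AlgebraTensorModule.congr (LinearEquiv.refl D₅ D₅) e)) hdev₅
  exact ⟨R₅, inferInstance, inferInstance, p₅, inferInstance, D₅, inferInstance, inferInstance, inferInstance,
    inferInstance, inferInstance, inferInstance, y₅, inferInstance, inferInstance,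
    EtaleMaps.isEtaleNhd_trans hR ⟨eR₅, lR₅, bR₅⟩, EtaleMaps.isEtaleNhd_trans hD hD₅, hirr, Or.inr hdev'⟩

/-- The next stage: a smooth algebra with geometrically irreducible fibres on which the cokernel vanishes or
has a complete dévissage. -/
theorem exists_next {R D : Type u} [CommRing R] [CommRing D] [Algebra R D] {n : ℕ} (hs : FlatCA.SmoothRelDim n R D)
    (hgi : FlatCA.GeomIntegralFibres R D) (p : Ideal R) [p.IsPrime] (y : Ideal D) [y.IsPrime] [y.LiesOver p]
    (hpt : FlatCA.PurelyTranscendental p y) (N₁ : Type u) [AddCommGroup N₁] [Module D N₁] [Module.Finite D N₁]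
    (hrec : ∀ (x : PrimeSpectrum (p.Fiber D)), x.asIdeal = FlatCA.fiberIdeal p y →
      x ∈ Module.support (p.Fiber D) (FlatCA.fiberMod p D N₁) → HasLoc R D N₁ p y) :
    ∃ (R₃ : Type u) (_ : CommRing R₃) (_ : Algebra R R₃) (p₃ : Ideal R₃) (_ : p₃.IsPrime)
      (D₃ : Type u) (_ : CommRing D₃) (_ : Algebra D D₃) (_ : Algebra R₃ D₃) (_ : Algebra R D₃)
      (_ : IsScalarTower R R₃ D₃) (_ : IsScalarTower R D D₃) (y₃ : Ideal D₃) (_ : y₃.IsPrime) (_ : y₃.LiesOver p₃),
      FlatCA.IsEtaleNhd R R₃ p p₃ ∧ FlatCA.IsEtaleNhd D D₃ y y₃ ∧ FlatCA.GeomIrredFibres R₃ D₃ ∧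
        (Subsingleton (D₃ ⊗[D] N₁) ∨ FlatCA.HasCompleteDevissageAt R₃ D₃ (D₃ ⊗[D] N₁) p₃ y₃) := by
  haveI : Algebra.Smooth R D := Shrink.smooth_of_smoothRelDim hs
  let f₀ := Spec.map (CommRingCat.ofHom (algebraMap R D))
  haveI : GeometricallyIntegral f₀ := hgi
  by_cases hy : (⟨y, ‹_›⟩ : PrimeSpectrum D) ∈ Module.support D N₁
  · -- the recursive case
    obtain ⟨x, hxq, hxp⟩ := DevTools.exists_fibre_point p y
    have hx : x ∈ Module.support (p.Fiber D) (FlatCA.fiberMod p D N₁) := by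
      rw [Shrink.support_fiberMod, Set.mem_preimage, hxp]; exact hy
    obtain ⟨R₂, D₂, _, _, _, _, _, _, _, _, p₂, y₂, _, _, hR₂, hD₂, hy₂p, hdev₂⟩ := hrec x hxq hx
    haveI := hy₂p
    obtain ⟨eR₂, lR₂, bR₂⟩ := (EtaleMaps.isEtaleNhd_iff p p₂).1 hR₂
    obtain ⟨eD₂, lD₂, bD₂⟩ := (EtaleMaps.isEtaleNhd_iff y y₂).1 hD₂
    haveI := eR₂
    haveI := eD₂
    haveI := lR₂
    haveI := lD₂
    have hs₂ : FlatCA.SmoothRelDim n R₂ D₂ := EtaleMaps.smoothRelDim_etale hs
    have hpt₂ : FlatCA.PurelyTranscendental p₂ y₂ :=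
      Shrink.purelyTranscendental_of_bijective p y p₂ y₂ lR₂.over lD₂.over bR₂ bD₂ hpt
    obtain ⟨RP, _, _, pP, _, DP, _, _, _, _, _, _, yP, _, hyPp, hyPy, hRP, -, -, -, -, hgiP, hopen⟩ :=
      SmoothNbhd.exists_integral_open_nbhd hs₂ p₂ y₂ hpt₂
    haveI := hyPp
    haveI := hyPy
    obtain ⟨eRP, lRP, bRP⟩ := hRP
    haveI := eRP
    haveI := lRP
    let φ := Algebra.TensorProduct.lift (IsScalarTower.toAlgHom R₂ RP DP) (IsScalarTower.toAlgHom R₂ D₂ DP)
      fun _ _ => Commute.all _ _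
    let T := RP ⊗[R₂] D₂
    letI : Algebra D₂ T := Algebra.TensorProduct.rightAlgebra
    haveI : Algebra.IsPushout R₂ RP D₂ T := inferInstance
    have hφR : ∀ a : RP, φ.toRingHom (algebraMap RP T a) = algebraMap RP DP a := fun a => by
      show φ (a ⊗ₜ[R₂] (1 : D₂)) = _
      refine (Algebra.TensorProduct.lift_tmul _ _ _ a (1 : D₂)).trans ?_
      rw [map_one, mul_one]; rfl
    let yT : Ideal T := yP.comap φ.toRingHom
    haveI : yT.IsPrime := inferInstance
    haveI : yT.LiesOver pP := ⟨by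
      rw [Ideal.under, Ideal.comap_comap, show φ.toRingHom.comp (algebraMap RP T) = algebraMap RP DP from
        RingHom.ext hφR]
      exact yP.over_def pP⟩
    haveI : yT.LiesOver y₂ := ⟨by
      rw [Ideal.under, Ideal.comap_comap, show φ.toRingHom.comp (algebraMap D₂ T) = algebraMap D₂ DP from
        RingHom.ext fun a => by
          show φ ((1 : RP) ⊗ₜ[R₂] a) = _
          refine (Algebra.TensorProduct.lift_tmul _ _ _ (1 : RP) a).trans ?_
          rw [map_one, one_mul]; rfl]
      exact yP.over_def y₂⟩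
    let N₂ := D₂ ⊗[D] N₁
    let NT := T ⊗[D₂] N₂
    have hfT : IsBaseChange T (TensorProduct.mk D₂ T N₂ 1) := TensorProduct.isBaseChange _ _ _
    have hdevT : FlatCA.HasCompleteDevissageAt RP T NT pP yT :=
      hasDev_baseChange bRP (TensorProduct.mk D₂ T N₂ 1) hfT yT hdev₂
    obtain ⟨_, ⟨u, rfl⟩, hu, husub⟩ := PrimeSpectrum.isTopologicalBasis_basic_opens.exists_subset_of_mem_open
      (a := (⟨yT, inferInstance⟩ : PrimeSpectrum T))
      (show (⟨yT, inferInstance⟩ : PrimeSpectrum T) ∈ Set.range (Spec.map (CommRingCat.ofHom φ.toRingHom)) from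
        ⟨(⟨yP, ‹_›⟩ : PrimeSpectrum DP), rfl⟩)
      (Spec.map (CommRingCat.ofHom φ.toRingHom)).isOpenEmbedding.isOpen_range
    haveI : Algebra.Smooth R₂ D₂ := Shrink.smooth_of_smoothRelDim hs₂
    haveI : Algebra.FiniteType RP T := inferInstance
    obtain ⟨𝒟, ⟨𝒜⟩⟩ := hdevT
    obtain ⟨g, hX, hg, hXq, hunit, iA, iT, iM, -, ip, iq, 𝒟', 𝒜', -⟩ := S12246.result RP T NT pP yT 𝒟 𝒜 u hu
    let R₄ := Localization.Away g
    let D₄ := Localization.Away hX
    let N₄ := LocalizedModule (Submonoid.powers hX) NT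
    letI : Algebra R₄ D₄ := iA
    haveI : IsScalarTower RP R₄ D₄ := iT
    let p₄ := pP.map (algebraMap RP R₄)
    let y₄ := yT.map (algebraMap T D₄)
    haveI : p₄.IsPrime := ip
    haveI : y₄.IsPrime := iq
    have hdev₄ : FlatCA.HasCompleteDevissageAt R₄ D₄ N₄ p₄ y₄ := ⟨𝒟', ⟨𝒜'⟩⟩
    have hdg : Disjoint (Submonoid.powers g : Set RP) pP := by
      rwa [Ideal.disjoint_powers_iff_notMem_of_isPrime]
    have hdX : Disjoint (Submonoid.powers hX : Set T) yT := by
      rwa [Ideal.disjoint_powers_iff_notMem_of_isPrime]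
    haveI : p₄.LiesOver pP :=
      ⟨(IsLocalization.comap_map_of_isPrime_disjoint (Submonoid.powers g) R₄ ‹_› hdg).symm⟩
    have hy₄ : yT = y₄.comap (algebraMap T D₄) :=
      (IsLocalization.comap_map_of_isPrime_disjoint (Submonoid.powers hX) D₄ ‹_› hdX).symm
    haveI : y₄.LiesOver yT := ⟨hy₄⟩
    haveI : y₄.LiesOver p₄ := ⟨by
      rw [← IsLocalization.map_comap (Submonoid.powers g) R₄ (y₄.under R₄), Ideal.under, Ideal.under, Ideal.comap_comap,
        ← IsScalarTower.algebraMap_eq, IsScalarTower.algebraMap_eq RP T D₄, ← Ideal.comap_comap, ← hy₄, ← Ideal.under,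
        ← yT.over_def pP]⟩
    -- the algebras over `D`
    letI : Algebra D T := ((algebraMap D₂ T).comp (algebraMap D D₂)).toAlgebra
    haveI : IsScalarTower D D₂ T := IsScalarTower.of_algebraMap_eq fun _ => rfl
    haveI : IsScalarTower D T D₄ := inferInstance
    letI : Algebra R RP := ((algebraMap R₂ RP).comp (algebraMap R R₂)).toAlgebra
    haveI : IsScalarTower R R₂ RP := IsScalarTower.of_algebraMap_eq fun _ => rfl
    haveI : IsScalarTower R RP R₄ := inferInstance
    have hRT : ∀ r : R, algebraMap R D₄ r = algebraMap T D₄ (algebraMap RP T (algebraMap R RP r)) := fun r => rfl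
    haveI : IsScalarTower R R₄ D₄ := IsScalarTower.of_algebraMap_eq fun r => by
      rw [hRT, ← IsScalarTower.algebraMap_apply RP T D₄, IsScalarTower.algebraMap_apply RP R₄ D₄,
        ← IsScalarTower.algebraMap_apply R RP R₄]
    haveI : IsScalarTower R D D₄ := IsScalarTower.of_algebraMap_eq fun r => by
      rw [hRT, IsScalarTower.algebraMap_apply R R₂ RP, ← IsScalarTower.algebraMap_apply R₂ RP T,
        IsScalarTower.algebraMap_apply R₂ D₂ T, ← IsScalarTower.algebraMap_apply R R₂ D₂,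
        IsScalarTower.algebraMap_apply R D D₂, ← IsScalarTower.algebraMap_apply D D₂ T,
        ← IsScalarTower.algebraMap_apply D T D₄]
    have hRRP : FlatCA.IsEtaleNhd R RP p pP :=
      EtaleMaps.isEtaleNhd_trans hR₂ ⟨eRP, lRP, bRP⟩
    have hRR₄ : FlatCA.IsEtaleNhd R R₄ p p₄ :=
      EtaleMaps.isEtaleNhd_trans hRRP (EtaleMaps.isEtaleNhd_away g pP p₄)
    have hDT : FlatCA.IsEtaleNhd D T y yT :=
      EtaleMaps.isEtaleNhd_trans hD₂ (EtaleMaps.isEtaleNhd_pushout ⟨eRP, lRP, bRP⟩ y₂ yT)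
    have hDD₄ : FlatCA.IsEtaleNhd D D₄ y y₄ :=
      EtaleMaps.isEtaleNhd_trans hDT (EtaleMaps.isEtaleNhd_away hX yT y₄)
    haveI := hRR₄.1
    haveI := hDD₄.1
    have hs₄ : FlatCA.SmoothRelDim n R₄ D₄ := EtaleMaps.smoothRelDim_etale hs
    -- the open immersion into the algebra with geometrically integral fibres
    let jT := Spec.map (CommRingCat.ofHom (algebraMap T D₄))
    haveI : IsOpenImmersion jT := IsOpenImmersion.of_isLocalization hX
    have hrange : Set.range jT ⊆ Set.range (Spec.map (CommRingCat.ofHom φ.toRingHom)) := by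
      rintro _ ⟨t, rfl⟩
      refine husub fun hh => ?_
      exact t.isPrime.ne_top (Ideal.eq_top_of_isUnit_mem _ hh hunit)
    let jl := IsOpenImmersion.lift (Spec.map (CommRingCat.ofHom φ.toRingHom)) jT hrange
    have hjl : jl ≫ Spec.map (CommRingCat.ofHom φ.toRingHom) = jT := IsOpenImmersion.lift_fac _ _ _
    haveI : IsOpenImmersion jl := by
      have : IsOpenImmersion (jl ≫ Spec.map (CommRingCat.ofHom φ.toRingHom)) := by rw [hjl]; infer_instance
      exact IsOpenImmersion.of_comp jl (Spec.map (CommRingCat.ofHom φ.toRingHom))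
    let fP := Spec.map (CommRingCat.ofHom (algebraMap RP DP))
    haveI : GeometricallyIntegral fP := hgiP
    haveI : IsOpenImmersion (Spec.map (CommRingCat.ofHom (algebraMap RP R₄))) := IsOpenImmersion.of_isLocalization g
    have hw : Spec.map (CommRingCat.ofHom (algebraMap R₄ D₄)) ≫ Spec.map (CommRingCat.ofHom (algebraMap RP R₄)) =
        jl ≫ fP := by
      have hφR' : φ.toRingHom.comp (algebraMap RP T) = algebraMap RP DP := RingHom.ext hφR
      have hfP : fP = Spec.map (CommRingCat.ofHom φ.toRingHom) ≫ Spec.map (CommRingCat.ofHom (algebraMap RP T)) := by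
        rw [← Spec.map_comp, ← CommRingCat.ofHom_comp, hφR']
      rw [hfP, reassoc_of% hjl, ← Spec.map_comp, ← Spec.map_comp, ← CommRingCat.ofHom_comp, ← CommRingCat.ofHom_comp,
        ← IsScalarTower.algebraMap_eq, ← IsScalarTower.algebraMap_eq]
    exact exists_finish hRR₄ hDD₄ hs₄ fP jl _ hw N₁ N₄ (chainEquivAway (A := D) (B := D₂) (T := T) N₁ hX) hdev₄
  · -- the last step
    rw [Module.mem_support_iff_of_finite] at hy
    obtain ⟨h, hh, hhy⟩ := SetLike.not_le_iff_exists.1 hy
    let D₄ := Localization.Away h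
    have hdh : Disjoint (Submonoid.powers h : Set D) y := by
      rwa [Ideal.disjoint_powers_iff_notMem_of_isPrime]
    let y₄ := y.map (algebraMap D D₄)
    haveI : y₄.IsPrime := IsLocalization.isPrime_of_isPrime_disjoint (Submonoid.powers h) D₄ _ ‹_› hdh
    have hy₄ : y = y₄.comap (algebraMap D D₄) :=
      (IsLocalization.comap_map_of_isPrime_disjoint (Submonoid.powers h) D₄ ‹_› hdh).symm
    haveI : y₄.LiesOver y := ⟨hy₄⟩
    haveI : y₄.LiesOver p := Ideal.LiesOver.trans y₄ y p
    haveI : Algebra.Etale D D₄ := Algebra.Etale.of_isLocalizationAway h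
    have hs₄ : FlatCA.SmoothRelDim n R D₄ := EtaleMaps.smoothRelDim_etale hs
    let j := Spec.map (CommRingCat.ofHom (algebraMap D D₄))
    haveI : IsOpenImmersion j := IsOpenImmersion.of_isLocalization h
    obtain ⟨R₅, _, _, p₅, _, D₅, _, _, _, _, _, _, y₅, _, _, _, hR₅, hD₅, -, hirr⟩ :=
      exists_geomIrred_shrink hs₄ p y₄ f₀ j (𝟙 _) (by
        rw [Category.comp_id, ← Spec.map_comp, ← CommRingCat.ofHom_comp, ← IsScalarTower.algebraMap_eq])
    letI : Algebra D D₅ := ((algebraMap D₄ D₅).comp (algebraMap D D₄)).toAlgebra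
    haveI : IsScalarTower D D₄ D₅ := IsScalarTower.of_algebraMap_eq fun _ => rfl
    haveI : IsScalarTower R D D₅ := IsScalarTower.of_algebraMap_eq fun r => by
      rw [IsScalarTower.algebraMap_apply R D₄ D₅, IsScalarTower.algebraMap_apply R D D₄,
        ← IsScalarTower.algebraMap_apply D D₄ D₅]
    have hsub : Subsingleton (D₅ ⊗[D] N₁) := by
      refine subsingleton_of_forall_eq 0 fun z => ?_
      have hu : IsUnit (algebraMap D D₅ h) := by
        rw [IsScalarTower.algebraMap_apply D D₄ D₅]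
        exact (IsLocalization.Away.algebraMap_isUnit h).map _
      induction z using TensorProduct.induction_on with
      | zero => rfl
      | tmul a m =>
        obtain ⟨v, hv⟩ := hu
        rw [show a = h • (↑v⁻¹ * a) by rw [Algebra.smul_def, ← hv, ← mul_assoc, Units.mul_inv, one_mul],
          TensorProduct.smul_tmul, Module.mem_annihilator.1 hh m, TensorProduct.tmul_zero]
      | add a b ha hb => rw [ha, hb, add_zero]
    exact ⟨R₅, inferInstance, inferInstance, p₅, inferInstance, D₅, inferInstance, inferInstance, inferInstance,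
      inferInstance, inferInstance, inferInstance, y₅, inferInstance, inferInstance, hR₅,
      EtaleMaps.isEtaleNhd_trans (EtaleMaps.isEtaleNhd_away h y y₄) hD₅, hirr, Or.inl hsub⟩

/-- Complete dévissages exist after étale localisation. -/
theorem exists_devissage (n : ℕ) : ∀ {R S : Type u} [CommRing R] [CommRing S] [Algebra R S] [Algebra.FiniteType R S]
    (N : Type u) [AddCommGroup N] [Module S N] [Module.Finite S N] (p : Ideal R) [p.IsPrime] (q : Ideal S) [q.IsPrime]
    [q.LiesOver p] (x : PrimeSpectrum (p.Fiber S)) (_ : x.asIdeal = FlatCA.fiberIdeal p q)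
    (hx : x ∈ Module.support (p.Fiber S) (FlatCA.fiberMod p S N)),
    FlatMor.localDim (Module.support (p.Fiber S) (FlatCA.fiberMod p S N)) ⟨x, hx⟩ = n → HasLoc R S N p q := by
  induction n using Nat.strong_induction_on with
  | _ n ih =>
    intro R S _ _ _ _ N _ _ _ p _ q _ _ x hxq hx hn
    obtain ⟨E⟩ := ElemDev.exists_elemDevissage N p q n x hxq hx hn
    obtain ⟨eR, lR, bR⟩ := E.etaleR
    obtain ⟨eS, lS, bS⟩ := E.etaleS
    haveI := eR
    haveI := eS
    haveI := lR
    haveI := lS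
    haveI := E.finiteDC
    haveI := E.finiteG
    haveI : Module.Finite E.D E.G := Module.Finite.trans E.C E.G
    haveI : Algebra.Smooth E.R' E.D := Shrink.smooth_of_smoothRelDim E.smooth
    haveI hgi : GeometricallyIntegral (Spec.map (CommRingCat.ofHom (algebraMap E.R' E.D))) := E.geomInt
    haveI hξp : (E.p'.map (algebraMap E.R' E.D)).IsPrime := DevBC.map_isPrime inferInstance E.p'
    haveI : Module.Projective E.R' E.D := projective_of_smooth_geomIrred inferInstance
    let ξ := E.p'.map (algebraMap E.R' E.D)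
    have hξ : ξ.comap (algebraMap E.R' E.D) = E.p' := comap_map_prime' E.p' E.y
    obtain ⟨r, α, hα⟩ := exists_bijective_residue ξ E.G
    let N₁ := E.G ⧸ LinearMap.range α
    haveI : IsDomain (E.p'.Fiber E.D) := by
      haveI := RG.Pure.isDomain_baseChange_field hgi E.p'.ResidueField
      exact (Algebra.TensorProduct.comm E.R' E.p'.ResidueField E.D).toRingEquiv.injective.isDomain
        (Algebra.TensorProduct.comm E.R' E.p'.ResidueField E.D).toRingEquiv.toRingHom
    have key : ∀ (X : Type u) [AddCommGroup X] [Module E.D X] [Module.Finite E.D X],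
        Subsingleton (ξ.ResidueField ⊗[E.D] X) →
        Module.supportDim (E.p'.Fiber E.D) (FlatCA.fiberMod E.p' E.D X) < (n : WithBot ℕ∞) := fun X _ _ _ h0 =>
      supportDim_fiberMod_lt E.smooth E.p' ξ hξ X h0
    -- the generic rank is positive
    have hr : r ≠ 0 := fun hr => by
      subst hr
      have h0 : Subsingleton (ξ.ResidueField ⊗[E.D] E.G) := by
        haveI : Subsingleton (ξ.ResidueField ⊗[E.D] (Fin 0 → E.D)) :=
          (TensorProduct.comm E.D _ _).toEquiv.subsingleton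
        exact hα.2.subsingleton
      haveI : Algebra.FiniteType R E.S' := Algebra.FiniteType.trans (S := S) inferInstance inferInstance
      haveI : Algebra.FiniteType E.R' E.S' := Algebra.FiniteType.of_restrictScalars_finiteType R E.R' E.S'
      haveI : Module.Finite E.S' E.N' := Module.Finite.equiv E.isBaseChange.equiv
      obtain ⟨x', hx', -, hx'n⟩ :=
        DevTools.localDim_support_etale N E.N' E.f E.isBaseChange p q E.p' E.q' x hxq hx
      have hle := DevTools.localDim_le_supportDim E.N' E.p' ⟨x', hx'⟩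
      rw [hx'n, hn] at hle
      haveI : Module.Finite E.S' E.C := Module.Finite.of_surjective (Algebra.linearMap E.S' E.C) E.surjC
      have heq : Module.supportDim (E.p'.Fiber E.S') (FlatCA.fiberMod E.p' E.S' E.N') =
          Module.supportDim (E.p'.Fiber E.D) (FlatCA.fiberMod E.p' E.D E.G) := by
        rw [supportDim_fiberMod_finite (S := E.D) (C := E.C) E.p' E.G,
          ← supportDim_fiberMod_finite (S := E.S') (C := E.C) E.p' E.G]
        letI : Algebra E.S' (E.p'.Fiber E.S') := Algebra.TensorProduct.rightAlgebra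
        exact Module.supportDim_eq_of_equiv
          (TensorProduct.AlgebraTensorModule.congr (LinearEquiv.refl (E.p'.Fiber E.S') (E.p'.Fiber E.S')) E.iso)
      exact ((heq ▸ hle).trans_lt (key E.G h0)).false
    have hN₁ : Subsingleton (ξ.ResidueField ⊗[E.D] N₁) := by
      refine subsingleton_of_forall_eq 0 fun z => ?_
      obtain ⟨w, rfl⟩ := LinearMap.baseChange_surjective ξ.ResidueField (Submodule.mkQ_surjective (LinearMap.range α)) z
      obtain ⟨v, rfl⟩ := hα.2 w
      have hcomp : ((LinearMap.range α).mkQ.baseChange ξ.ResidueField).comp (α.baseChange ξ.ResidueField) = 0 := by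
        rw [← LinearMap.baseChange_comp, LinearMap.range_mkQ_comp, LinearMap.baseChange_zero]
      exact LinearMap.congr_fun hcomp v
    haveI : Algebra.FiniteType E.R' E.D := inferInstance
    have hrec : ∀ (x₁ : PrimeSpectrum (E.p'.Fiber E.D)), x₁.asIdeal = FlatCA.fiberIdeal E.p' E.y →
        x₁ ∈ Module.support (E.p'.Fiber E.D) (FlatCA.fiberMod E.p' E.D N₁) → HasLoc E.R' E.D N₁ E.p' E.y := by
      intro x₁ hx₁q hx₁
      obtain ⟨m, hm⟩ := DevTools.exists_localDim_eq N₁ E.p' E.y x₁ hx₁q hx₁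
      have hlt : (m : WithBot ℕ∞) < (n : WithBot ℕ∞) :=
        hm ▸ (DevTools.localDim_le_supportDim N₁ E.p' ⟨x₁, hx₁⟩).trans_lt (key N₁ hN₁)
      exact ih m (by exact_mod_cast hlt) N₁ E.p' E.y x₁ hx₁q hx₁ hm
    obtain ⟨R₃, _, _, p₃, _, D₃, _, _, _, _, _, _, y₃, _, _, hR₃, hD₃, hirr, hnext⟩ :=
      exists_next E.smooth E.geomInt E.p' E.y E.pureTrans N₁ hrec
    obtain ⟨eR₃, lR₃, bR₃⟩ := (EtaleMaps.isEtaleNhd_iff E.p' p₃).1 hR₃
    obtain ⟨eD₃, lD₃, bD₃⟩ := (EtaleMaps.isEtaleNhd_iff E.y y₃).1 hD₃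
    have bD₃' := (EtaleMaps.bijective_map_iff E.y y₃ lD₃.over).1 bD₃
    haveI := eR₃
    haveI := eD₃
    haveI := lR₃
    haveI := lD₃
    -- the finite algebra over the new stage
    let C₃ := D₃ ⊗[E.D] E.C
    letI : Algebra E.C C₃ := Algebra.TensorProduct.rightAlgebra
    haveI : Algebra.IsPushout E.D D₃ E.C C₃ := inferInstance
    obtain ⟨z₃, hz₃, hz₃y, hz₃z⟩ := FibreBij.exists_liesOver (S := E.C) (S' := C₃) E.y y₃ bD₃' E.z
    haveI := hz₃
    haveI := hz₃y
    haveI := hz₃z
    haveI : Algebra.IsPushout E.D E.C D₃ C₃ := Algebra.IsPushout.symm inferInstance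
    haveI : Algebra.Etale E.C C₃ := Algebra.Etale.of_equiv (Algebra.IsPushout.equiv E.D E.C D₃ C₃)
    let J : Ideal E.S' := RingHom.ker (algebraMap E.S' E.C)
    haveI := E.fpC
    have hJfg : J.FG := Algebra.FinitePresentation.ker_fG_of_surjective (Algebra.ofId E.S' E.C) E.surjC
    let e₀ : (E.S' ⧸ J) ≃+* E.C := RingHom.quotientKerEquivOfSurjective E.surjC
    letI : Algebra (E.S' ⧸ J) E.C := e₀.toRingHom.toAlgebra
    haveI : Algebra.Etale (E.S' ⧸ J) E.C :=
      Algebra.Etale.of_equiv (AlgEquiv.ofRingEquiv (f := e₀) fun _ => rfl)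
    letI : Algebra (E.S' ⧸ J) C₃ := ((algebraMap E.C C₃).comp (algebraMap (E.S' ⧸ J) E.C)).toAlgebra
    haveI : IsScalarTower (E.S' ⧸ J) E.C C₃ := IsScalarTower.of_algebraMap_eq fun _ => rfl
    haveI : Algebra.Etale (E.S' ⧸ J) C₃ := Algebra.Etale.comp (E.S' ⧸ J) E.C C₃
    letI : Algebra E.S' C₃ := ((algebraMap E.C C₃).comp (algebraMap E.S' E.C)).toAlgebra
    haveI : IsScalarTower E.S' E.C C₃ := IsScalarTower.of_algebraMap_eq fun _ => rfl
    haveI : IsScalarTower R₃ D₃ C₃ := inferInstance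
    have hc : ∀ a : E.R', algebraMap R₃ C₃ (algebraMap E.R' R₃ a) =
        algebraMap (E.S' ⧸ J) C₃ (Ideal.Quotient.mk J (algebraMap E.R' E.S' a)) := fun a => by
      show algebraMap R₃ C₃ (algebraMap E.R' R₃ a) =
        algebraMap E.C C₃ (algebraMap E.S' E.C (algebraMap E.R' E.S' a))
      rw [← IsScalarTower.algebraMap_apply E.R' E.S' E.C, IsScalarTower.algebraMap_apply E.R' E.D E.C,
        IsScalarTower.algebraMap_apply R₃ D₃ C₃, ← IsScalarTower.algebraMap_apply E.R' R₃ D₃,
        IsScalarTower.algebraMap_apply E.R' E.D D₃, ← IsScalarTower.algebraMap_apply E.D D₃ C₃,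
        ← IsScalarTower.algebraMap_apply E.D E.C C₃]
    obtain ⟨S₃, _, _, _, _, _, _, π, hetS, hπsurj, hπS, hπR, hker⟩ := EtaleLift.exists_lift J hJfg hc
    haveI := hetS
    letI : Algebra S₃ C₃ := π.toAlgebra
    haveI : IsScalarTower R₃ S₃ C₃ := IsScalarTower.of_algebraMap_eq fun a => (hπR a).symm
    haveI : IsScalarTower E.S' S₃ C₃ := IsScalarTower.of_algebraMap_eq fun a => (hπS a).symm
    let q₃ := z₃.comap (algebraMap S₃ C₃)
    haveI : z₃.LiesOver q₃ := ⟨rfl⟩
    haveI : q₃.LiesOver p₃ := ⟨by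
      rw [Ideal.under, Ideal.comap_comap, ← IsScalarTower.algebraMap_eq, IsScalarTower.algebraMap_eq R₃ D₃ C₃,
        ← Ideal.comap_comap]
      exact (y₃.over_def p₃).trans (congrArg (Ideal.comap _) hz₃y.over)⟩
    haveI hq₃ : q₃.LiesOver E.q' := ⟨by
      rw [Ideal.under, Ideal.comap_comap, ← IsScalarTower.algebraMap_eq, IsScalarTower.algebraMap_eq E.S' E.C C₃,
        ← Ideal.comap_comap]
      exact (E.z.over_def E.q').trans (congrArg (Ideal.comap _) hz₃z.over)⟩
    have hbq : Function.Bijective (Ideal.ResidueField.map E.q' q₃ (algebraMap E.S' S₃) hq₃.over) := by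
      let m₁ := Ideal.ResidueField.map E.q' q₃ (algebraMap E.S' S₃) hq₃.over
      let m₂ := Ideal.ResidueField.map q₃ z₃ (algebraMap S₃ C₃) rfl
      have h1 := DevTools.residue_bijective_of_surjective E.surjC E.q' E.z (E.z.over_def E.q')
      have h2 := FibreBij.residue_bijective (S := E.C) (S' := C₃) E.y y₃ bD₃' E.z z₃
      have h3 : m₂.comp m₁ = (Ideal.ResidueField.map E.z z₃ (algebraMap E.C C₃) hz₃z.over).comp
          (Ideal.ResidueField.map E.q' E.z (algebraMap E.S' E.C) (E.z.over_def E.q')) := by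
        refine Ideal.ResidueField.ringHom_ext (RingHom.ext fun a => ?_)
        simp only [m₁, m₂, RingHom.comp_apply, Ideal.ResidueField.map_algebraMap]
        rw [← IsScalarTower.algebraMap_apply E.S' S₃ C₃, ← IsScalarTower.algebraMap_apply E.S' E.C C₃]
      have h4 : Function.Bijective (m₂ ∘ m₁) := by
        rw [← RingHom.coe_comp, h3]; exact h2.comp h1
      exact ⟨m₁.injective, fun v => (h4.2 (m₂ v)).imp fun _ hw => m₂.injective hw⟩
    have hS₃ : FlatCA.IsEtaleNhd E.S' S₃ E.q' q₃ := (EtaleMaps.isEtaleNhd_iff E.q' q₃).2 ⟨hetS, hq₃, hbq⟩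
    letI : Algebra R R₃ := ((algebraMap E.R' R₃).comp (algebraMap R E.R')).toAlgebra
    haveI : IsScalarTower R E.R' R₃ := IsScalarTower.of_algebraMap_eq fun _ => rfl
    letI : Algebra S S₃ := ((algebraMap E.S' S₃).comp (algebraMap S E.S')).toAlgebra
    haveI : IsScalarTower S E.S' S₃ := IsScalarTower.of_algebraMap_eq fun _ => rfl
    letI : Algebra R S₃ := ((algebraMap R₃ S₃).comp (algebraMap R R₃)).toAlgebra
    haveI : IsScalarTower R R₃ S₃ := IsScalarTower.of_algebraMap_eq fun _ => rfl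
    haveI : IsScalarTower R S S₃ := IsScalarTower.of_algebraMap_eq fun a => by
      show algebraMap R₃ S₃ (algebraMap E.R' R₃ (algebraMap R E.R' a)) =
        algebraMap E.S' S₃ (algebraMap S E.S' (algebraMap R S a))
      rw [← IsScalarTower.algebraMap_apply E.R' R₃ S₃, ← IsScalarTower.algebraMap_apply R S E.S',
        IsScalarTower.algebraMap_apply R E.R' E.S', ← IsScalarTower.algebraMap_apply E.R' E.S' S₃]
    -- the first step
    have hsm₃ : FlatCA.SmoothRelDim n R₃ D₃ := EtaleMaps.smoothRelDim_etale E.smooth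
    haveI : Algebra.Smooth R₃ D₃ := Shrink.smooth_of_smoothRelDim hsm₃
    haveI : Module.Projective R₃ D₃ := projective_of_smooth_geomIrred hirr
    haveI hξ₃ : (p₃.map (algebraMap R₃ D₃)).IsPrime := DevBC.map_isPrime hirr p₃
    have hcm : ξ = (p₃.map (algebraMap R₃ D₃)).comap (algebraMap E.D D₃) :=
      (EtaleMaps.comap_map_eq E.p' p₃ (comap_map_prime' p₃ y₃) hξ).symm
    letI : Algebra ξ.ResidueField (p₃.map (algebraMap R₃ D₃)).ResidueField :=
      (Ideal.ResidueField.map _ _ (algebraMap E.D D₃) hcm).toAlgebra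
    haveI : IsScalarTower E.D ξ.ResidueField (p₃.map (algebraMap R₃ D₃)).ResidueField :=
      IsScalarTower.of_algebraMap_eq fun a => by
        rw [RingHom.algebraMap_toAlgebra, Ideal.ResidueField.map_algebraMap, ← IsScalarTower.algebraMap_apply]
    let M := C₃ ⊗[E.C] E.G
    let e : D₃ ⊗[E.D] E.G ≃ₗ[D₃] M := (Algebra.IsPushout.cancelBaseChange E.D D₃ E.C C₃ E.G).symm
    let α₃ := DevBC.mapFree e α
    have hfib : Function.Bijective (α₃.baseChange (p₃.map (algebraMap R₃ D₃)).ResidueField) :=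
      DevBC.baseChange_mapFree_bijective e α _ _ hα
    haveI : Module.Finite D₃ C₃ := inferInstance
    haveI : Module.Finite D₃ M := Module.Finite.trans C₃ M
    have hnt : Nontrivial ((p₃.map (algebraMap R₃ D₃)).ResidueField ⊗[D₃] M) := by
      haveI : Nontrivial ((p₃.map (algebraMap R₃ D₃)).ResidueField ⊗[D₃] (Fin r → D₃)) := by
        haveI : NeZero r := ⟨hr⟩
        exact (TensorProduct.piScalarRight D₃ D₃ (p₃.map (algebraMap R₃ D₃)).ResidueField (Fin r)).toEquiv.nontrivial
      exact hfib.1.nontrivial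
    haveI : Algebra.IsPushout E.S' E.C S₃ C₃ :=
      DevTools.isPushout_of_surjective E.surjC hπsurj (le_of_eq hker)
    haveI : Algebra.IsPushout E.S' S₃ E.C C₃ := Algebra.IsPushout.symm inferInstance
    have hfpC₃ : Algebra.FinitePresentation S₃ C₃ :=
      Algebra.FinitePresentation.equiv (Algebra.IsPushout.equiv E.S' S₃ E.C C₃)
    haveI : IsScalarTower R₃ D₃ M := IsScalarTower.of_algebraMap_smul fun a m => by
      rw [← algebraMap_smul C₃ (algebraMap R₃ D₃ a) m, ← IsScalarTower.algebraMap_apply R₃ D₃ C₃, algebraMap_smul]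
    let s : Step1 R₃ S₃ (S₃ ⊗[S] N) p₃ q₃ :=
      { A := C₃, B := D₃, M := M, r := r, α := α₃, surjSA := hπsurj, fpSA := hfpC₃
        finiteBA := inferInstance, smooth := inferInstance, geomIrred := hirr, finiteM := inferInstance
        isoN := ((DevTools.cancelEquiv (C := S₃) E.isBaseChange).trans
            (TensorProduct.AlgebraTensorModule.congr (LinearEquiv.refl S₃ S₃) E.iso)).trans
          (Algebra.IsPushout.cancelBaseChange E.S' S₃ E.C C₃ E.G).symm
        fibreIso := hfib, qB := y₃, qA := z₃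
        pureTrans := Shrink.purelyTranscendental_of_bijective E.p' E.y p₃ y₃ lR₃.over lD₃.over bR₃ bD₃ E.pureTrans
        uniq := fun Q _ hQ => by
          haveI := hQ
          refine FibreBij.eq_of_liesOver E.y y₃ bD₃' E.z Q z₃ ⟨(E.uniq (Q.comap (algebraMap E.C C₃)) ⟨?_⟩).symm⟩ hz₃z
          rw [Ideal.under, Ideal.comap_comap, ← IsScalarTower.algebraMap_eq, IsScalarTower.algebraMap_eq E.D D₃ C₃,
            ← Ideal.comap_comap]
          exact lD₃.over.trans (congrArg (Ideal.comap _) hQ.over)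
        q0 := rfl, d := n, relDim := hsm₃
        locDim := DevTools.localDim_support_eq_of_generic hsm₃ p₃ M hnt y₃ }
    refine ⟨R₃, S₃, inferInstance, inferInstance, inferInstance, inferInstance, inferInstance, inferInstance,
      inferInstance, inferInstance, p₃, q₃, inferInstance, inferInstance, EtaleMaps.isEtaleNhd_trans E.etaleR hR₃,
      EtaleMaps.isEtaleNhd_trans E.etaleS hS₃, inferInstance, ?_⟩
    obtain ⟨ec⟩ := DevBC.exists_coker_equiv e α (LinearEquiv.refl E.D N₁) (LinearEquiv.refl D₃ (D₃ ⊗[E.D] N₁))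
    rcases hnext with h0 | hdev
    · refine hasDev_single s ?_
      haveI : Subsingleton (M ⧸ LinearMap.range α₃) := ec.toEquiv.subsingleton
      exact LinearMap.range_eq_top.1 (Submodule.Quotient.subsingleton_iff.1 inferInstance)
    · exact hasDev_prepend s (D₃ ⊗[E.D] N₁) ec hdev

end Groth.Agent.RG.Dev.DevExists
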