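import Groth.Prelude.Def_FlatCA
import Groth.Agent.RG.Devissage
import Groth.Agent.RG.ClosedFibre
import Groth.Agent.InjFibre.Loc
import Groth.Agent.RG.Loc.FpTools
import Groth.Agent.S1231

/-!
Transfer of flatness between the localisations occurring in an elementary dévissage.
-/

set_option autoImplicit false
set_option backward.isDefEq.respectTransparency false

universe u

namespace Groth.Agent.RG.Dev

open TensorProduct

section

variable {R S W N : Type u} [CommRing R] [CommRing S] [CommRing W] [Algebra R S] [Algebra S W] [Algebra R W]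
  [IsScalarTower R S W] [Module.Flat S W] [AddCommGroup N] [Module S N] [Module R N] [IsScalarTower R S N]

/-- flatness of a localisation passes to a flat algebra where the denominators are units -/
theorem flat_tensor_localized (U : Submonoid S) (hu : ∀ s : U, IsUnit (algebraMap S W s))
    (h : Module.Flat R (LocalizedModule U N)) : Module.Flat R (W ⊗[S] N) := by
  let SU := Localization U
  letI : Algebra SU W := (IsLocalization.lift (S := SU) hu).toAlgebra
  haveI : IsScalarTower S SU W := IsScalarTower.of_algebraMap_eq fun b => by
    rw [RingHom.algebraMap_toAlgebra, IsLocalization.lift_eq]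
  haveI : IsScalarTower R SU W := IsScalarTower.of_algebraMap_eq fun a => by
    rw [IsScalarTower.algebraMap_apply R S SU, ← IsScalarTower.algebraMap_apply S SU W,
      ← IsScalarTower.algebraMap_apply]
  haveI : Module.Flat SU W := (Module.flat_iff_of_isLocalization SU U W).2 inferInstance
  let e : W ⊗[SU] (LocalizedModule U N) ≃ₗ[R] W ⊗[S] N :=
    ((TensorProduct.AlgebraTensorModule.congr (LinearEquiv.refl W W) (LocalizedModule.equivTensorProduct U N)).trans
      (TensorProduct.AlgebraTensorModule.cancelBaseChange S SU W W N)).restrictScalars R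
  haveI := h
  haveI : Module.Flat R (W ⊗[SU] (LocalizedModule U N)) := RG.flat_tensor
  exact Module.Flat.of_linearEquiv e.symm

/-- flatness of a localisation descends from a flat algebra surjective on its spectrum -/
theorem flat_localized_of_tensor (U : Submonoid S) (hu : ∀ s : U, IsUnit (algebraMap S W s))
    (hsurj : ∀ P : Ideal S, P.IsPrime → Disjoint (U : Set S) P →
      ∃ Q : Ideal W, Q.IsPrime ∧ Q.comap (algebraMap S W) = P)
    (h : Module.Flat R (W ⊗[S] N)) : Module.Flat R (LocalizedModule U N) := by
  let SU := Localization U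
  letI : Algebra SU W := (IsLocalization.lift (S := SU) hu).toAlgebra
  haveI : IsScalarTower S SU W := IsScalarTower.of_algebraMap_eq fun b => by
    rw [RingHom.algebraMap_toAlgebra, IsLocalization.lift_eq]
  haveI : IsScalarTower R SU W := IsScalarTower.of_algebraMap_eq fun a => by
    rw [IsScalarTower.algebraMap_apply R S SU, ← IsScalarTower.algebraMap_apply S SU W,
      ← IsScalarTower.algebraMap_apply]
  haveI : Module.Flat SU W := (Module.flat_iff_of_isLocalization SU U W).2 inferInstance
  haveI : Module.FaithfullyFlat SU W := by
    refine Module.FaithfullyFlat.of_comap_surjective fun P => ?_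
    obtain ⟨Q, hQ, hQc⟩ := hsurj (P.asIdeal.comap (algebraMap S SU)) inferInstance
      (Set.disjoint_left.2 fun s hs hs' => P.isPrime.ne_top
        (Ideal.eq_top_of_isUnit_mem _ hs' (IsLocalization.map_units SU ⟨s, hs⟩)))
    refine ⟨⟨Q, hQ⟩, PrimeSpectrum.ext ?_⟩
    change Q.comap (algebraMap SU W) = P.asIdeal
    have h1 := congrArg (Ideal.map (algebraMap S SU)) hQc
    rw [IsScalarTower.algebraMap_eq S SU W, ← Ideal.comap_comap, IsLocalization.map_comap U SU,
      IsLocalization.map_comap U SU] at h1
    exact h1
  let X := LocalizedModule U N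
  let e : W ⊗[SU] X ≃ₗ[R] W ⊗[S] N :=
    ((TensorProduct.AlgebraTensorModule.congr (LinearEquiv.refl W W) (LocalizedModule.equivTensorProduct U N)).trans
      (TensorProduct.AlgebraTensorModule.cancelBaseChange S SU W W N)).restrictScalars R
  let j : X →ₗ[R] W ⊗[S] N := e.toLinearMap.comp ((TensorProduct.mk SU W X 1).restrictScalars R)
  have hj : ∀ (Q : Type u) [AddCommGroup Q] [Module R Q], Function.Injective (j.rTensor Q) := by
    intro Q _ _
    rw [LinearMap.rTensor_comp]
    exact (e.rTensor Q).injective.comp (pure_mk (R := SU) W Q)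
  haveI := h
  exact flat_of_pure j hj

end

variable {R R' S S' C N G : Type u} [CommRing R] [CommRing R'] [CommRing S] [CommRing S'] [CommRing C]
  [Algebra R R'] [Algebra R S] [Algebra R S'] [Algebra S S'] [IsScalarTower R S S']
  [Algebra R' C] [Algebra R C] [Algebra S' C] [IsScalarTower R R' C] [IsScalarTower R S' C]
  [AddCommGroup N] [Module S N] [Module R N] [IsScalarTower R S N]
  [AddCommGroup G] [Module C G] [Module S' G] [IsScalarTower S' C G] [Module S G] [IsScalarTower S S' G]
  [Module R G] [IsScalarTower R C G] [Module R' G] [IsScalarTower R' C G]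

omit [Algebra R R'] [Algebra R' C] [IsScalarTower R R' C] [Module R' G] [IsScalarTower R' C G] in
/-- `G` localised is the base change of `N` to the localisation -/
theorem flat_tensor_iff (g : N →ₗ[S] G) (hg : IsBaseChange S' g) (U : Submonoid S') :
    Module.Flat R (Localization U ⊗[S] N) ↔
      Module.Flat R (LocalizedModule (Algebra.algebraMapSubmonoid C U) G) := by
  haveI : IsScalarTower R S' G := IsScalarTower.of_algebraMap_smul fun r x => by
    rw [← algebraMap_smul C (algebraMap R S' r) x, ← IsScalarTower.algebraMap_apply, algebraMap_smul]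
  let e1 : Localization U ⊗[S] N ≃ₗ[R] LocalizedModule U G :=
    ((TensorProduct.AlgebraTensorModule.cancelBaseChange S S' (Localization U) (Localization U) N).symm ≪≫ₗ
      TensorProduct.AlgebraTensorModule.congr (LinearEquiv.refl _ _) hg.equiv ≪≫ₗ
      (LocalizedModule.equivTensorProduct U G).symm).restrictScalars R
  let gB : G →ₗ[S'] LocalizedModule (Algebra.algebraMapSubmonoid C U) G :=
    (LocalizedModule.mkLinearMap (Algebra.algebraMapSubmonoid C U) G).restrictScalars S'
  haveI : IsLocalizedModule U gB := IsLocalizedModule.restrictScalars _ _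
  let e2 : LocalizedModule U G ≃ₗ[R] LocalizedModule (Algebra.algebraMapSubmonoid C U) G :=
    (IsLocalizedModule.iso U gB).restrictScalars R
  exact ⟨fun h => Module.Flat.of_linearEquiv (e1 ≪≫ₗ e2).symm,
    fun h => Module.Flat.of_linearEquiv (e1 ≪≫ₗ e2)⟩

theorem flat_etale_iff [Algebra.Etale R R'] (M : Type u) [AddCommGroup M] [Module R' M] [Module R M]
    [IsScalarTower R R' M] : Module.Flat R M ↔ Module.Flat R' M := by
  haveI : Module.Flat R R' := Algebra.Smooth.flat R R'
  exact ⟨fun h => haveI := h; Groth.Agent.S1231.flat_module_of_unramified R R' M,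
    fun h => haveI := h; Module.Flat.trans R R' M⟩

end Groth.Agent.RG.Dev
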