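import Groth.Agent.RG.Dev.CorepDev
import Groth.Agent.RG.Dev.DevExists
import Groth.Agent.RG.Dev.Transfer
import Groth.Agent.RG.Loc.HensStructure
import Groth.Agent.FibCrit.EssFP

/-!
# The flattening ideal over a henselian local ring
-/

set_option autoImplicit false
set_option linter.style.haveILetI false
set_option backward.isDefEq.respectTransparency false

universe u

open scoped TensorProduct
open IsLocalRing Groth.Agent

namespace Groth.Agent.RG.Dev.Corep

/-- A module model for a finite module over a localization. -/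
theorem exists_finite_model {S B : Type u} [CommRing S] [CommRing B] [Algebra S B] (U : Submonoid S)
    [IsLocalization U B] (M : Type u) [AddCommGroup M] [Module B M] [Module.Finite B M] :
    ∃ (N : Type u) (_ : AddCommGroup N) (_ : Module S N), Module.Finite S N ∧ Nonempty (B ⊗[S] N ≃ₗ[B] M) := by
  classical
  letI : Module S M := Module.compHom M (algebraMap S B)
  haveI : IsScalarTower S B M := IsScalarTower.of_algebraMap_smul fun _ _ => rfl
  obtain ⟨k, g, hg⟩ := Module.Finite.exists_fin' B M
  let gen : Fin k → M := fun i => g (Pi.single i 1)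
  let N : Submodule S M := Submodule.span S (Set.range gen)
  haveI : IsLocalizedModule U N.subtype := by
    refine ⟨fun t => ?_, fun y => ?_, fun {x₁ x₂} h => ⟨1, by rw [one_smul, one_smul]; exact Subtype.ext h⟩⟩
    · rw [Module.End.isUnit_iff]
      obtain ⟨v, hv⟩ := IsLocalization.map_units B t
      have : (algebraMap S (Module.End S M) t : M → M) = fun y => (v : B) • y := by
        funext y
        rw [Module.algebraMap_end_apply, ← algebraMap_smul B (t : S) y, hv]
      rw [this]
      exact ⟨fun a b h => (smul_left_cancel v) h, fun y => ⟨v⁻¹ • y, smul_inv_smul v y⟩⟩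
    · obtain ⟨c, rfl⟩ := hg y
      obtain ⟨b, hb⟩ := IsLocalization.exist_integer_multiples_of_finite U c
      choose a ha using hb
      have ha' : ∀ i, algebraMap S B (a i) = (b : S) • c i := ha
      refine ⟨(⟨∑ i, a i • gen i, Submodule.sum_mem _ fun i _ =>
        Submodule.smul_mem _ _ (Submodule.subset_span ⟨i, rfl⟩)⟩, b), ?_⟩
      change (b : S) • g c = ∑ i, a i • gen i
      conv_lhs => rw [pi_eq_sum_univ' c]
      rw [map_sum, Finset.smul_sum]
      refine Finset.sum_congr rfl fun i _ => ?_
      rw [map_smul, ← algebraMap_smul B (a i) (gen i), ha' i, smul_assoc]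
  refine ⟨N, inferInstance, inferInstance, Module.Finite.iff_fg.2 (Submodule.fg_span (Set.finite_range gen)), ⟨?_⟩⟩
  exact ((isLocalizedModule_iff_isBaseChange U B N.subtype).1 inferInstance).equiv

/-- A model of finite type of a local algebra essentially of finite type and of a finite module over it. -/
theorem exists_model {A B : Type u} [CommRing A] [IsLocalRing A] [CommRing B] [IsLocalRing B] [Algebra A B]
    [IsLocalHom (algebraMap A B)] [Algebra.EssFiniteType A B] (M : Type u) [AddCommGroup M] [Module B M]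
    [Module.Finite B M] :
    ∃ (S : Type u) (_ : CommRing S) (_ : Algebra A S) (_ : Algebra S B) (_ : IsScalarTower A S B)
      (q : Ideal S) (_ : q.IsPrime) (_ : q.LiesOver (maximalIdeal A)) (_ : IsLocalization.AtPrime B q)
      (N : Type u) (_ : AddCommGroup N) (_ : Module S N),
      q = (maximalIdeal B).comap (algebraMap S B) ∧ Algebra.FiniteType A S ∧ Module.Finite S N ∧
      Nonempty (B ⊗[S] N ≃ₗ[B] M) ∧
      (FlatCA.EssFinitePresentation A B → Module.FinitePresentation B M →
        Algebra.FinitePresentation A S ∧ Module.FinitePresentation S N) := by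
  have atPrime : ∀ (S : Type u) [CommRing S] [Algebra A S] [Algebra S B] [IsScalarTower A S B] (U : Submonoid S)
      [IsLocalization U B], ((maximalIdeal B).comap (algebraMap S B)).LiesOver (maximalIdeal A) ∧
        IsLocalization.AtPrime B ((maximalIdeal B).comap (algebraMap S B)) := by
    intro S _ _ _ _ U _
    refine ⟨⟨?_⟩, ?_⟩
    · rw [Ideal.under, Ideal.comap_comap, ← IsScalarTower.algebraMap_eq]
      exact (IsLocalRing.maximalIdeal_comap (algebraMap A B)).symm
    · refine IsLocalization.of_le U _ (fun x hx => ?_) fun x hx => IsLocalRing.notMem_maximalIdeal.1 hx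
      exact IsLocalRing.notMem_maximalIdeal.2 (IsLocalization.map_units B ⟨x, hx⟩)
  by_cases hc : FlatCA.EssFinitePresentation A B ∧ Module.FinitePresentation B M
  · obtain ⟨⟨S, _, _, _, _, U, hfp, hU⟩, hM⟩ := hc
    haveI := hU
    haveI := hM
    haveI := hfp
    obtain ⟨hover, hloc⟩ := atPrime S U
    haveI := hover
    haveI := hloc
    obtain ⟨N, _, _, hN, ⟨e⟩⟩ := FibCrit.exists_module_model (Q' := B) U (M := M)
    exact ⟨S, inferInstance, inferInstance, inferInstance, inferInstance, _, Ideal.IsPrime.comap _, hover, hloc, N,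
      inferInstance, inferInstance, rfl, inferInstance, (haveI := hN; inferInstance), ⟨e⟩, fun _ _ => ⟨hfp, hN⟩⟩
  · let S := Algebra.EssFiniteType.subalgebra A B
    let U := Algebra.EssFiniteType.submonoid A B
    obtain ⟨hover, hloc⟩ := atPrime S U
    haveI := hover
    haveI := hloc
    obtain ⟨N, _, _, hN, ⟨e⟩⟩ := exists_finite_model U (B := B) M
    exact ⟨S, inferInstance, inferInstance, inferInstance, inferInstance, _, Ideal.IsPrime.comap _, hover, hloc, N,
      inferInstance, inferInstance, rfl, inferInstance, hN, ⟨e⟩, fun h1 h2 => absurd ⟨h1, h2⟩ hc⟩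

/-- Base changes exist. -/
theorem exists_bc (R R' S : Type u) [CommRing R] [CommRing R'] [CommRing S] [Algebra R R'] [Algebra R S] :
    ∃ (S' : Type u) (_ : CommRing S') (_ : Algebra R' S') (_ : Algebra S S') (_ : Algebra R S')
      (_ : IsScalarTower R R' S') (_ : IsScalarTower R S S'), Algebra.IsPushout R R' S S' := by
  letI : Algebra S (R' ⊗[R] S) := Algebra.TensorProduct.rightAlgebra
  exact ⟨R' ⊗[R] S, inferInstance, inferInstance, inferInstance, inferInstance, inferInstance, inferInstance,
    inferInstance⟩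

attribute [local instance] Algebra.TensorProduct.rightAlgebra in
/-- Flatness at points is insensitive to flat base change hitting the point. -/
theorem ptsFlat_iff_of_flat {R' S S₁ S' S₁' : Type u} [CommRing R'] [IsLocalRing R'] [CommRing S] [CommRing S₁]
    [CommRing S'] [CommRing S₁'] [Algebra S S₁] [Algebra S S'] [Algebra R' S'] [Algebra S₁ S₁'] [Algebra R' S₁']
    [Algebra S S₁'] [Algebra S' S₁'] [IsScalarTower S S₁ S₁'] [IsScalarTower S S' S₁'] [IsScalarTower R' S' S₁']
    [Algebra.IsPushout S S₁ S' S₁'] [Module.Flat S S₁] (q : Ideal S) [q.IsPrime] (q₁ : Ideal S₁) [q₁.IsPrime]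
    [q₁.LiesOver q] (N : Type u) [AddCommGroup N] [Module S N] :
    PtsFlat R' S' q (S' ⊗[S] N) ↔ PtsFlat R' S₁' q₁ (S₁' ⊗[S] N) := by
  haveI : Algebra.IsPushout S S' S₁ S₁' := Algebra.IsPushout.symm inferInstance
  haveI : Module.Flat S' S₁' := Module.Flat.isBaseChange S S' S₁ S₁' (Algebra.IsPushout.out (S := S'))
  let e := TensorProduct.AlgebraTensorModule.cancelBaseChange S S' S₁' S₁' N
  let g : S' ⊗[S] N →ₗ[S'] S₁' ⊗[S] N :=
    (e.toLinearMap.restrictScalars S').comp (TensorProduct.mk S' S₁' (S' ⊗[S] N) 1)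
  have hg : IsBaseChange S₁' g := IsBaseChange.of_equiv e fun _ => rfl
  constructor
  · intro h Q _ hQq hQm
    exact (flat_point_iff (R := R') (S := S') (S' := S₁') (C := S₁') (G := S₁' ⊗[S] N) g hg Function.surjective_id
      (Q.comap (algebraMap S' S₁')) Q Q rfl (Ideal.comap_id Q)).1
      (h _ (by rw [Ideal.comap_comap, ← IsScalarTower.algebraMap_eq, IsScalarTower.algebraMap_eq S S₁ S₁',
          ← Ideal.comap_comap, hQq]; exact (Ideal.LiesOver.over (P := q₁) (p := q)).symm)
        (by rw [Ideal.comap_comap, ← IsScalarTower.algebraMap_eq, hQm]))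
  · intro h P _ hPq hPm
    haveI : P.LiesOver q := ⟨hPq.symm⟩
    obtain ⟨t, ht, htS, htP⟩ := RG.Pure.exists_prime_both q q₁ P
    let E := Algebra.IsPushout.equiv S S₁ S' S₁'
    haveI := ht
    let Q : Ideal S₁' := Ideal.comap (E.symm : S₁' →+* S₁ ⊗[S] S') t
    have hQ1 : Q.comap (algebraMap S₁ S₁') = q₁ := by
      rw [Ideal.comap_comap, ← htS]
      congr 1
      ext b
      change E.symm (algebraMap S₁ S₁' b) = _
      exact E.symm.commutes b
    have hQP : Q.comap (algebraMap S' S₁') = P := by
      rw [Ideal.comap_comap, ← htP]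
      congr 1
      ext a
      change E.symm (algebraMap S' S₁' a) = _
      exact Algebra.IsPushout.equiv_symm_algebraMap_right S S₁ S' S₁' a
    exact (flat_point_iff (R := R') (S := S') (S' := S₁') (C := S₁') (G := S₁' ⊗[S] N) g hg Function.surjective_id
      P Q Q hQP (Ideal.comap_id Q)).2
      (h Q hQ1 (by rw [IsScalarTower.algebraMap_eq R' S' S₁', ← Ideal.comap_comap, hQP, hPm]))

/-- The flattening ideal for a model of finite type. -/
theorem exists_corep_model {A S : Type u} [CommRing A] [HenselianLocalRing A] [CommRing S] [Algebra A S]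
    [Algebra.FiniteType A S] (N : Type u) [AddCommGroup N] [Module S N] [Module.Finite S N] (q : Ideal S) [q.IsPrime]
    [q.LiesOver (maximalIdeal A)] (hq : (⟨q, ‹_›⟩ : PrimeSpectrum S) ∈ Module.support S N) :
    ∃ I : Ideal A, CorepT A S q N I ∧ (Algebra.FinitePresentation A S → Module.FinitePresentation S N → I.FG) := by
  obtain ⟨x, hxq, hxp⟩ := DevTools.exists_fibre_point (maximalIdeal A) q
  have hx : x ∈ Module.support ((maximalIdeal A).Fiber S) (FlatCA.fiberMod (maximalIdeal A) S N) := by
    rw [Shrink.support_fiberMod, Set.mem_preimage, hxp]; exact hq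
  obtain ⟨m, hm⟩ := DevTools.exists_localDim_eq N (maximalIdeal A) q x hxq hx
  obtain ⟨R', S'', _, _, _, _, _, _, _, _, p', q'', _, _, hR, hS, hover, hdev⟩ :=
    DevExists.exists_devissage m N (maximalIdeal A) q x hxq hx hm
  haveI := hover
  obtain ⟨eR, lR, bR⟩ := id hR
  obtain ⟨eS, lS, bS⟩ := id hS
  haveI := eR
  haveI := eS
  haveI := lR
  haveI := lS
  obtain ⟨φ, hφ⟩ := RG.Loc.exists_section_nhd hR
  letI : Algebra R' A := φ.toRingHom.toAlgebra
  haveI : IsScalarTower A R' A := IsScalarTower.of_algebraMap_eq fun a => (φ.commutes a).symm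
  haveI hl : (maximalIdeal A).LiesOver p' := ⟨hφ.symm⟩
  have hκ : Function.Bijective (Ideal.ResidueField.mapₐ p' (maximalIdeal A) (Algebra.ofId R' A) hl.over) := by
    let m₁ : (maximalIdeal A).ResidueField →+* p'.ResidueField :=
      (Ideal.ResidueField.mapₐ (maximalIdeal A) p' (Algebra.ofId A R') lR.over).toRingHom
    let m₂ : p'.ResidueField →+* (maximalIdeal A).ResidueField :=
      (Ideal.ResidueField.mapₐ p' (maximalIdeal A) (Algebra.ofId R' A) hl.over).toRingHom
    have h : m₂.comp m₁ = RingHom.id _ := Ideal.ResidueField.ringHom_ext (RingHom.ext fun a => by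
      simp only [m₁, m₂, RingHom.comp_apply, RingHom.id_apply, AlgHom.toRingHom_eq_coe, RingHom.coe_coe,
        Ideal.ResidueField.mapₐ_apply, Ideal.ResidueField.map_algebraMap, Algebra.ofId_apply]
      exact (φ.commutes a).symm ▸ rfl)
    refine ⟨m₂.injective, fun y => ⟨m₁ y, ?_⟩⟩
    exact RingHom.congr_fun h y
  haveI : Module.Flat R' A := (flat_etale_iff (R := A) (R' := R') A).1 inferInstance
  obtain ⟨S₁, _, _, _, _, _, _, hpo⟩ := exists_bc R' A S''
  haveI := hpo
  obtain ⟨q₁, hq₁, hq₁m, hq₁q⟩ := FibreBij.exists_liesOver p' (maximalIdeal A) hκ (S' := S₁) q''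
  haveI := hq₁
  haveI := hq₁m
  haveI := hq₁q
  let N₁ := S₁ ⊗[S''] (S'' ⊗[S] N)
  obtain ⟨𝒟, h𝒜⟩ := hasDev_baseChange hκ (TensorProduct.mk S'' S₁ (S'' ⊗[S] N) 1) (TensorProduct.isBaseChange _ _ _) q₁ hdev
  obtain ⟨I, hI, hIfg⟩ := exists_corep 𝒟.n (⟨𝒟, rfl, h𝒜⟩ : HasDevN A S₁ N₁ (maximalIdeal A) q₁ 𝒟.n)
  refine ⟨I, ?_, fun hfp hN => ?_⟩
  · intro A' S' _ _ _ _ _ _ _ _ _ _ _
    letI : Algebra S S₁ := ((algebraMap S'' S₁).comp (algebraMap S S'')).toAlgebra
    haveI : IsScalarTower S S'' S₁ := IsScalarTower.of_algebraMap_eq fun _ => rfl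
    haveI : IsScalarTower A S S₁ := IsScalarTower.of_algebraMap_eq fun a => by
      show _ = algebraMap S'' S₁ (algebraMap S S'' (algebraMap A S a))
      rw [← IsScalarTower.algebraMap_apply A S S'', IsScalarTower.algebraMap_apply A R' S'',
        ← IsScalarTower.algebraMap_apply R' S'' S₁, IsScalarTower.algebraMap_apply R' A S₁,
        ← IsScalarTower.algebraMap_apply A R' A, Algebra.algebraMap_self, RingHom.id_apply]
    haveI : Module.Flat S'' S₁ := by
      haveI : Algebra.IsPushout R' S'' A S₁ := Algebra.IsPushout.symm inferInstance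
      exact Module.Flat.isBaseChange R' S'' A S₁ (Algebra.IsPushout.out (S := S''))
    haveI : Module.Flat S S'' := Algebra.Smooth.flat S S''
    haveI : Module.Flat S S₁ := Module.Flat.trans S S'' S₁
    haveI : q₁.LiesOver q := Ideal.LiesOver.trans q₁ q'' q
    obtain ⟨S₁', _, _, _, _, _, _, hpo₁⟩ := exists_bc A A' S₁
    haveI := hpo₁
    haveI : Algebra.IsPushout A S A' S' := Algebra.IsPushout.symm inferInstance
    haveI : Algebra.IsPushout A S₁ A' S₁' := Algebra.IsPushout.symm inferInstance
    obtain ⟨_, _, _, _, _, hpo₂⟩ :=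
      exists_pushout_tower (A := A) (B := S) (C := S₁) (A' := A') (B' := S') (C' := S₁')
    haveI := hpo₂
    letI : Algebra S'' S₁' := ((algebraMap S₁ S₁').comp (algebraMap S'' S₁)).toAlgebra
    let e : S₁' ⊗[S₁] N₁ ≃ₗ[S₁'] S₁' ⊗[S] N :=
      (TensorProduct.AlgebraTensorModule.congr (LinearEquiv.refl S₁' S₁')
        (TensorProduct.AlgebraTensorModule.cancelBaseChange S S'' S₁ S₁ N)).trans
        (TensorProduct.AlgebraTensorModule.cancelBaseChange S S₁ S₁' S₁' N)
    exact (ptsFlat_iff_of_flat (S₁ := S₁) (S₁' := S₁') q q₁ N).trans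
      (Iff.trans ⟨ptsFlat_congr e.symm, ptsFlat_congr e⟩ (hI A' S₁'))
  · haveI := hfp
    haveI := hN
    haveI : Algebra.FinitePresentation A S'' := Algebra.FinitePresentation.trans A S S''
    haveI : Algebra.FinitePresentation R' S'' :=
      Algebra.FinitePresentation.of_restrict_scalars_finitePresentation A R' S''
    exact hIfg (Algebra.FinitePresentation.equiv (Algebra.IsPushout.equiv R' A S'' S₁)) inferInstance

/-- The flattening ideal over a henselian local ring. -/
theorem exists_flattening_ideal {A B : Type u} [CommRing A] [HenselianLocalRing A] [CommRing B] [IsLocalRing B]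
    [Algebra A B] [IsLocalHom (algebraMap A B)] [Algebra.EssFiniteType A B]
    (M : Type u) [AddCommGroup M] [Module B M] [Module.Finite B M] :
    ∃ I : Ideal A, CorepT A B (maximalIdeal B) M I ∧
      (FlatCA.EssFinitePresentation A B → Module.FinitePresentation B M → I.FG) := by
  cases subsingleton_or_nontrivial M with
  | inl h =>
    refine ⟨⊥, fun A' B' _ _ _ _ _ _ _ _ _ _ _ => ?_, fun _ _ => Submodule.fg_bot⟩
    haveI : Subsingleton (B' ⊗[B] M) := subsingleton_of_forall_eq 0 fun z => by
      induction z using TensorProduct.induction_on with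
      | zero => rfl
      | tmul c x => rw [Subsingleton.elim x 0, TensorProduct.tmul_zero]
      | add a b ha hb => rw [ha, hb, add_zero]
    exact iff_of_true (fun P _ _ _ => inferInstance) Ideal.map_bot
  | inr hM =>
    obtain ⟨S, _, _, _, _, q, _, hqA, hloc, N, _, _, hq, hft, hfin, ⟨e⟩, hfp⟩ := exists_model (A := A) (B := B) M
    haveI := hft
    haveI := hfin
    haveI := hqA
    haveI := hloc
    have hsupp : (⟨q, ‹_›⟩ : PrimeSpectrum S) ∈ Module.support S N := by
      by_contra h
      rw [Module.notMem_support_iff'] at h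
      refine not_subsingleton M (subsingleton_of_forall_eq 0 fun y => ?_)
      obtain ⟨z, rfl⟩ := e.surjective y
      rw [show z = 0 from ?_, map_zero]
      induction z using TensorProduct.induction_on with
      | zero => rfl
      | tmul c x =>
        obtain ⟨r, hr, hrx⟩ := h x
        obtain ⟨v, hv⟩ := IsLocalization.map_units B (⟨r, hr⟩ : q.primeCompl)
        rw [show c = r • (↑v⁻¹ * c) by rw [Algebra.smul_def, ← hv, ← mul_assoc, Units.mul_inv, one_mul],
          TensorProduct.smul_tmul, hrx, TensorProduct.tmul_zero]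
      | add a b ha hb => rw [ha, hb, add_zero]
    obtain ⟨I, hI, hIfg⟩ := exists_corep_model (A := A) N q hsupp
    refine ⟨I, ?_, fun h1 h2 => hIfg (hfp h1 h2).1 (hfp h1 h2).2⟩
    intro A' B' _ _ _ _ _ _ _ _ _ _ _
    obtain ⟨S', _, _, _, _, _, _, hpo⟩ := exists_bc A A' S
    haveI := hpo
    haveI : Algebra.IsPushout A S A' S' := Algebra.IsPushout.symm inferInstance
    haveI : Algebra.IsPushout A B A' B' := Algebra.IsPushout.symm inferInstance
    obtain ⟨_, _, _, _, _, hpo₂⟩ :=
      exists_pushout_tower (A := A) (B := S) (C := B) (A' := A') (B' := S') (C' := B')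
    haveI := hpo₂
    haveI : Module.Flat S B := IsLocalization.flat B q.primeCompl
    haveI : (maximalIdeal B).LiesOver q := ⟨hq⟩
    let e' : B' ⊗[B] M ≃ₗ[B'] B' ⊗[S] N :=
      (TensorProduct.AlgebraTensorModule.congr (LinearEquiv.refl B' B') e.symm).trans
        (TensorProduct.AlgebraTensorModule.cancelBaseChange S B B' B' N)
    exact Iff.trans ⟨ptsFlat_congr e', ptsFlat_congr e'.symm⟩
      ((ptsFlat_iff_of_flat (S₁ := B) (S₁' := B') q (maximalIdeal B) N).symm.trans (hI A' S'))

end Groth.Agent.RG.Dev.Corep
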