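import Groth.Agent.RG.Dev.CorepTop

/-!
# The flattening ideal along the closed fibre
-/

set_option autoImplicit false
set_option linter.style.haveILetI false
set_option backward.isDefEq.respectTransparency false

universe u

open scoped TensorProduct
open IsLocalRing Groth.Agent

namespace Groth.Agent.RG.Dev.Corep

/-- Localising a module over a quotient algebra at a point. -/
theorem flat_localized_quot_iff {R R₁ S S₁ : Type u} [CommRing R] [CommRing R₁] [CommRing S] [CommRing S₁]
    [Algebra R R₁] [Algebra R S] [Algebra R₁ S₁] [Algebra S S₁] [Algebra R S₁] [IsScalarTower R R₁ S₁]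
    [IsScalarTower R S S₁] [Algebra.IsPushout R R₁ S S₁] (h₁ : Function.Surjective (algebraMap R R₁))
    (h : Function.Surjective (algebraMap S S₁)) (M : Type u) [AddCommGroup M] [Module S M] [Module R M]
    [IsScalarTower R S M] (q : Ideal S) [q.IsPrime] (P : Ideal S₁) [P.IsPrime]
    (hP : P.comap (algebraMap S S₁) = q) :
    Module.Flat R₁ (LocalizedModule P.primeCompl (S₁ ⊗[S] M)) ↔
      Module.Flat R₁ (R₁ ⊗[R] LocalizedModule q.primeCompl M) := by
  let X := S₁ ⊗[S] M
  let U := q.primeCompl
  have hU : Algebra.algebraMapSubmonoid S₁ U = P.primeCompl := by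
    ext c
    constructor
    · rintro ⟨t, ht, rfl⟩ hmem
      exact ht (hP ▸ hmem)
    · intro hc
      obtain ⟨t, rfl⟩ := h c
      exact ⟨t, fun ht => hc (by rw [← hP] at ht; exact ht), rfl⟩
  let e₁ : M ⊗[R] R₁ ≃+ X :=
    ((TensorProduct.comm R M R₁).toAddEquiv).trans (Algebra.IsPushout.cancelBaseChange R R₁ S S₁ M).symm.toAddEquiv
  have hmul : ∀ (s : S) (c : S₁) (m : M), s • (c ⊗ₜ[S] m) = c ⊗ₜ[S] (s • m) := fun s c m => by
    rw [← TensorProduct.smul_tmul, TensorProduct.smul_tmul']
  let e₁' : M ⊗[R] R₁ ≃ₗ[S] X := e₁.toLinearEquiv fun s z => by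
    induction z using TensorProduct.induction_on with
    | zero => simp
    | tmul m c =>
      change (Algebra.IsPushout.cancelBaseChange R R₁ S S₁ M).symm (c ⊗ₜ[R] (s • m)) =
        s • (Algebra.IsPushout.cancelBaseChange R R₁ S S₁ M).symm (c ⊗ₜ[R] m)
      rw [Algebra.IsPushout.cancelBaseChange_symm_tmul, Algebra.IsPushout.cancelBaseChange_symm_tmul, hmul]
    | add a b ha hb => rw [smul_add, map_add, map_add, smul_add, ha, hb]
  let g : M ⊗[R] R₁ →ₗ[S] LocalizedModule U M ⊗[R] R₁ :=
    TensorProduct.AlgebraTensorModule.rTensor R R₁ (LocalizedModule.mkLinearMap U M)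
  haveI : IsLocalizedModule U g := inferInstanceAs (IsLocalizedModule U (TensorProduct.AlgebraTensorModule.rTensor R R₁ (LocalizedModule.mkLinearMap U M)))
  let gX : X →ₗ[S] LocalizedModule U M ⊗[R] R₁ := g.comp e₁'.symm.toLinearMap
  haveI : IsLocalizedModule U gX := IsLocalizedModule.of_linearEquiv_right U g e₁'.symm
  let gP : X →ₗ[S] LocalizedModule P.primeCompl X :=
    (LocalizedModule.mkLinearMap P.primeCompl X).restrictScalars S
  haveI : IsLocalizedModule U gP := by
    haveI : IsLocalizedModule (Algebra.algebraMapSubmonoid S₁ U) (LocalizedModule.mkLinearMap P.primeCompl X) := by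
      rw [hU]; infer_instance
    exact IsLocalizedModule.restrictScalars _ _
  let E : LocalizedModule P.primeCompl X ≃ₗ[R] R₁ ⊗[R] LocalizedModule U M :=
    ((IsLocalizedModule.linearEquiv U gP gX).restrictScalars R).trans (TensorProduct.comm R _ _)
  let E' := E.extendScalarsOfSurjective h₁
  exact ⟨fun hf => haveI := hf; Module.Flat.of_linearEquiv E'.symm,
    fun hf => haveI := hf; Module.Flat.of_linearEquiv E'⟩

/-- A single ideal for all the points of the closed fibre. -/
theorem exists_corep_fibre {R S : Type u} [CommRing R] [HenselianLocalRing R] [CommRing S] [Algebra R S]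
    [Algebra.FiniteType R S] (M : Type u) [AddCommGroup M] [Module S M] [Module R M] [IsScalarTower R S M]
    [Module.Finite S M] (I : Ideal R) (hIm : I ≤ maximalIdeal R)
    (hI : ∀ (q : Ideal S) [q.IsPrime], q.comap (algebraMap R S) = maximalIdeal R →
      Module.Flat (R ⧸ I) ((R ⧸ I) ⊗[R] LocalizedModule q.primeCompl M))
    (hmin : ∀ J : Ideal R, (∀ (q : Ideal S) [q.IsPrime], q.comap (algebraMap R S) = maximalIdeal R →
      Module.Flat (R ⧸ J) ((R ⧸ J) ⊗[R] LocalizedModule q.primeCompl M)) → I ≤ J)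
    (R' S' : Type u) [CommRing R'] [IsLocalRing R'] [Algebra R R'] [IsLocalHom (algebraMap R R')] [CommRing S']
    [Algebra R' S'] [Algebra S S'] [Algebra R S'] [IsScalarTower R R' S'] [IsScalarTower R S S']
    [Algebra.IsPushout R R' S S'] :
    (∀ (P : Ideal S') [P.IsPrime], P.comap (algebraMap R' S') = maximalIdeal R' →
      Module.Flat R' (LocalizedModule P.primeCompl (S' ⊗[S] M))) ↔ I.map (algebraMap R R') = ⊥ := by
  classical
  have hex : ∀ q : {q : Ideal S // q.IsPrime ∧ q.comap (algebraMap R S) = maximalIdeal R},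
      ∃ J : Ideal R, CorepT R S q.1 M J := by
    rintro ⟨q, hq, hqm⟩
    haveI := hq
    haveI : q.LiesOver (maximalIdeal R) := ⟨hqm.symm⟩
    by_cases hs : (⟨q, hq⟩ : PrimeSpectrum S) ∈ Module.support S M
    · obtain ⟨J, hJ, -⟩ := exists_corep_model (A := R) M q hs
      exact ⟨J, hJ⟩
    · refine ⟨⊥, fun A' S'' _ _ _ _ _ _ _ _ _ _ _ => iff_of_true (fun P hP hPq _ => ?_) Ideal.map_bot⟩
      haveI : Subsingleton (LocalizedModule P.primeCompl (S'' ⊗[S] M)) := by
        rw [LocalizedModule.subsingleton_iff]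
        intro z
        induction z using TensorProduct.induction_on with
        | zero => exact ⟨1, Submonoid.one_mem _, smul_zero _⟩
        | tmul c m =>
          obtain ⟨t, ht, htm⟩ := Module.notMem_support_iff'.1 hs m
          refine ⟨algebraMap S S'' t, fun hmem => ht ((le_of_eq hPq) hmem), ?_⟩
          rw [algebraMap_smul, TensorProduct.smul_tmul', TensorProduct.smul_tmul, htm, TensorProduct.tmul_zero]
        | add a b ha hb =>
          obtain ⟨s, hs', hsa⟩ := ha
          obtain ⟨t, ht, htb⟩ := hb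
          exact ⟨s * t, mul_mem hs' ht, by rw [smul_add, mul_smul, smul_comm, hsa, smul_zero, mul_smul, htb, smul_zero, add_zero]⟩
      infer_instance
  choose J hJ using hex
  have hall : ∀ (A' S'' : Type u) [CommRing A'] [IsLocalRing A'] [Algebra R A'] [IsLocalHom (algebraMap R A')]
      [CommRing S''] [Algebra A' S''] [Algebra S S''] [Algebra R S''] [IsScalarTower R A' S''] [IsScalarTower R S S'']
      [Algebra.IsPushout R A' S S''],
      (∀ (P : Ideal S'') [P.IsPrime], P.comap (algebraMap A' S'') = maximalIdeal A' →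
        Module.Flat A' (LocalizedModule P.primeCompl (S'' ⊗[S] M))) ↔
      (⨆ q, J q).map (algebraMap R A') = ⊥ := by
    intro A' S'' _ _ _ _ _ _ _ _ _ _ _
    rw [Ideal.map_iSup, iSup_eq_bot]
    constructor
    · exact fun h q => (hJ q A' S'').1 fun P _ _ hPm => h P hPm
    · intro h P hP hPm
      refine (hJ ⟨P.comap (algebraMap S S''), Ideal.IsPrime.comap _, ?_⟩ A' S'').2 (h _) P rfl hPm
      rw [Ideal.comap_comap, ← IsScalarTower.algebraMap_eq, IsScalarTower.algebraMap_eq R A' S'', ← Ideal.comap_comap,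
        hPm, IsLocalRing.maximalIdeal_comap (algebraMap R A')]
  have hquot : ∀ K : Ideal R, K ≤ maximalIdeal R →
      ((∀ (q : Ideal S) [q.IsPrime], q.comap (algebraMap R S) = maximalIdeal R →
        Module.Flat (R ⧸ K) ((R ⧸ K) ⊗[R] LocalizedModule q.primeCompl M)) ↔ (⨆ q, J q) ≤ K) := by
    intro K hK
    haveI : Nontrivial (R ⧸ K) := Ideal.Quotient.nontrivial_iff.2 fun h =>
      (maximalIdeal.isMaximal R).ne_top (top_le_iff.1 (h ▸ hK))
    haveI : IsLocalRing (R ⧸ K) := IsLocalRing.of_surjective' _ Ideal.Quotient.mk_surjective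
    haveI : IsLocalHom (algebraMap R (R ⧸ K)) := IsLocalHom.of_surjective _ Ideal.Quotient.mk_surjective
    obtain ⟨S₁, _, _, _, _, _, _, hpo, hsurj⟩ := exists_quot_bc K S
    haveI := hpo
    have h1 := hall (R ⧸ K) S₁
    rw [Ideal.map_eq_bot_iff_le_ker, Ideal.Quotient.algebraMap_eq, Ideal.mk_ker] at h1
    rw [← h1]
    constructor
    · intro h P _ hPm
      refine (flat_localized_quot_iff Ideal.Quotient.mk_surjective hsurj M (P.comap (algebraMap S S₁)) P rfl).2
        (h _ ?_)
      rw [Ideal.comap_comap, ← IsScalarTower.algebraMap_eq, IsScalarTower.algebraMap_eq R (R ⧸ K) S₁,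
        ← Ideal.comap_comap, hPm, IsLocalRing.maximalIdeal_comap (algebraMap R (R ⧸ K))]
    · intro h q _ hqm
      haveI : q.LiesOver (maximalIdeal R) := ⟨hqm.symm⟩
      obtain ⟨P, hP, hPq, hPm⟩ := exists_point (R := R) (R' := R ⧸ K) (B' := S₁) q
      haveI := hP
      exact (flat_localized_quot_iff Ideal.Quotient.mk_surjective hsurj M q P hPq).1 (h P hPm)
  have h0 : (⨆ q, J q) ≤ maximalIdeal R := ((hquot I hIm).1 hI).trans hIm
  have heq : (⨆ q, J q) = I := le_antisymm ((hquot I hIm).1 hI) (hmin _ ((hquot _ h0).2 le_rfl))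
  rw [hall R' S', heq]

end Groth.Agent.RG.Dev.Corep
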