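import Groth.Agent.RG.Dev.CorepIdeal
import Groth.Agent.S14020
import Groth.Agent.S1265
import Groth.Agent.S0396

/-!
The smallest flattening ideal over a complete noetherian local ring.
-/

set_option autoImplicit false

universe u

namespace Groth.Agent.RG.Dev.CompleteIdeal

open TensorProduct IsLocalRing

/-- Flatness of a module over a quotient passes to the algebras over the quotient. -/
theorem flat_of_kills {R : Type u} [CommRing R] (X : Type u) [AddCommGroup X] [Module R X] (J : Ideal R) (T : Type u)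
    [CommRing T] [Algebra R T] (hJ : ∀ x ∈ J, algebraMap R T x = 0)
    (h : Module.Flat (R ⧸ J) ((R ⧸ J) ⊗[R] X)) : Module.Flat T (T ⊗[R] X) := by
  letI : Algebra (R ⧸ J) T := (Ideal.Quotient.lift J (algebraMap R T) hJ).toAlgebra
  haveI : IsScalarTower R (R ⧸ J) T := IsScalarTower.of_algebraMap_eq fun x => rfl
  haveI := h
  haveI : Module.Flat T (T ⊗[R ⧸ J] ((R ⧸ J) ⊗[R] X)) := Module.Flat.baseChange (R ⧸ J) T _
  exact Module.Flat.of_linearEquiv (TensorProduct.AlgebraTensorModule.cancelBaseChange R (R ⧸ J) T T X).symm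

/-- The flattening ideal over an ideal with Artinian quotient, for all algebras over the quotient. -/
theorem exists_least_algebra {R : Type u} [CommRing R] (a : Ideal R) [IsArtinianRing (R ⧸ a)] (X : Type u)
    [AddCommGroup X] [Module R X] :
    ∃ K : Ideal R, ∀ (T : Type u) [CommRing T] [Algebra R T], a ≤ RingHom.ker (algebraMap R T) →
      (Module.Flat T (T ⊗[R] X) ↔ K ≤ RingHom.ker (algebraMap R T)) := by
  obtain ⟨I₀, hI₀⟩ := S1265.result (A := R ⧸ a) (B := R ⧸ a) ((R ⧸ a) ⊗[R] X)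
  refine ⟨I₀.comap (Ideal.Quotient.mk a), fun T _ _ haT => ?_⟩
  letI : Algebra (R ⧸ a) T := (Ideal.Quotient.lift a (algebraMap R T) fun x hx => haT hx).toAlgebra
  haveI : IsScalarTower R (R ⧸ a) T := IsScalarTower.of_algebraMap_eq fun x => rfl
  haveI h0 : Algebra.IsPushout (R ⧸ a) T (R ⧸ a) T := ⟨IsBaseChange.linearMap (R ⧸ a) T⟩
  haveI : Algebra.IsPushout (R ⧸ a) (R ⧸ a) T T := h0.symm
  let e := TensorProduct.AlgebraTensorModule.cancelBaseChange R (R ⧸ a) T T X
  have key := hI₀ T T (T ⊗[R ⧸ a] ((R ⧸ a) ⊗[R] X))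
    (TensorProduct.mk (R ⧸ a) T ((R ⧸ a) ⊗[R] X) 1) (TensorProduct.isBaseChange _ _ _)
  have h1 : I₀.map (algebraMap (R ⧸ a) T) = ⊥ ↔ I₀.comap (Ideal.Quotient.mk a) ≤ RingHom.ker (algebraMap R T) := by
    rw [Ideal.map_eq_bot_iff_le_ker]
    constructor
    · exact fun h x hx => h (show Ideal.Quotient.mk a x ∈ I₀ from hx)
    · intro h y hy
      obtain ⟨x, rfl⟩ := Ideal.Quotient.mk_surjective y
      exact h hy
  rw [← h1, ← key]
  exact ⟨fun _ => Module.Flat.of_linearEquiv e, fun _ => Module.Flat.of_linearEquiv e.symm⟩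

/-- The smallest flattening ideal containing an ideal with Artinian quotient. -/
theorem exists_least {R : Type u} [CommRing R] (a : Ideal R) [IsArtinianRing (R ⧸ a)] (X : Type u) [AddCommGroup X]
    [Module R X] :
    ∃ K : Ideal R, ∀ J : Ideal R, a ≤ J → (Module.Flat (R ⧸ J) ((R ⧸ J) ⊗[R] X) ↔ K ≤ J) := by
  obtain ⟨K, hK⟩ := exists_least_algebra a X
  refine ⟨K, fun J haJ => ?_⟩
  have := hK (R ⧸ J)
  rw [show RingHom.ker (algebraMap R (R ⧸ J)) = J from Ideal.mk_ker] at this
  exact this haJ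

/-- A coherent family of limit points in a complete ring. -/
theorem exists_mem_iInf {R : Type u} [CommRing R] (m : Ideal R) [IsAdicComplete m R] (I : ℕ → Ideal R)
    (hm : ∀ n, m ^ n ≤ I n) (hanti : ∀ n, I (n + 1) ≤ I n) (hI : ∀ n, I n ≤ I (n + 1) ⊔ m ^ n) (n : ℕ) (x : R)
    (hx : x ∈ I n) : ∃ y ∈ ⨅ k, I k, x - y ∈ m ^ n := by
  have hstep : ∀ k : ℕ, ∀ z : I (n + k), ∃ z' : I (n + (k + 1)), (z' : R) - z ∈ m ^ (n + k) := by
    intro k z
    obtain ⟨a, ha, b, hb, hab⟩ := Submodule.mem_sup.1 (hI (n + k) z.2)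
    exact ⟨⟨a, ha⟩, by rw [← hab, show a - (a + b) = -b by ring]; exact neg_mem hb⟩
  choose g hg using hstep
  let xs : ∀ k : ℕ, I (n + k) := fun k => Nat.rec (motive := fun k => I (n + k)) ⟨x, hx⟩ (fun j z => g j z) k
  have hmono : ∀ {i j}, i ≤ j → I j ≤ I i := fun h => antitone_nat_of_succ_le hanti h
  have hdiff : ∀ {i j}, i ≤ j → ((xs i : R) - xs j) ∈ m ^ (n + i) := by
    intro i j hij
    induction j, hij using Nat.le_induction with
    | base => simp
    | succ j hij ih =>
      have h2 : ((xs (j + 1) : R) - xs j) ∈ m ^ (n + i) := Ideal.pow_le_pow_right (by omega) (hg j (xs j))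
      have := sub_mem ih h2
      rwa [show (xs i : R) - xs j - (xs (j + 1) - xs j) = xs i - xs (j + 1) by ring] at this
  obtain ⟨y, hy⟩ := IsPrecomplete.prec (inferInstance : IsPrecomplete m R) (f := fun k => (xs k : R))
    (fun {i j} hij => SModEq.sub_mem.2 (by
      rw [smul_eq_mul, Ideal.mul_top]
      exact Ideal.pow_le_pow_right (by omega) (hdiff hij)))
  have hy' : ∀ k, (xs k : R) - y ∈ m ^ k := fun k => by
    have := SModEq.sub_mem.1 (hy k)
    rwa [smul_eq_mul, Ideal.mul_top] at this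
  refine ⟨y, Submodule.mem_iInf _ |>.2 fun k => ?_, ?_⟩
  · have h3 := sub_mem (hmono (Nat.le_add_left k n) (xs k).2) (hm k (hy' k))
    rwa [sub_sub_cancel] at h3
  · have h4 := add_mem (Ideal.pow_le_pow_right (Nat.le_add_right n 0) (hdiff (Nat.zero_le n))) (hy' n)
    rwa [sub_add_sub_cancel] at h4

/-- A module over a local ring is its own localisation at the maximal ideal. -/
theorem exists_localized_self_equiv {S : Type u} [CommRing S] [IsLocalRing S] (P : Ideal S) [P.IsPrime]
    (hP : maximalIdeal S ≤ P) (X : Type u) [AddCommGroup X] [Module S X] :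
    Nonempty (LocalizedModule P.primeCompl X ≃ₗ[S] X) := by
  haveI : IsLocalizedModule P.primeCompl (LinearMap.id : X →ₗ[S] X) :=
    { map_units := fun s => by
        have hs : IsUnit (s : S) := by
          by_contra h
          exact s.2 (hP ((mem_maximalIdeal _).2 h))
        exact hs.map (algebraMap S (Module.End S X))
      surj := fun z => ⟨(z, 1), by simp⟩
      exists_of_eq := fun h => ⟨1, by simpa using h⟩ }
  exact ⟨IsLocalizedModule.iso P.primeCompl (LinearMap.id : X →ₗ[S] X)⟩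

/-- The local criterion over a quotient of the base. -/
theorem flat_quot_of_forall_pow {R S : Type u} [CommRing R] [IsLocalRing R] [IsNoetherianRing R] [CommRing S]
    [IsLocalRing S] [IsNoetherianRing S] [Algebra R S] [IsLocalHom (algebraMap R S)] (X : Type u) [AddCommGroup X]
    [Module S X] [Module R X] [IsScalarTower R S X] [Module.Finite S X] (I : Ideal R) (hI : I ≤ maximalIdeal R)
    (h : ∀ n : ℕ, 0 < n →
      Module.Flat (R ⧸ (I ⊔ maximalIdeal R ^ n)) ((R ⧸ (I ⊔ maximalIdeal R ^ n)) ⊗[R] X)) :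
    Module.Flat (R ⧸ I) ((R ⧸ I) ⊗[R] X) := by
  obtain ⟨S₁, _, _, _, _, _, _, hpo, hsurj⟩ := Corep.exists_quot_bc (R := R) I S
  haveI := hpo
  haveI : IsNoetherianRing S₁ := isNoetherianRing_of_surjective S S₁ _ hsurj
  let e : S₁ ⊗[S] X ≃ₗ[R ⧸ I] (R ⧸ I) ⊗[R] X := Algebra.IsPushout.cancelBaseChange R (R ⧸ I) S S₁ X
  let mI : Ideal (R ⧸ I) := (maximalIdeal R).map (Ideal.Quotient.mk I)
  have hne : Nontrivial S₁ := by
    by_contra hn
    haveI := not_nontrivial_iff_subsingleton.1 hn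
    have hsub : Subsingleton ((R ⧸ I) ⊗[R] S) := (Algebra.IsPushout.equiv R (R ⧸ I) S S₁).toEquiv.subsingleton
    haveI : Nontrivial (S ⧸ I.map (algebraMap R S)) := Ideal.Quotient.nontrivial_iff.2 fun htop => by
      have h1 : I.map (algebraMap R S) ≤ maximalIdeal S := Ideal.map_le_iff_le_comap.2 fun r hr =>
        (mem_maximalIdeal _).2 fun hu => (mem_maximalIdeal _).1 (hI hr) (isUnit_of_map_unit (algebraMap R S) r hu)
      exact (maximalIdeal.isMaximal S).ne_top (top_le_iff.1 (htop.ge.trans h1))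
    exact not_subsingleton _ (Algebra.TensorProduct.quotIdealMapEquivQuotTensor S I).toEquiv.subsingleton
  haveI := hne
  haveI : IsLocalRing S₁ := IsLocalRing.of_surjective' (algebraMap S S₁) hsurj
  haveI : IsLocalHom (algebraMap S S₁) := IsLocalHom.of_surjective (algebraMap S S₁) hsurj
  have hflat : ∀ n : ℕ, 0 < n → Module.Flat ((R ⧸ I) ⧸ mI ^ n) (((R ⧸ I) ⧸ mI ^ n) ⊗[R ⧸ I] (S₁ ⊗[S] X)) := by
    intro n hn
    haveI := flat_of_kills X (I ⊔ maximalIdeal R ^ n) ((R ⧸ I) ⧸ mI ^ n) (fun x hx => by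
      change Ideal.Quotient.mk (mI ^ n) (Ideal.Quotient.mk I x) = 0
      rw [Ideal.Quotient.eq_zero_iff_mem, ← Ideal.map_pow]
      obtain ⟨a, ha, b, hb, rfl⟩ := Submodule.mem_sup.1 hx
      rw [map_add, Ideal.Quotient.eq_zero_iff_mem.2 ha, zero_add]
      exact Ideal.mem_map_of_mem _ hb) (h n hn)
    exact Module.Flat.of_linearEquiv
      ((AlgebraTensorModule.congr (LinearEquiv.refl ((R ⧸ I) ⧸ mI ^ n) ((R ⧸ I) ⧸ mI ^ n)) e) ≪≫ₗ
        AlgebraTensorModule.cancelBaseChange R (R ⧸ I) ((R ⧸ I) ⧸ mI ^ n) ((R ⧸ I) ⧸ mI ^ n) X)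
  have hle : mI.map (algebraMap (R ⧸ I) S₁) ≤ maximalIdeal S₁ := by
    rw [Ideal.map_map, Ideal.map_le_iff_le_comap]
    intro r hr
    change algebraMap (R ⧸ I) S₁ (Ideal.Quotient.mk I r) ∈ maximalIdeal S₁
    rw [show algebraMap (R ⧸ I) S₁ (Ideal.Quotient.mk I r) = algebraMap R S₁ r from
        (IsScalarTower.algebraMap_apply R (R ⧸ I) S₁ r).symm, IsScalarTower.algebraMap_apply R S S₁ r, mem_maximalIdeal]
    exact fun hu => (mem_maximalIdeal _).1 hr
      (isUnit_of_map_unit (algebraMap R S) r (isUnit_of_map_unit (algebraMap S S₁) _ hu))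
  haveI := S0396.result (R := R ⧸ I) (S := S₁) (M := S₁ ⊗[S] X) mI hflat (maximalIdeal S₁) hle
  obtain ⟨eloc⟩ := exists_localized_self_equiv (maximalIdeal S₁) le_rfl (S₁ ⊗[S] X)
  haveI : Module.Flat (R ⧸ I) (S₁ ⊗[S] X) := Module.Flat.of_linearEquiv (eloc.restrictScalars (R ⧸ I)).symm
  exact Module.Flat.of_linearEquiv e.symm

/-- The smallest flattening ideal over a complete noetherian local ring. -/
theorem exists_smallest (R S : Type u) [CommRing R] [IsLocalRing R] [IsNoetherianRing R]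
    [IsAdicComplete (maximalIdeal R) R] [CommRing S] [Algebra R S] [IsNoetherianRing S] (M : Type u) [AddCommGroup M]
    [Module S M] [Module R M] [IsScalarTower R S M] [Module.Finite S M] :
    ∃ I : Ideal R, I ≤ maximalIdeal R ∧ (∀ (q : Ideal S) [q.IsPrime], q.comap (algebraMap R S) = maximalIdeal R →
        Module.Flat (R ⧸ I) ((R ⧸ I) ⊗[R] LocalizedModule q.primeCompl M)) ∧
      ∀ J : Ideal R, (∀ (q : Ideal S) [q.IsPrime], q.comap (algebraMap R S) = maximalIdeal R →
        Module.Flat (R ⧸ J) ((R ⧸ J) ⊗[R] LocalizedModule q.primeCompl M)) → I ≤ J := by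
  let ι := {q : Ideal S // q.IsPrime ∧ q.comap (algebraMap R S) = maximalIdeal R}
  let X : ι → Type u := fun q => haveI := q.2.1; LocalizedModule q.1.primeCompl M
  letI : ∀ q : ι, AddCommGroup (X q) := fun q => inferInstanceAs (AddCommGroup (LocalizedModule _ M))
  letI : ∀ q : ι, Module R (X q) := fun q => inferInstanceAs (Module R (LocalizedModule _ M))
  let Good : Ideal R → Prop := fun J => ∀ q : ι, Module.Flat (R ⧸ J) ((R ⧸ J) ⊗[R] X q)
  have hmfg : (maximalIdeal R).FG := IsNoetherian.noetherian _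
  haveI : IsArtinianRing (R ⧸ maximalIdeal R) := letI := Ideal.Quotient.field (maximalIdeal R); inferInstance
  haveI : ∀ n : ℕ, IsArtinianRing (R ⧸ maximalIdeal R ^ n) := fun n => S14020.result R (maximalIdeal R) hmfg n
  choose K hK using fun (n : ℕ) (q : ι) => exists_least (maximalIdeal R ^ n) (X q)
  let In : ℕ → Ideal R := fun n => maximalIdeal R ^ n ⊔ ⨆ q, K n q
  have hIn : ∀ (n : ℕ) (J : Ideal R), maximalIdeal R ^ n ≤ J → (Good J ↔ In n ≤ J) := fun n J hJ => by
    simp only [In, sup_le_iff, iSup_le_iff]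
    exact ⟨fun h => ⟨hJ, fun q => (hK n q J hJ).1 (h q)⟩, fun h q => (hK n q J hJ).2 (h.2 q)⟩
  have hgood : ∀ n, Good (In n) := fun n => (hIn n _ le_sup_left).2 le_rfl
  have hup : ∀ J J' : Ideal R, J ≤ J' → Good J → Good J' := fun J J' hle h q =>
    flat_of_kills (X q) J (R ⧸ J') (fun x hx => Ideal.Quotient.eq_zero_iff_mem.2 (hle hx)) (h q)
  have hm : ∀ n, maximalIdeal R ^ n ≤ In n := fun n => le_sup_left
  have hanti : ∀ n, In (n + 1) ≤ In n := fun n =>
    (hIn (n + 1) (In n) ((Ideal.pow_le_pow_right n.le_succ).trans (hm n))).1 (hgood n)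
  have hcompat : ∀ n, In n ≤ In (n + 1) ⊔ maximalIdeal R ^ n := fun n =>
    (hIn n _ le_sup_right).1 (hup _ _ le_sup_left (hgood (n + 1)))
  refine ⟨⨅ n, In n, ?_, fun q _ hq => ?_, fun J hJ => ?_⟩
  · refine (iInf_le In 1).trans ((hIn 1 _ (pow_one _).le).1 fun q => ?_)
    letI := Ideal.Quotient.field (maximalIdeal R)
    infer_instance
  · have hIle : (⨅ n, In n) ≤ maximalIdeal R := by
      refine (iInf_le In 1).trans ((hIn 1 _ (pow_one _).le).1 fun q => ?_)
      letI := Ideal.Quotient.field (maximalIdeal R)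
      infer_instance
    have hlev : ∀ n, 0 < n → Module.Flat (R ⧸ ((⨅ k, In k) ⊔ maximalIdeal R ^ n))
        ((R ⧸ ((⨅ k, In k) ⊔ maximalIdeal R ^ n)) ⊗[R] LocalizedModule q.primeCompl M) := fun n _ => by
      refine (hIn n _ le_sup_right).2 (fun x hx => ?_) ⟨q, ‹_›, hq⟩
      obtain ⟨y, hy, hxy⟩ := exists_mem_iInf (maximalIdeal R) In hm hanti hcompat n x hx
      exact Submodule.mem_sup.2 ⟨y, hy, x - y, hxy, by ring⟩
    haveI : IsNoetherianRing (Localization.AtPrime q) :=
      IsLocalization.isNoetherianRing q.primeCompl (Localization.AtPrime q) inferInstance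
    haveI : IsLocalHom (algebraMap R (Localization.AtPrime q)) := ⟨fun r hr => by
      by_contra hn
      have : algebraMap R S r ∈ q := by
        rw [← Ideal.mem_comap, hq]; exact (mem_maximalIdeal _).2 hn
      rw [IsScalarTower.algebraMap_apply R S] at hr
      exact (IsLocalization.AtPrime.isUnit_to_map_iff (Localization.AtPrime q) q _).1 hr this⟩
    haveI : Module.Finite (Localization.AtPrime q) (LocalizedModule q.primeCompl M) :=
      Module.Finite.of_isLocalizedModule q.primeCompl (LocalizedModule.mkLinearMap q.primeCompl M)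
    exact flat_quot_of_forall_pow (S := Localization.AtPrime q) (LocalizedModule q.primeCompl M) _ hIle hlev
  · have hJ' : Good J := fun q => haveI := q.2.1; hJ q.1 q.2.2
    intro x hx
    by_contra hxJ
    obtain ⟨n, hn⟩ : ∃ n, x ∉ J ⊔ maximalIdeal R ^ n := by
      by_contra! hall
      refine hxJ (Ideal.Quotient.eq_zero_iff_mem.1 ?_)
      haveI : Nontrivial (R ⧸ J) := ⟨⟨Ideal.Quotient.mk J x, 0, fun h => hxJ (Ideal.Quotient.eq_zero_iff_mem.1 h)⟩⟩
      haveI : IsLocalRing (R ⧸ J) := IsLocalRing.of_surjective' _ Ideal.Quotient.mk_surjective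
      have hne : (maximalIdeal R).map (Ideal.Quotient.mk J) ≠ ⊤ := fun h =>
        hxJ (by
          have hJm : J ⊔ maximalIdeal R = ⊤ := by
            rw [← Ideal.comap_top (f := Ideal.Quotient.mk J), ← h,
              Ideal.comap_map_of_surjective _ Ideal.Quotient.mk_surjective, ← RingHom.ker_eq_comap_bot,
              Ideal.mk_ker, sup_comm]
          have hJtop : J = ⊤ := by
            by_contra hne
            exact (maximalIdeal.isMaximal R).ne_top (top_le_iff.1 (hJm.ge.trans (sup_le (le_maximalIdeal hne) le_rfl)))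
          rw [hJtop]; trivial)
      have h0 : Ideal.Quotient.mk J x ∈ ⨅ n : ℕ, ((maximalIdeal R).map (Ideal.Quotient.mk J)) ^ n :=
        Submodule.mem_iInf _ |>.2 fun n => by
          obtain ⟨a, ha, b, hb, hab⟩ := Submodule.mem_sup.1 (hall n)
          rw [← hab, map_add, Ideal.Quotient.eq_zero_iff_mem.2 ha, zero_add, ← Ideal.map_pow]
          exact Ideal.mem_map_of_mem _ hb
      rwa [Ideal.iInf_pow_eq_bot_of_isLocalRing _ hne, Ideal.mem_bot] at h0
    exact hn ((hIn n _ le_sup_right).1 (hup _ _ le_sup_left hJ') (Submodule.mem_iInf _ |>.1 hx n))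

end Groth.Agent.RG.Dev.CompleteIdeal
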