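import Groth.Agent.RG.Dev.FlatIff
import Groth.Agent.RG.Pure.DescentFlat

/-!
Flatness above the closed points along local homomorphisms.
-/

set_option autoImplicit false
set_option linter.style.haveILetI false
set_option backward.isDefEq.respectTransparency false

universe u

open TensorProduct IsLocalRing

namespace Groth.Agent.RG.Dev

/-- a base change of a tower gives a tower -/
theorem exists_pushout_tower {A B C A' B' C' : Type u} [CommRing A] [CommRing B] [CommRing C] [CommRing A']
    [CommRing B'] [CommRing C'] [Algebra A B] [Algebra B C] [Algebra A C] [IsScalarTower A B C] [Algebra A A']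
    [Algebra B B'] [Algebra A' B'] [Algebra A B'] [IsScalarTower A B B'] [IsScalarTower A A' B']
    [Algebra.IsPushout A B A' B'] [Algebra C C'] [Algebra A' C'] [Algebra A C'] [IsScalarTower A C C']
    [IsScalarTower A A' C'] [Algebra.IsPushout A C A' C'] :
    ∃ (_ : Algebra B' C') (_ : Algebra B C') (_ : IsScalarTower B C C') (_ : IsScalarTower B B' C')
      (_ : IsScalarTower A' B' C'), Algebra.IsPushout B C B' C' := by
  let f : B →ₐ[A] C' := (IsScalarTower.toAlgHom A C C').comp (IsScalarTower.toAlgHom A B C)
  let ψ : B' →ₐ[A] C' := Algebra.pushoutDesc B' f (IsScalarTower.toAlgHom A A' C') fun _ _ => mul_comm _ _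
  letI : Algebra B' C' := ψ.toRingHom.toAlgebra
  letI : Algebra B C' := ((algebraMap C C').comp (algebraMap B C)).toAlgebra
  haveI h1 : IsScalarTower B C C' := IsScalarTower.of_algebraMap_eq fun _ => rfl
  haveI h2 : IsScalarTower B B' C' := IsScalarTower.of_algebraMap_eq fun b =>
    (Algebra.pushoutDesc_left B' f (IsScalarTower.toAlgHom A A' C') (fun _ _ => mul_comm _ _) b).symm
  haveI h3 : IsScalarTower A' B' C' := IsScalarTower.of_algebraMap_eq fun a =>
    (Algebra.pushoutDesc_right B' f (IsScalarTower.toAlgHom A A' C') (fun _ _ => mul_comm _ _) a).symm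
  haveI : IsScalarTower A B C' := IsScalarTower.of_algebraMap_eq fun a => by
    rw [IsScalarTower.algebraMap_apply B C C', ← IsScalarTower.algebraMap_apply A B C,
      ← IsScalarTower.algebraMap_apply A C C']
  haveI : IsScalarTower A B' C' := IsScalarTower.of_algebraMap_eq fun a => (ψ.commutes a).symm
  exact ⟨inferInstance, inferInstance, h1, h2, h3, (Algebra.IsPushout.comp_iff (R := A) (S := B) (R' := A') (S' := B')
    (T := C) (T' := C')).1 inferInstance⟩

variable {A' B B' C C' M N M' N' : Type u} [CommRing A'] [IsLocalRing A'] [CommRing B] [IsLocalRing B] [CommRing B']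
  [CommRing C] [IsLocalRing C] [CommRing C'] [Algebra B C] [IsLocalHom (algebraMap B C)]
  [Algebra B B'] [Algebra A' B'] [Algebra C C'] [Algebra A' C'] [Algebra B' C'] [Algebra B C']
  [IsScalarTower B C C'] [IsScalarTower B B' C'] [IsScalarTower A' B' C'] [Algebra.IsPushout B C B' C']

theorem closedPoints_le_comap (Q : Ideal C')
    (hQ : (maximalIdeal A').map (algebraMap A' C') ⊔ (maximalIdeal C).map (algebraMap C C') ≤ Q) :
    (maximalIdeal A').map (algebraMap A' B') ⊔ (maximalIdeal B).map (algebraMap B B') ≤ Q.comap (algebraMap B' C') := by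
  rw [sup_le_iff] at hQ ⊢
  constructor
  · rw [Ideal.map_le_iff_le_comap, Ideal.comap_comap, ← IsScalarTower.algebraMap_eq A' B' C']
    exact Ideal.map_le_iff_le_comap.1 hQ.1
  · rw [Ideal.map_le_iff_le_comap, Ideal.comap_comap, ← IsScalarTower.algebraMap_eq B B' C',
      IsScalarTower.algebraMap_eq B C C', ← Ideal.comap_comap]
    exact fun b hb => Ideal.map_le_iff_le_comap.1 hQ.2 (map_nonunit (algebraMap B C) b hb)

omit [IsLocalHom (algebraMap B C)] [Algebra.IsPushout B C B' C'] in
theorem comap_maximal_of_closedPoints (q : Ideal B') [q.IsPrime]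
    (hq : (maximalIdeal A').map (algebraMap A' B') ⊔ (maximalIdeal B).map (algebraMap B B') ≤ q) :
    q.comap (algebraMap B B') = maximalIdeal B :=
  le_antisymm (le_maximalIdeal (Ideal.IsPrime.comap _ |>.ne_top)) (Ideal.map_le_iff_le_comap.1 ((le_sup_right).trans hq))

attribute [local instance] Algebra.TensorProduct.rightAlgebra in
/-- the closed points are hit from a base change along a local homomorphism -/
theorem exists_closedPoint_over (q : Ideal B') [q.IsPrime]
    (hq : (maximalIdeal A').map (algebraMap A' B') ⊔ (maximalIdeal B).map (algebraMap B B') ≤ q) :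
    ∃ Q : Ideal C', Q.IsPrime ∧ Q.comap (algebraMap B' C') = q ∧
      (maximalIdeal A').map (algebraMap A' C') ⊔ (maximalIdeal C).map (algebraMap C C') ≤ Q := by
  haveI : (maximalIdeal C).LiesOver (maximalIdeal B) :=
    ⟨(IsLocalRing.maximalIdeal_comap (algebraMap B C)).symm⟩
  haveI : q.LiesOver (maximalIdeal B) := ⟨(comap_maximal_of_closedPoints (A' := A') q hq).symm⟩
  obtain ⟨s, hs, hsC, hsB⟩ := RG.Pure.exists_prime_both (maximalIdeal B) (maximalIdeal C) q
  let e := Algebra.IsPushout.equiv B C B' C'
  haveI := hs
  refine ⟨Ideal.comap (e.symm : C' →+* C ⊗[B] B') s, Ideal.IsPrime.comap _, ?_, sup_le ?_ ?_⟩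
  · rw [Ideal.comap_comap, ← hsB]
    congr 1
    ext b
    change e.symm (algebraMap B' C' b) = _
    exact Algebra.IsPushout.equiv_symm_algebraMap_right B C B' C' b
  · rw [Ideal.map_le_iff_le_comap, Ideal.comap_comap]
    intro a ha
    have h1 : algebraMap A' B' a ∈ s.comap (algebraMap B' (C ⊗[B] B')) :=
      hsB.ge (hq (Ideal.mem_sup_left (Ideal.mem_map_of_mem _ ha)))
    rw [Ideal.mem_comap] at h1 ⊢
    change e.symm (algebraMap A' C' a) ∈ s
    rw [IsScalarTower.algebraMap_apply A' B' C', Algebra.IsPushout.equiv_symm_algebraMap_right B C B' C']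
    exact h1
  · rw [Ideal.map_le_iff_le_comap, Ideal.comap_comap]
    intro c hc
    have h1 : c ∈ s.comap (algebraMap C (C ⊗[B] B')) := hsC.ge hc
    rw [Ideal.mem_comap] at h1 ⊢
    change e.symm (algebraMap C C' c) ∈ s
    rw [AlgEquiv.commutes]
    exact h1

variable [AddCommGroup M'] [Module B' M'] [Module A' M'] [IsScalarTower A' B' M']
  [AddCommGroup N'] [Module C' N'] [Module A' N'] [IsScalarTower A' C' N'] [Module B' N'] [IsScalarTower B' C' N']

/-- along a flat local homomorphism -/
theorem flatAbove_iff_of_flat [Module.Flat B' C'] (g : M' →ₗ[B'] N') (hg : IsBaseChange C' g) :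
    FlatCA.FlatAboveClosedPoints B A' B' M' ↔ FlatCA.FlatAboveClosedPoints C A' C' N' := by
  constructor
  · intro h Q _ hQ
    exact (flat_point_iff (R := A') (S := B') (S' := C') (C := C') (G := N') g hg Function.surjective_id
      (Q.comap (algebraMap B' C')) Q Q rfl (Ideal.comap_id Q)).1
      (h _ (closedPoints_le_comap (B := B) (C := C) Q hQ))
  · intro h q _ hq
    obtain ⟨Q, hQ, hQq, hQc⟩ := exists_closedPoint_over (C := C) (C' := C') q hq
    haveI := hQ
    exact (flat_point_iff (R := A') (S := B') (S' := C') (C := C') (G := N') g hg Function.surjective_id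
      q Q Q hQq (Ideal.comap_id Q)).2 (h Q hQc)

/-- along a finite local homomorphism -/
theorem flatAbove_iff_of_finite [Module.Finite B C] (e : N' ≃ₗ[B'] M') :
    FlatCA.FlatAboveClosedPoints B A' B' M' ↔ FlatCA.FlatAboveClosedPoints C A' C' N' := by
  haveI : Module.Finite B' C' := by
    haveI : Algebra.IsPushout B B' C C' := Algebra.IsPushout.symm inferInstance
    exact Module.Finite.equiv (Algebra.IsPushout.equiv B B' C C').toLinearEquiv
  haveI : IsScalarTower A' B' N' := IsScalarTower.of_algebraMap_smul fun a x => by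
    rw [← algebraMap_smul C' (algebraMap A' B' a) x, ← IsScalarTower.algebraMap_apply A' B' C', algebraMap_smul]
  have hloc : ∀ (q : Ideal B') [q.IsPrime], Nonempty
      (LocalizedModule q.primeCompl N' ≃ₗ[A'] LocalizedModule q.primeCompl M') := fun q _ =>
    ⟨(IsLocalizedModule.mapEquiv q.primeCompl (LocalizedModule.mkLinearMap q.primeCompl N')
      (LocalizedModule.mkLinearMap q.primeCompl M') (Localization.AtPrime q) e).restrictScalars A'⟩
  constructor
  · intro h Q _ hQ
    obtain ⟨e'⟩ := hloc (Q.comap (algebraMap B' C'))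
    haveI : Module.Flat A' (LocalizedModule (Q.comap (algebraMap B' C')).primeCompl M') :=
      h _ (closedPoints_le_comap (B := B) (C := C) Q hQ)
    haveI : Module.Flat A' (LocalizedModule (Q.comap (algebraMap B' C')).primeCompl N') := Module.Flat.of_linearEquiv e'
    exact (InjFibre.flat_localized_comap_iff (A := A') (B := B') (C := C') _).1 this ⟨Q, ‹_›⟩ fun s hs hm => hs hm
  · intro h q _ hq
    obtain ⟨e'⟩ := hloc q
    haveI : Module.Flat A' (LocalizedModule q.primeCompl N') := by
      refine (InjFibre.flat_localized_comap_iff (A := A') (B := B') (C := C') q.primeCompl).2 fun r hr => ?_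
      have hrq : r.asIdeal.comap (algebraMap B' C') ≤ q := fun b hb => by
        by_contra hbq
        exact hr b hbq hb
      obtain ⟨Q, hrQ, hQ, hQq⟩ := Ideal.exists_ideal_over_prime_of_isIntegral q r.asIdeal hrq
      haveI := hQ
      have hmC : maximalIdeal C ≤ Q.comap (algebraMap C C') := by
        have h1 : ((Q.comap (algebraMap C C')).comap (algebraMap B C)).IsMaximal := by
          have h2 : (Q.comap (algebraMap C C')).comap (algebraMap B C) = maximalIdeal B := by
            rw [Ideal.comap_comap, ← IsScalarTower.algebraMap_eq B C C', IsScalarTower.algebraMap_eq B B' C',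
              ← Ideal.comap_comap, hQq, comap_maximal_of_closedPoints (A' := A') q hq]
          rw [h2]; infer_instance
        exact (IsLocalRing.eq_maximalIdeal (Ideal.isMaximal_of_isIntegral_of_isMaximal_comap _ h1)).ge
      haveI : Module.Flat A' (LocalizedModule Q.primeCompl N') := h Q (sup_le
        (by rw [IsScalarTower.algebraMap_eq A' B' C', ← Ideal.map_map]
            exact Ideal.map_le_iff_le_comap.2 (hQq.symm ▸ (le_sup_left.trans hq)))
        (Ideal.map_le_iff_le_comap.2 hmC))
      have hle : Q.primeCompl ≤ r.asIdeal.primeCompl := fun x hx h' => hx (hrQ h')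
      exact InjFibre.flat_localized r.asIdeal.primeCompl
        (IsLocalizedModule.liftOfLE Q.primeCompl r.asIdeal.primeCompl hle (LocalizedModule.mkLinearMap Q.primeCompl N')
          (LocalizedModule.mkLinearMap r.asIdeal.primeCompl N'))
    exact Module.Flat.of_linearEquiv e'.symm

end Groth.Agent.RG.Dev
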