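import Groth.Agent.RG.Dev.CompleteIdeal
import Groth.Agent.RG.Loc.FiniteTools

/-!
Universality of the smallest flattening ideal over a complete noetherian local ring.
-/

set_option autoImplicit false
set_option backward.isDefEq.respectTransparency false

universe u

namespace Groth.Agent.RG.Dev.CompleteIdeal

open TensorProduct IsLocalRing

/-- Flatness of a base change of `N_q` localises to the points over `q`. -/
theorem flat_point_of_flat_tensor {H S B : Type u} [CommRing H] [CommRing S] [CommRing B] [Algebra H B] [Algebra S B]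
    (q : Ideal S) [q.IsPrime] (Q : Ideal B) [Q.IsPrime] (hQ : Q.comap (algebraMap S B) = q) (N : Type u)
    [AddCommGroup N] [Module S N] (h : Module.Flat H (B ⊗[S] LocalizedModule q.primeCompl N)) :
    Module.Flat H (LocalizedModule Q.primeCompl (B ⊗[S] N)) := by
  haveI := h
  let Nq := LocalizedModule q.primeCompl N
  let L := Localization.AtPrime Q
  let Sq := Localization.AtPrime q
  letI : Algebra Sq L := (Localization.localRingHom q Q (algebraMap S B) hQ.symm).toAlgebra
  haveI : IsScalarTower S Sq L := IsScalarTower.of_algebraMap_eq fun x => by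
    rw [RingHom.algebraMap_toAlgebra, Localization.localRingHom_to_map, ← IsScalarTower.algebraMap_apply]
  haveI : Module.Flat H (L ⊗[B] (B ⊗[S] Nq)) := Groth.Agent.FlatRes.flat_tensor
  let e : L ⊗[B] (B ⊗[S] Nq) ≃ₗ[L] L ⊗[B] (B ⊗[S] N) :=
    AlgebraTensorModule.cancelBaseChange S B L L Nq ≪≫ₗ
      AlgebraTensorModule.congr (LinearEquiv.refl L L) ((LocalizedModule.equivTensorProduct q.primeCompl N).restrictScalars S) ≪≫ₗ
      (AlgebraTensorModule.cancelBaseChange S Sq L L (Sq ⊗[S] N)).symm ≪≫ₗ
      AlgebraTensorModule.congr (LinearEquiv.refl L L)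
        (IsLocalization.moduleLid (S := q.primeCompl) (A := Sq) (M₁ := Sq ⊗[S] N)) ≪≫ₗ
      AlgebraTensorModule.cancelBaseChange S Sq L L N ≪≫ₗ
      (AlgebraTensorModule.cancelBaseChange S B L L N).symm
  exact Module.Flat.of_linearEquiv
    ((LocalizedModule.equivTensorProduct Q.primeCompl (B ⊗[S] N)).restrictScalars H ≪≫ₗ e.symm.restrictScalars H)

/-- A flat base change of a module stays flat after localising the module. -/
theorem flat_tensor_localized_module {T S S₂ : Type u} [CommRing T] [CommRing S] [CommRing S₂] [Algebra T S₂]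
    [Algebra S S₂] (q : Ideal S) [q.IsPrime] (N : Type u) [AddCommGroup N] [Module S N]
    [Module.Flat T (S₂ ⊗[S] N)] : Module.Flat T (S₂ ⊗[S] LocalizedModule q.primeCompl N) := by
  let Sq := Localization.AtPrime q
  haveI : Module.Flat S₂ (S₂ ⊗[S] Sq) := Module.Flat.baseChange S S₂ Sq
  haveI : Module.Flat T ((S₂ ⊗[S] Sq) ⊗[S₂] (S₂ ⊗[S] N)) := Groth.Agent.FlatRes.flat_tensor
  let e : S₂ ⊗[S] LocalizedModule q.primeCompl N ≃ₗ[S₂] (S₂ ⊗[S] Sq) ⊗[S₂] (S₂ ⊗[S] N) :=
    AlgebraTensorModule.congr (LinearEquiv.refl S₂ S₂)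
        ((LocalizedModule.equivTensorProduct q.primeCompl N).restrictScalars S) ≪≫ₗ
      (AlgebraTensorModule.assoc S S S₂ S₂ Sq N).symm ≪≫ₗ
      (AlgebraTensorModule.cancelBaseChange S S₂ S₂ (S₂ ⊗[S] Sq) N).symm
  exact Module.Flat.of_linearEquiv (e.restrictScalars T)

attribute [local instance] Algebra.TensorProduct.rightAlgebra in
/-- The flattening ideal is universal. -/
theorem universal {R S R' S' : Type u} [CommRing R] [IsLocalRing R] [IsNoetherianRing R] [CommRing S] [CommRing R']
    [IsLocalRing R'] [IsNoetherianRing R'] [CommRing S'] [Algebra R S] [Algebra R R'] [IsLocalHom (algebraMap R R')]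
    [Algebra S S'] [Algebra R' S'] [Algebra R S'] [IsScalarTower R S S'] [IsScalarTower R R' S']
    [Algebra.IsPushout R R' S S'] (M : Type u) [AddCommGroup M] [Module S M] [Module R M] [IsScalarTower R S M]
    (I : Ideal R)
    (hI : ∀ (q : Ideal S) [q.IsPrime], q.comap (algebraMap R S) = maximalIdeal R →
      Module.Flat (R ⧸ I) ((R ⧸ I) ⊗[R] LocalizedModule q.primeCompl M))
    (hmin : ∀ J : Ideal R, (∀ (q : Ideal S) [q.IsPrime], q.comap (algebraMap R S) = maximalIdeal R →
      Module.Flat (R ⧸ J) ((R ⧸ J) ⊗[R] LocalizedModule q.primeCompl M)) → I ≤ J) :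
    (∀ (Q : Ideal S') [Q.IsPrime], Q.comap (algebraMap R' S') = maximalIdeal R' →
      Module.Flat R' (LocalizedModule Q.primeCompl (S' ⊗[S] M))) ↔ I ≤ RingHom.ker (algebraMap R R') := by
  constructor
  · intro h x hx
    let m' := maximalIdeal R'
    suffices hn : ∀ n : ℕ, algebraMap R R' x ∈ m' ^ n by
      have h0 : algebraMap R R' x ∈ ⨅ n : ℕ, m' ^ n := Submodule.mem_iInf _ |>.2 hn
      rwa [Ideal.iInf_pow_eq_bot_of_isLocalRing _ (maximalIdeal.isMaximal R').ne_top, Ideal.mem_bot] at h0
    intro n
    let T := R' ⧸ m' ^ n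
    let S₂ := T ⊗[R'] S'
    letI : Algebra S S₂ := ((algebraMap S' S₂).comp (algebraMap S S')).toAlgebra
    haveI : IsScalarTower S S' S₂ := IsScalarTower.of_algebraMap_eq fun _ => rfl
    haveI : IsScalarTower R R' S₂ := inferInstance
    haveI : IsScalarTower R S' S₂ := IsScalarTower.of_algebraMap_eq fun r => by
      rw [IsScalarTower.algebraMap_apply R R' S', ← IsScalarTower.algebraMap_apply R' S' S₂,
        ← IsScalarTower.algebraMap_apply R R' S₂]
    haveI : IsScalarTower R T S₂ := inferInstance
    haveI : IsScalarTower R S S₂ := IsScalarTower.of_algebraMap_eq fun r => by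
      rw [IsScalarTower.algebraMap_apply R S' S₂, IsScalarTower.algebraMap_apply R S S',
        ← IsScalarTower.algebraMap_apply S S' S₂]
    haveI hpo2 : Algebra.IsPushout R' T S' S₂ := inferInstance
    haveI hpo1 : Algebra.IsPushout R T S S₂ := (Algebra.IsPushout.comp_iff R R' S S').2 hpo2
    have hflat : Module.Flat T (S₂ ⊗[S] M) := by
      refine Module.flat_of_isLocalized_maximal (R := T) (S := S₂) (M := S₂ ⊗[S] M)
        (fun P _ => LocalizedModule P.primeCompl (S₂ ⊗[S] M))
        (fun P _ => LocalizedModule.mkLinearMap P.primeCompl _) fun P hP => ?_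
      let Q : Ideal S' := P.comap (algebraMap S' S₂)
      haveI hQm : (Q.comap (algebraMap R' S')).IsPrime := Ideal.IsPrime.comap _
      have hQ : Q.comap (algebraMap R' S') = m' := by
        refine le_antisymm (le_maximalIdeal hQm.ne_top) fun r hr => ?_
        refine hQm.mem_of_pow_mem n ?_
        change algebraMap S' S₂ (algebraMap R' S' (r ^ n)) ∈ P
        rw [← IsScalarTower.algebraMap_apply, IsScalarTower.algebraMap_apply R' T S₂,
          show algebraMap R' T (r ^ n) = 0 from Ideal.Quotient.eq_zero_iff_mem.2 (Ideal.pow_mem_pow hr n), map_zero]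
        exact P.zero_mem
      haveI := RG.Loc.flat_baseChange_point (R := R') (H := T) (S := S') (B := S₂) Q P rfl (S' ⊗[S] M) (h Q hQ)
      exact Module.Flat.of_linearEquiv ((IsLocalizedModule.mapEquiv P.primeCompl
        (LocalizedModule.mkLinearMap P.primeCompl (S₂ ⊗[S] M))
        (LocalizedModule.mkLinearMap P.primeCompl (S₂ ⊗[S'] (S' ⊗[S] M))) (Localization.AtPrime P)
        (AlgebraTensorModule.cancelBaseChange S S' S₂ S₂ M).symm).restrictScalars T)
    have hker : maximalIdeal R ^ n ≤ RingHom.ker (algebraMap R T) := fun r hr => by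
      rw [RingHom.mem_ker, IsScalarTower.algebraMap_apply R R' T]
      refine Ideal.Quotient.eq_zero_iff_mem.2 (?_ : algebraMap R R' r ∈ m' ^ n)
      refine Ideal.pow_right_mono (Ideal.map_le_iff_le_comap.2 fun a ha => ?_) n
        (Ideal.map_pow (algebraMap R R') (maximalIdeal R) n ▸ Ideal.mem_map_of_mem _ hr)
      exact (mem_maximalIdeal _).2 fun hu => (mem_maximalIdeal _).1 ha (isUnit_of_map_unit (algebraMap R R') a hu)
    haveI : IsArtinianRing (R ⧸ maximalIdeal R) := letI := Ideal.Quotient.field (maximalIdeal R); inferInstance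
    haveI : IsArtinianRing (R ⧸ maximalIdeal R ^ n) :=
      S14020.result R (maximalIdeal R) (IsNoetherian.noetherian _) n
    have hgood : I ≤ RingHom.ker (algebraMap R T) := hmin _ fun q _ _ => by
      haveI := hflat
      haveI := flat_tensor_localized_module (T := T) (S₂ := S₂) q M
      haveI : Module.Flat T (T ⊗[R] LocalizedModule q.primeCompl M) := Module.Flat.of_linearEquiv
        (Algebra.IsPushout.cancelBaseChange R T S S₂ (LocalizedModule q.primeCompl M)).symm
      obtain ⟨K, hK⟩ := exists_least_algebra (maximalIdeal R ^ n) (LocalizedModule q.primeCompl M)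
      have hKle := (hK T hker).1 ‹_›
      refine (hK (R ⧸ _) ?_).2 ?_ <;> rw [show RingHom.ker (algebraMap R (R ⧸ RingHom.ker (algebraMap R T))) =
        RingHom.ker (algebraMap R T) from Ideal.mk_ker]
      · exact hker
      · exact hKle
    have := hgood hx
    rw [RingHom.mem_ker, IsScalarTower.algebraMap_apply R R' T] at this
    exact Ideal.Quotient.eq_zero_iff_mem.1 this
  · intro hker Q _ hQ
    let q : Ideal S := Q.comap (algebraMap S S')
    have hq : q.comap (algebraMap R S) = maximalIdeal R := by
      rw [Ideal.comap_comap, ← IsScalarTower.algebraMap_eq, IsScalarTower.algebraMap_eq R R' S', ← Ideal.comap_comap, hQ]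
      exact maximalIdeal_comap _
    haveI : Module.Flat R' (R' ⊗[R] LocalizedModule q.primeCompl M) :=
      flat_of_kills _ I R' (fun x hx => hker hx) (hI q hq)
    haveI : Module.Flat R' (S' ⊗[S] LocalizedModule q.primeCompl M) := Module.Flat.of_linearEquiv
      (Algebra.IsPushout.cancelBaseChange R R' S S' (LocalizedModule q.primeCompl M))
    exact flat_point_of_flat_tensor q Q rfl M inferInstance

end Groth.Agent.RG.Dev.CompleteIdeal
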