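import Mathlib
import Groth.Agent.UnibranchEtale.BirationalScheme
import Groth.Prelude

/-!
# Étale slices through points of affine space with separable residue field
-/

set_option autoImplicit false

universe u

open MvPolynomial

namespace Groth.Agent.RGDev

/-- A field which consists of fractions of a ring is formally unramified over it. -/
theorem formallyUnramified_of_fractions {R K : Type u} [CommRing R] [Field K] [Algebra R K]
    (hK : ∀ c : K, ∃ a s, algebraMap R K s ≠ 0 ∧ algebraMap R K s * c = algebraMap R K a) :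
    Algebra.FormallyUnramified R K := by
  rw [Algebra.FormallyUnramified.iff_comp_injective]
  intro B _ _ I _ g₁ g₂ _
  refine AlgHom.ext fun c ↦ ?_
  obtain ⟨a, s, hs, hc⟩ := hK c
  have hu : IsUnit (g₁ (algebraMap R K s)) := (IsUnit.mk0 _ hs).map g₁
  refine hu.mul_left_cancel ?_
  rw [← map_mul, hc, AlgHom.commutes, AlgHom.commutes, ← AlgHom.commutes g₂ s, ← map_mul, hc, AlgHom.commutes]

/-- The gradients of the equations of a point with unramified residue field span. -/
theorem span_gradient_eq_top {R L : Type u} [CommRing R] [Field L] [Algebra R L] [Algebra.FormallyUnramified R L]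
    {n : ℕ} (a : Fin n → L) (hL : ∀ c : L, ∃ f g : MvPolynomial (Fin n) R, aeval a g ≠ 0 ∧ aeval a g * c = aeval a f) :
    Submodule.span L {v : Fin n → L | ∃ f : MvPolynomial (Fin n) R, aeval a f = 0 ∧ v = fun i ↦ aeval a (pderiv i f)} = ⊤ := by
  classical
  by_contra hne
  obtain ⟨φ, hφ, hφker⟩ := Submodule.exists_le_ker_of_lt_top _ (lt_top_iff_ne_top.2 hne)
  let lam : Fin n → L := fun i ↦ φ (Pi.single i 1)
  let Φ : MvPolynomial (Fin n) R →ₐ[R] TrivSqZeroExt L L :=
    aeval fun i ↦ TrivSqZeroExt.inl (a i) + TrivSqZeroExt.inr (lam i)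
  have hfst : ∀ f, TrivSqZeroExt.fst (Φ f) = aeval a f := fun f ↦ by
    show ((TrivSqZeroExt.fstHom R L L).comp Φ) f = _
    congr 1
    exact MvPolynomial.algHom_ext fun i ↦ by simp [Φ]
  have hsnd : ∀ f, TrivSqZeroExt.snd (Φ f) = ∑ i, lam i * aeval a (pderiv i f) := fun f ↦ by
    induction f using MvPolynomial.induction_on with
    | C r => simp [Φ, TrivSqZeroExt.algebraMap_eq_inl']
    | add p q hp hq => simp only [map_add, TrivSqZeroExt.snd_add, hp, hq, mul_add, Finset.sum_add_distrib]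
    | mul_X p j hp =>
      rw [map_mul, TrivSqZeroExt.snd_mul, hp, hfst]
      have : Φ (X j) = TrivSqZeroExt.inl (a j) + TrivSqZeroExt.inr (lam j) := aeval_X _ j
      rw [this]
      simp only [TrivSqZeroExt.snd_add, TrivSqZeroExt.snd_inl, TrivSqZeroExt.snd_inr, zero_add,
        TrivSqZeroExt.fst_add, TrivSqZeroExt.fst_inl, TrivSqZeroExt.fst_inr, add_zero, smul_eq_mul, op_smul_eq_smul,
        pderiv_mul, pderiv_X, map_add, map_mul, aeval_X, mul_add, Finset.sum_add_distrib]
      rw [add_comm, Finset.mul_sum]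
      congr 1
      · exact Finset.sum_congr rfl fun i _ ↦ by ring
      · rw [Finset.sum_eq_single j (fun i _ hij ↦ by simp [Pi.single_apply, hij.symm]) (by simp)]
        simp [mul_comm]
  have hlam : ∀ v : Fin n → L, φ v = ∑ i, lam i * v i := fun v ↦ by
    conv_lhs => rw [pi_eq_sum_univ' v]
    simp [lam, mul_comm]
  have hker : ∀ f ∈ RingHom.ker (aeval (R := R) a), Φ f = 0 := fun f hf ↦ by
    refine TrivSqZeroExt.ext ?_ ?_
    · rw [hfst]; exact hf
    · rw [hsnd, TrivSqZeroExt.snd_zero, ← hlam]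
      exact hφker (Submodule.subset_span ⟨f, hf, rfl⟩)
  let Q := MvPolynomial (Fin n) R ⧸ RingHom.ker (aeval (R := R) a)
  let ι : Q →ₐ[R] L := Ideal.Quotient.liftₐ _ (aeval a) fun f hf ↦ hf
  let : Algebra Q L := ι.toRingHom.toAlgebra
  have hι : Function.Injective ι := (injective_iff_map_eq_zero _).2 fun q hq ↦ by
    obtain ⟨f, rfl⟩ := Ideal.Quotient.mk_surjective q
    exact Ideal.Quotient.eq_zero_iff_mem.2 hq
  have : FaithfulSMul Q L := (faithfulSMul_iff_algebraMap_injective Q L).2 hι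
  have hfrac : IsFractionRing Q L := IsFractionRing.of_field Q L fun c ↦ by
    obtain ⟨f, g, hg, hc⟩ := hL c
    refine ⟨Ideal.Quotient.mk _ f, Ideal.Quotient.mk _ g, ?_⟩
    show c = aeval a f / aeval a g
    rw [eq_div_iff hg, mul_comm]; exact hc
  have : IsScalarTower R Q L := IsScalarTower.of_algebraMap_eq fun r ↦ (ι.commutes r).symm
  let Φ' : Q →ₐ[R] TrivSqZeroExt L L := Ideal.Quotient.liftₐ _ Φ hker
  have hu : ∀ y : nonZeroDivisors Q, IsUnit (Φ' y) := by
    rintro ⟨y, hy⟩
    obtain ⟨f, rfl⟩ := Ideal.Quotient.mk_surjective y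
    rw [TrivSqZeroExt.isUnit_iff_isUnit_fst]
    show IsUnit (TrivSqZeroExt.fst (Φ f))
    rw [hfst]
    exact (IsLocalization.map_units L (⟨_, hy⟩ : nonZeroDivisors Q) :)
  let ψ : L →ₐ[R] TrivSqZeroExt L L := IsLocalization.liftAlgHom hu
  have hψ : ψ = TrivSqZeroExt.inlAlgHom R L L := by
    refine Algebra.FormallyUnramified.ext' (TrivSqZeroExt.fstHom R L L).toRingHom ⟨2, ?_⟩ _ _ fun c ↦ ?_
    · rw [pow_two, Ideal.zero_eq_bot, eq_bot_iff, Ideal.mul_le]
      intro x (hx : TrivSqZeroExt.fst x = 0) y (hy : TrivSqZeroExt.fst y = 0)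
      rw [Submodule.mem_bot]
      exact TrivSqZeroExt.ext (by simp [hx]) (by simp [hx, hy, op_smul_eq_smul])
    · have h1 : (TrivSqZeroExt.fstHom R L L).toRingHom.comp ψ.toRingHom = RingHom.id L := by
        refine IsLocalization.ringHom_ext (nonZeroDivisors Q) (RingHom.ext fun y ↦ ?_)
        obtain ⟨f, rfl⟩ := Ideal.Quotient.mk_surjective y
        show TrivSqZeroExt.fst (IsLocalization.lift hu (algebraMap Q L (Ideal.Quotient.mk _ f))) = aeval a f
        rw [IsLocalization.lift_eq]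
        exact hfst f
      exact DFunLike.congr_fun h1 c
  refine hφ (LinearMap.ext fun v ↦ ?_)
  have hlam0 : ∀ i, lam i = 0 := fun i ↦ by
    have h1 : ψ (algebraMap Q L (Ideal.Quotient.mk _ (X i))) = Φ (X i) := IsLocalization.lift_eq hu _
    have h2 := congrArg TrivSqZeroExt.snd h1
    rw [hψ] at h2
    simpa [Φ] using h2.symm
  rw [hlam, LinearMap.zero_apply]
  simp [hlam0]

/-- Equations with invertible Jacobian through a point with separable residue field. -/
theorem exists_jacobian {R K Ω : Type u} [CommRing R] [Field K] [Field Ω] {n : ℕ} (e : R →+* K)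
    (hK : ∀ c : K, ∃ a s, e s ≠ 0 ∧ e s * c = e a) (j : K →+* Ω)
    (hsep : @Algebra.IsSeparable K Ω _ _ j.toAlgebra) (ι : MvPolynomial (Fin n) R →+* Ω)
    (hι : ι.comp C = j.comp e) :
    ∃ G : Fin n → MvPolynomial (Fin n) R, (∀ i, ι (G i) = 0) ∧
      ι (Matrix.of fun i k ↦ pderiv i (G k)).det ≠ 0 := by
  classical
  algebraize [e, j, j.comp e]
  have : Algebra.FormallyUnramified R K := formallyUnramified_of_fractions hK
  let a : Fin n → Ω := fun i ↦ ι (X i)
  let E : IntermediateField K Ω := IntermediateField.adjoin K (Set.range a)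
  have : Algebra.IsSeparable K E := Algebra.isSeparable_tower_bot_of_isSeparable K E Ω
  have : Algebra.FormallyUnramified K E := Algebra.FormallyUnramified.of_isSeparable K E
  have : Algebra.FormallyUnramified R E := Algebra.FormallyUnramified.comp R K E
  let a' : Fin n → E := fun i ↦ ⟨a i, IntermediateField.subset_adjoin K _ ⟨i, rfl⟩⟩
  have hval : ∀ f, ((aeval a' f : E) : Ω) = ι f := fun f ↦ by
    have h1 : (E.val.restrictScalars R).toRingHom.comp (aeval a').toRingHom = ι :=
      MvPolynomial.ringHom_ext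
        (fun r ↦ by
          show ((aeval a' (C r) : E) : Ω) = ι (C r)
          rw [aeval_C, show ι (C r) = j (e r) from DFunLike.congr_fun hι r]
          rfl)
        (fun i ↦ by show ((aeval a' (X i) : E) : Ω) = ι (X i); rw [aeval_X])
    exact DFunLike.congr_fun h1 f
  have hfrac : ∀ c : E, ∃ f g : MvPolynomial (Fin n) R, aeval a' g ≠ 0 ∧ aeval a' g * c = aeval a' f := by
    suffices H : ∀ c ∈ E, ∃ f g, ι g ≠ 0 ∧ ι g * c = ι f by
      intro c
      obtain ⟨f, g, hg, hc⟩ := H c.1 c.2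
      refine ⟨f, g, fun h ↦ hg (by rw [← hval, h, ZeroMemClass.coe_zero]), Subtype.ext ?_⟩
      rw [MulMemClass.coe_mul, hval, hval]; exact hc
    intro c hc
    induction hc using IntermediateField.adjoin_induction with
    | mem x hx =>
      obtain ⟨i, rfl⟩ := hx
      exact ⟨X i, 1, by simp, by simp [a]⟩
    | algebraMap x =>
      obtain ⟨r, s, hs, hx⟩ := hK x
      refine ⟨C r, C s, ?_, ?_⟩
      · rw [show ι (C s) = j (e s) from DFunLike.congr_fun hι s]
        exact (map_ne_zero j).2 hs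
      · rw [show ι (C s) = j (e s) from DFunLike.congr_fun hι s, show ι (C r) = j (e r) from DFunLike.congr_fun hι r]
        show j (e s) * j x = _
        rw [← map_mul, hx]
    | add x y _ _ hx hy =>
      obtain ⟨f, g, hg, hx⟩ := hx
      obtain ⟨f', g', hg', hy⟩ := hy
      refine ⟨f * g' + f' * g, g * g', by simp [hg, hg'], ?_⟩
      simp only [map_mul, map_add]; rw [← hx, ← hy]; ring
    | inv x _ hx =>
      obtain ⟨f, g, hg, hx⟩ := hx
      by_cases hx0 : x = 0
      · exact ⟨0, 1, by simp, by simp [hx0]⟩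
      · refine ⟨g, f, by rw [← hx]; exact mul_ne_zero hg hx0, ?_⟩
        rw [← hx, mul_assoc, mul_inv_cancel₀ hx0, mul_one]
    | mul x y _ _ hx hy =>
      obtain ⟨f, g, hg, hx⟩ := hx
      obtain ⟨f', g', hg', hy⟩ := hy
      refine ⟨f * f', g * g', by simp [hg, hg'], ?_⟩
      simp only [map_mul]; rw [← hx, ← hy]; ring
  have htop := span_gradient_eq_top a' hfrac
  let S : Set (Fin n → E) :=
    {v | ∃ f : MvPolynomial (Fin n) R, aeval a' f = 0 ∧ v = fun i ↦ aeval a' (pderiv i f)}
  obtain ⟨v, hv, -, hli⟩ := Submodule.exists_fun_fin_finrank_span_eq E S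
  have hn : Module.finrank E (Submodule.span E S) = n := by
    rw [htop, finrank_top, Module.finrank_fin_fun]
  have hcast := hn.symm
  let w : Fin n → (Fin n → E) := v ∘ Fin.cast hcast
  have hw : LinearIndependent E w := hli.comp _ (Fin.cast_injective _)
  choose G hG0 hGv using fun i ↦ hv (Fin.cast hcast i)
  refine ⟨G, fun i ↦ by rw [← hval, hG0, ZeroMemClass.coe_zero], fun h0 ↦ ?_⟩
  let M : Matrix (Fin n) (Fin n) E := Matrix.of fun i k ↦ aeval a' (pderiv i (G k))
  have hM : M.det = aeval a' (Matrix.of fun i k ↦ pderiv i (G k)).det := by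
    rw [AlgHom.map_det]; rfl
  have hcols : LinearIndependent E M.col := by
    convert hw using 1
    funext k i
    exact (congrFun (hGv k) i).symm
  have hunit := (Matrix.isUnit_iff_isUnit_det M).1 (Matrix.linearIndependent_cols_iff_isUnit.1 hcols)
  refine hunit.ne_zero (Subtype.ext ?_)
  rw [hM, hval, h0, ZeroMemClass.coe_zero]

/-- An étale closed subalgebra of an open of affine space cut out by equations with invertible
Jacobian at a point. -/
theorem etale_localization_jacobian {A : Type u} [CommRing A] {n : ℕ} (G : Fin n → MvPolynomial (Fin n) A) :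
    Algebra.Etale A (Localization.Away (Ideal.Quotient.mk (Ideal.span (Set.range G))
      (Matrix.of fun i k ↦ pderiv i (G k)).det)) := by
  classical
  let K : Ideal (MvPolynomial (Fin n) A) := Ideal.span (Set.range G)
  let Q := MvPolynomial (Fin n) A ⧸ K
  let P : Algebra.PreSubmersivePresentation A Q (Fin n) (Fin n) :=
    Algebra.PreSubmersivePresentation.naive (v := G) id Function.injective_id
  let Δ : Q := P.jacobian
  have hjac : Δ = Ideal.Quotient.mk K (Matrix.of fun i k ↦ pderiv i (G k)).det := by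
    change P.jacobian = _
    rw [Algebra.PreSubmersivePresentation.jacobian_eq_jacobiMatrix_det]
    have : P.jacobiMatrix = Matrix.of fun i j => pderiv i (G j) :=
      Matrix.ext fun i j => Algebra.PreSubmersivePresentation.jacobiMatrix_naive id Function.injective_id _ _ i j
    rw [this]
    rfl
  rw [← hjac]
  have hΔ : IsUnit (algebraMap Q (Localization.Away Δ) Δ) := IsLocalization.Away.algebraMap_isUnit _
  let S : Algebra.SubmersivePresentation A (Localization.Away Δ) _ _ :=
    { toPreSubmersivePresentation := .comp (.localizationAway (Localization.Away Δ) Δ) P,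
      jacobian_isUnit := by simpa [Algebra.smul_def, -isUnit_map_iff, Δ] using hΔ }
  have : Algebra.IsStandardSmoothOfRelativeDimension 0 A (Localization.Away Δ) :=
    ⟨_, _, _, inferInstance, S, by
      simp only [Algebra.PreSubmersivePresentation.dimension_comp_eq_dimension_add_dimension, S]
      simp [Algebra.Presentation.dimension]⟩
  infer_instance

end Groth.Agent.RGDev

namespace Groth.Agent.RGDev

open CategoryTheory Limits AlgebraicGeometry TopologicalSpace

theorem evaluation_appLE' {X S : Scheme.{u}} (f : X ⟶ S) {U : S.Opens} {V : X.Opens} (e : V ≤ f ⁻¹ᵁ U)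
    (x : X) (hx : x ∈ V) (a : Γ(S, U)) :
    X.evaluation V x hx (f.appLE U V e a) = f.residueFieldMap x (S.evaluation U (f x) (e hx) a) := by
  rw [Scheme.evaluation_naturality_apply f x (e hx) a, Scheme.Hom.appLE]
  show X.residue x (X.presheaf.germ V x hx (X.presheaf.map (homOfLE e).op (f.app U a))) =
    X.residue x (X.presheaf.germ (f ⁻¹ᵁ U) x (e hx) (f.app U a))
  congr 1
  exact X.presheaf.germ_res_apply (homOfLE e) x hx _

/-- An étale slice through a point, closed in its fibre with separable residue field, of a smooth morphism. -/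
theorem exists_etale_slice {X S : Scheme.{u}} (f : X ⟶ S) [Smooth f] (x : X)
    (hsep : @Algebra.IsSeparable (S.residueField (f x)) (X.residueField x) _ _ (f.residueFieldMap x).hom.toAlgebra) :
    ∃ (Z : Scheme.{u}) (i : Z ⟶ X) (z : Z), IsImmersion i ∧ Etale (i ≫ f) ∧ i z = x ∧
      ∀ z' : ↑Z, f (i z') = f x → z' = z := by
  classical
  obtain ⟨Y₀, hY₀, V₀, hV₀, hv, eV, hstd⟩ := Smooth.exists_isStandardSmooth f x
  obtain ⟨n, g, hgC, hg⟩ := hstd.exists_etale_mvPolynomial
  let e := (S.evaluation Y₀ (f x) (eV hv)).hom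
  let ιB := (X.evaluation V₀ x hv).hom
  let ι : MvPolynomial (Fin n) Γ(S, Y₀) →+* X.residueField x := ιB.comp g
  obtain ⟨G, hG, hdet⟩ := exists_jacobian e (fun c ↦ by
      obtain ⟨a, s, hs, h⟩ := UnibranchEtale.exists_evaluation_div hY₀ (f x) (eV hv) c
      refine ⟨a, s, fun h0 ↦ hs ?_, h⟩
      rw [← UnibranchEtale.ker_evaluation hY₀ (f x) (eV hv)]
      exact h0)
    (f.residueFieldMap x).hom hsep ι (by
      refine RingHom.ext fun r ↦ ?_
      show ιB (g (C r)) = _
      rw [show g (C r) = f.appLE Y₀ V₀ eV r from DFunLike.congr_fun hgC r]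
      exact evaluation_appLE' f eV x hv r)
  let A := MvPolynomial (Fin n) Γ(S, Y₀)
  let K : Ideal A := Ideal.span (Set.range G)
  let Δ : A ⧸ K := Ideal.Quotient.mk K (Matrix.of fun i k ↦ pderiv i (G k)).det
  let Bz := Localization.Away Δ
  have hBz : Algebra.Etale Γ(S, Y₀) Bz := etale_localization_jacobian G
  let η : Spec Γ(X, V₀) ⟶ Spec (CommRingCat.of A) := Spec.map (CommRingCat.ofHom g)
  have : Etale η := by
    rw [HasRingHomProperty.Spec_iff (P := @Etale)]
    exact hg
  let θ : Spec (CommRingCat.of Bz) ⟶ Spec (CommRingCat.of A) :=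
    Spec.map (CommRingCat.ofHom (algebraMap (A ⧸ K) Bz)) ≫ Spec.map (CommRingCat.ofHom (Ideal.Quotient.mk K))
  have : IsClosedImmersion (Spec.map (CommRingCat.ofHom (Ideal.Quotient.mk K))) :=
    IsClosedImmersion.spec_of_surjective _ Ideal.Quotient.mk_surjective
  have : IsOpenImmersion (Spec.map (CommRingCat.ofHom (algebraMap (A ⧸ K) Bz))) :=
    IsOpenImmersion.of_isLocalization Δ
  have : IsImmersion θ := inferInstance
  let π : Spec (CommRingCat.of A) ⟶ Spec Γ(S, Y₀) := Spec.map (CommRingCat.ofHom (C : Γ(S, Y₀) →+* A))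
  have hη : η ≫ π ≫ hY₀.fromSpec = hV₀.fromSpec ≫ f := by
    rw [← hY₀.SpecMap_appLE_fromSpec f hV₀ eV, ← Category.assoc, ← Spec.map_comp]
    congr 1
    exact congrArg Spec.map (CommRingCat.hom_ext hgC)
  have : Etale (θ ≫ π) := by
    simp only [θ, π, ← Spec.map_comp]
    rw [HasRingHomProperty.Spec_iff (P := @Etale)]
    exact RingHom.etale_algebraMap.2 hBz
  -- the point
  let ρ : A ⧸ K →+* X.residueField x :=
    Ideal.Quotient.lift K ι fun a ha ↦ by
      refine (Ideal.span_le.2 ?_ : K ≤ RingHom.ker ι) ha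
      rintro _ ⟨i, rfl⟩
      exact hG i
  have hρ : IsUnit (ρ Δ) := IsUnit.mk0 _ (by show ι _ ≠ 0; exact hdet)
  let ρ' : Bz →+* X.residueField x := IsLocalization.Away.lift Δ hρ
  let w : Spec (CommRingCat.of Bz) := ⟨RingHom.ker ρ', RingHom.ker_isPrime _⟩
  have hwθ : θ w = η (hV₀.primeIdealOf ⟨x, hv⟩) := by
    refine PrimeSpectrum.ext ?_
    show ((RingHom.ker ρ').comap (algebraMap (A ⧸ K) Bz)).comap (Ideal.Quotient.mk K) =
      (hV₀.primeIdealOf ⟨x, hv⟩).asIdeal.comap g
    rw [← UnibranchEtale.ker_evaluation hV₀ x hv, RingHom.comap_ker, RingHom.comap_ker, RingHom.comap_ker]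
    congr 1
    rw [IsLocalization.Away.lift_comp]
    exact Ideal.Quotient.lift_comp_mk K _ _
  obtain ⟨z₀, hz₁, hz₂⟩ := Scheme.Pullback.exists_preimage_pullback (f := θ) (g := η) w (hV₀.primeIdealOf ⟨x, hv⟩) hwθ
  let i₀ : pullback θ η ⟶ X := pullback.snd θ η ≫ hV₀.fromSpec
  have hi₀ : i₀ z₀ = x := by
    rw [Scheme.Hom.comp_apply, hz₂, hV₀.fromSpec_primeIdealOf]
  have hfac : i₀ ≫ f = (pullback.fst θ η ≫ θ ≫ π) ≫ hY₀.fromSpec := by
    simp only [i₀, Category.assoc]
    rw [← hη, pullback.condition_assoc]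
  have : Etale (i₀ ≫ f) := by rw [hfac]; infer_instance
  -- the fibre is discrete
  obtain ⟨O, hO, hOz⟩ : ∃ O : Set ↥(pullback θ η), IsOpen O ∧ O ∩ (i₀ ≫ f) ⁻¹' {f x} = {z₀} := by
    have : LocallyQuasiFinite (i₀ ≫ f) := by
      refine ⟨fun {U} hU {W} hW e => ?_⟩
      have := HasRingHomProperty.appLE (P := @Etale) (i₀ ≫ f) inferInstance ⟨U, hU⟩ ⟨W, hW⟩ e
      algebraize [((i₀ ≫ f).appLE U W e).hom]
      show @Algebra.QuasiFinite _ _ _ _ ((i₀ ≫ f).appLE U W e).hom.toAlgebra
      infer_instance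
    have hd := (i₀ ≫ f).isDiscrete_preimage_singleton (f x)
    have hmem : z₀ ∈ (i₀ ≫ f) ⁻¹' {f x} := by
      show (i₀ ≫ f) z₀ = f x
      rw [Scheme.Hom.comp_apply, hi₀]
    have : DiscreteTopology ((i₀ ≫ f) ⁻¹' {f x}) := isDiscrete_iff_discreteTopology.1 hd
    obtain ⟨O, hO, hOz⟩ := isOpen_induced_iff.1 (isOpen_discrete {(⟨z₀, hmem⟩ : ((i₀ ≫ f) ⁻¹' {f x}))})
    refine ⟨O, hO, Set.ext fun z ↦ ⟨fun hz ↦ ?_, fun hz ↦ ?_⟩⟩
    · exact congrArg Subtype.val (hOz.le (show (⟨z, hz.2⟩ : ((i₀ ≫ f) ⁻¹' {f x})) ∈ Subtype.val ⁻¹' O from hz.1))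
    · rw [Set.mem_singleton_iff.1 hz]
      exact ⟨hOz.ge (rfl : (⟨z₀, hmem⟩ : ((i₀ ≫ f) ⁻¹' {f x})) ∈ ({⟨z₀, hmem⟩} : Set _)), hmem⟩
  let U : (pullback θ η).Opens := ⟨O, hO⟩
  have hzU : z₀ ∈ U := (hOz.ge rfl).1
  refine ⟨U, U.ι ≫ i₀, ⟨z₀, hzU⟩, inferInstance, ?_, hi₀, fun z' hz' ↦ Subtype.ext ?_⟩
  · rw [Category.assoc]; infer_instance
  · exact hOz.le ⟨z'.2, hz'⟩

end Groth.Agent.RGDev
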