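import Mathlib
import Groth.Agent.S1549
import Groth.Agent.S1550
import Groth.Agent.SmDesc.Scheme
import Groth.Agent.UnibranchEtale.BirationalScheme
import Groth.Prelude

/-!
# Closed points with separable residue field in the smooth locus of a geometrically reduced fibre
-/

set_option autoImplicit false

universe u

open CategoryTheory Limits AlgebraicGeometry TopologicalSpace

namespace Groth.Agent.RGDev

/-- Transport of separability along bijections. -/
theorem isSeparable_of_comm {K L K' L' : Type u} [Field K] [Field L] [Field K'] [Field L'] (a : K →+* L)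
    (b : K' →+* L') (c : K →+* K') (d : L →+* L') (hc : Function.Bijective c) (hd : Function.Bijective d)
    (h : b.comp c = d.comp a) (hb : @Algebra.IsSeparable K' L' _ _ b.toAlgebra) :
    @Algebra.IsSeparable K L _ _ a.toAlgebra := by
  letI := a.toAlgebra
  letI := b.toAlgebra
  haveI : Algebra.IsSeparable K' L' := hb
  let e₁ : K' ≃+* K := (RingEquiv.ofBijective c hc).symm
  let e₂ : L' ≃+* L := (RingEquiv.ofBijective d hd).symm
  refine Algebra.IsSeparable.of_equiv_equiv e₁ e₂ (RingHom.ext fun k ↦ ?_)
  obtain ⟨k, rfl⟩ := hc.2 k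
  show a (e₁ (c k)) = e₂ (b (c k))
  rw [show e₁ (c k) = k from (RingEquiv.ofBijective c hc).symm_apply_apply k,
    show b (c k) = d (a k) from DFunLike.congr_fun h k]
  exact ((RingEquiv.ofBijective d hd).symm_apply_apply (a k)).symm

theorem residueFieldMap_bijective_of_isPreimmersion {X Y : Scheme.{u}} (f : X ⟶ Y) [IsPreimmersion f] (x : X) :
    Function.Bijective (f.residueFieldMap x) := by
  refine ⟨(f.residueFieldMap x).hom.injective, fun c ↦ ?_⟩
  obtain ⟨t, rfl⟩ := X.residue_surjective x c
  obtain ⟨s, rfl⟩ := f.stalkMap_surjective x t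
  exact ⟨Y.residue (f x) s, by
    rw [← CommRingCat.comp_apply, Scheme.residue_residueFieldMap]; rfl⟩

/-- Separability of residue extensions passes through squares with preimmersions. -/
theorem isSeparable_residue_of_square {X S F P : Scheme.{u}} (f : X ⟶ S) (h : F ⟶ P) (p : F ⟶ X) (q : P ⟶ S)
    [IsPreimmersion p] [IsPreimmersion q] (hw : p ≫ f = h ≫ q) (u : F)
    (hsep : @Algebra.IsSeparable (P.residueField (h u)) (F.residueField u) _ _ (h.residueFieldMap u).hom.toAlgebra) :
    @Algebra.IsSeparable (S.residueField (f (p u))) (X.residueField (p u)) _ _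
      (f.residueFieldMap (p u)).hom.toAlgebra := by
  have e : f (p u) = q (h u) := by
    rw [← Scheme.Hom.comp_apply, hw, Scheme.Hom.comp_apply]
  let c := (S.residueFieldCongr e).hom ≫ q.residueFieldMap (h u)
  refine isSeparable_of_comm _ _ c.hom (p.residueFieldMap u).hom ?_ (residueFieldMap_bijective_of_isPreimmersion p u) ?_ hsep
  · exact (residueFieldMap_bijective_of_isPreimmersion q (h u)).comp
      (ConcreteCategory.bijective_of_isIso (S.residueFieldCongr e).hom)
  · have h1 := Scheme.Hom.residueFieldMap_congr hw u
    rw [Scheme.residueFieldMap_comp, Scheme.residueFieldMap_comp] at h1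
    exact congrArg CommRingCat.Hom.hom (((Category.assoc _ _ _).trans h1.symm) :
      c ≫ h.residueFieldMap u = f.residueFieldMap (p u) ≫ p.residueFieldMap u)

/-- A nonempty geometrically reduced scheme locally of finite type over a field has, in its smooth
locus, a closed point with separable residue field. -/
theorem exists_smooth_closed_separable {k : Type u} [Field k] {X : Scheme.{u}} (f : X ⟶ Spec (CommRingCat.of k))
    [LocallyOfFiniteType f] [LocallyOfFinitePresentation f] [GeometricallyReduced f] [Nonempty X] :
    ∃ u : X, u ∈ f.smoothLocus ∧ IsClosed ({u} : Set X) ∧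
      @Algebra.IsSeparable ((Spec (CommRingCat.of k)).residueField (f u)) (X.residueField u) _ _
        (f.residueFieldMap u).hom.toAlgebra := by
  letI : X.Over (Spec (CommRingCat.of k)) := ⟨f⟩
  have : IsReduced X := by
    have : IsReduced (Spec (CommRingCat.of k)) := inferInstance
    have : Flat f := inferInstance
    exact GeometricallyReduced.isReduced_of_flat_of_isLocallyNoetherian f
  haveI : LocallyOfFiniteType (X ↘ Spec (CommRingCat.of k)) := ‹LocallyOfFiniteType f›
  obtain ⟨U, hUd, hU⟩ := (S1549.result k X).1 ‹_›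
  letI : U.toScheme.Over (Spec (CommRingCat.of k)) := ⟨U.ι ≫ f⟩
  haveI : Smooth (U.toScheme ↘ Spec (CommRingCat.of k)) := hU
  obtain ⟨x₀, hx₀⟩ := hUd.nonempty
  have : Nonempty U.toScheme := ⟨⟨x₀, hx₀⟩⟩
  obtain ⟨v, ⟨hvc, -, hvs⟩⟩ := (S1550.result k U.toScheme).nonempty
  have : JacobsonSpace X := LocallyOfFiniteType.jacobsonSpace f
  refine ⟨U.ι v, (haveI : Smooth (U.ι ≫ f) := hU; SmDesc.mem_smoothLocus_of_smooth_ι f (U := U) v.2), ?_, ?_⟩
  · refine isClosed_singleton_of_isLocallyClosed_singleton ?_
    have := hvc.isLocallyClosed.image U.ι.isEmbedding.isInducing U.ι.isOpenEmbedding.isOpen_range.isLocallyClosed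
    rwa [Set.image_singleton] at this
  · let g := U.ι ≫ f
    have hv : @Algebra.IsSeparable ((Spec (CommRingCat.of k)).residueField (g v)) (U.toScheme.residueField v) _ _
        (g.residueFieldMap v).hom.toAlgebra := by
      let ev : k →+* (Spec (CommRingCat.of k)).residueField (g v) :=
        ((Spec (CommRingCat.of k)).Γevaluation (g v)).hom.comp (Scheme.ΓSpecIso (CommRingCat.of k)).inv.hom
      have hev : Function.Bijective ev := by
        refine ⟨ev.injective, fun c ↦ ?_⟩
        obtain ⟨a, s, hs, hc⟩ := UnibranchEtale.exists_evaluation_div (isAffineOpen_top (Spec (CommRingCat.of k)))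
          (g v) trivial c
        obtain ⟨a', ha⟩ := (ConcreteCategory.bijective_of_isIso (Scheme.ΓSpecIso (CommRingCat.of k)).inv).2 a
        obtain ⟨s', hs'⟩ := (ConcreteCategory.bijective_of_isIso (Scheme.ΓSpecIso (CommRingCat.of k)).inv).2 s
        have hev' : ∀ t, ev t = (Spec (CommRingCat.of k)).evaluation ⊤ (g v) trivial
          ((Scheme.ΓSpecIso (CommRingCat.of k)).inv t) := fun t ↦ rfl
        have hs0 : ev s' ≠ 0 := fun h ↦ hs (by
          rw [← UnibranchEtale.ker_evaluation (isAffineOpen_top _) (g v) trivial, RingHom.mem_ker, ← hs', ← hev']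
          exact h)
        refine ⟨s'⁻¹ * a', mul_left_cancel₀ hs0 ?_⟩
        rw [map_mul, map_inv₀, mul_inv_cancel_left₀ hs0, hev' s', hs', hev' a', ha]
        exact hc.symm
      letI := Curv2.resAlgebra k U.toScheme v
      have hb : Function.Bijective (RingEquiv.ofBijective ev hev).symm.toRingHom :=
        (RingEquiv.ofBijective ev hev).symm.bijective
      refine isSeparable_of_comm _ (algebraMap k (U.toScheme.residueField v))
        (RingEquiv.ofBijective ev hev).symm.toRingHom (RingHom.id _) hb Function.bijective_id ?_ hvs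
      refine RingHom.ext fun c ↦ ?_
      obtain ⟨t, rfl⟩ := hev.2 c
      show Curv2.resMap k U.toScheme v ((RingEquiv.ofBijective ev hev).symm (ev t)) = g.residueFieldMap v (ev t)
      rw [show (RingEquiv.ofBijective ev hev).symm (ev t) = t from (RingEquiv.ofBijective ev hev).symm_apply_apply t]
      show _ = g.residueFieldMap v ((Spec (CommRingCat.of k)).Γevaluation (g v) _)
      rw [Scheme.Γevaluation_naturality_apply g]
      rfl
    exact isSeparable_residue_of_square f g U.ι (𝟙 _) (Category.comp_id _).symm v hv

end Groth.Agent.RGDev
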