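import Groth.Agent.RG.Dev.SectionShrink
import Groth.Agent.RG.Dev.EtaleSlice
import Groth.Agent.RG.Dev.SepPoint
import Groth.Agent.S1353
import Groth.Prelude

/-!
# Étale localization making a fibre component geometrically connected
-/

set_option autoImplicit false

universe u

open CategoryTheory AlgebraicGeometry Limits TopologicalSpace
open Groth.Agent

namespace Groth.Agent.RGDev

/-- An open of a geometrically reduced morphism is geometrically reduced. -/
theorem geometricallyReduced_openImmersion_comp {U X S : Scheme.{u}} (j : U ⟶ X) [IsOpenImmersion j] (f : X ⟶ S)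
    [GeometricallyReduced f] : GeometricallyReduced (j ≫ f) := by
  rw [GeometricallyReduced.eq_geometrically]
  intro K _ y Z fst snd hZ
  have h1 : IsReduced (pullback f y) :=
    GeometricallyReduced.geometrically_isReduced y (pullback.fst f y) (pullback.snd f y) (.of_hasPullback _ _)
  let m : Z ⟶ pullback f y := pullback.lift (fst ≫ j) snd (by rw [Category.assoc]; exact hZ.w)
  have hm : IsPullback fst m j (pullback.fst f y) :=
    IsPullback.of_bot (by rw [show m ≫ pullback.snd f y = snd from pullback.lift_snd _ _ _]; exact hZ)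
      (pullback.lift_fst _ _ _).symm (IsPullback.of_hasPullback f y)
  have : IsOpenImmersion m := MorphismProperty.of_isPullback hm ‹_›
  exact isReduced_of_isOpenImmersion m

/-- A finite étale quasi-section through a smooth point with separable residue field after an
elementary étale localization of the base. -/
theorem exists_finite_quasiSection {X S : Scheme.{u}} (h : X ⟶ S) [Flat h] [LocallyOfFinitePresentation h]
    [GeometricallyReduced h] (s : S) [Nonempty (h.fiber s)] :
    ∃ (S₁ : Scheme.{u}) (c : S₁ ⟶ S) (s₁ : S₁) (Z : Scheme.{u}) (g : Z ⟶ S₁) (σ : Z ⟶ pullback h c),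
      IsAffine S₁ ∧ Hens2.IsEtaleNbhd c s₁ s ∧ IsFinite g ∧ Etale g ∧ σ ≫ pullback.snd h c = g ∧
        s₁ ∈ Set.range g := by
  have : GeometricallyReduced (h.fiberToSpecResidueField s) := MorphismProperty.pullback_snd _ _ ‹_›
  have : LocallyOfFiniteType (h.fiberToSpecResidueField s) := MorphismProperty.pullback_snd _ _ inferInstance
  have : LocallyOfFinitePresentation (h.fiberToSpecResidueField s) := MorphismProperty.pullback_snd _ _ ‹_›
  have : LocallyOfFiniteType (h.fiberToSpecResidueField s) := inferInstance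
  obtain ⟨u, husm, hucl, husep⟩ := @exists_smooth_closed_separable (S.residueField s) _ _ (h.fiberToSpecResidueField s)
    ‹_› ‹_› ‹_› ‹_›
  let x := h.fiberι s u
  have hxs : h x = s := (h.range_fiberι s).le ⟨u, rfl⟩
  have hxsm : x ∈ h.smoothLocus := SmDesc.mem_smoothLocus_of_flat_fibre u rfl husm
  have hxsep := isSeparable_residue_of_square h (h.fiberToSpecResidueField s) (h.fiberι s) (S.fromSpecResidueField s)
    pullback.condition u husep
  let hsm := h.smoothLocus.ι ≫ h
  have : Smooth hsm := SmDesc.smooth_smoothLocus h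
  let x' : h.smoothLocus.toScheme := ⟨x, hxsm⟩
  have hx'sep := isSeparable_residue_of_square hsm hsm (𝟙 _) (𝟙 _) (by simp) x' (by
    have h1 := Scheme.residueFieldMap_comp h.smoothLocus.ι h x'
    refine isSeparable_of_comm _ (h.residueFieldMap x).hom (RingHom.id _) (inv (h.smoothLocus.ι.residueFieldMap x')).hom
      Function.bijective_id ?_ ?_ hxsep
    · exact ConcreteCategory.bijective_of_isIso (inv (h.smoothLocus.ι.residueFieldMap x'))
    · refine congrArg CommRingCat.Hom.hom (?_ : h.residueFieldMap (h.smoothLocus.ι x') = hsm.residueFieldMap x' ≫ inv (h.smoothLocus.ι.residueFieldMap x'))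
      exact (IsIso.eq_comp_inv _).2 h1.symm)
  obtain ⟨Z₀, i, z, hi, hit, hiz, huniq⟩ := exists_etale_slice hsm x' hx'sep
  let σ₀ : Z₀ ⟶ X := i ≫ h.smoothLocus.ι
  let g₀ : Z₀ ⟶ S := σ₀ ≫ h
  have : Etale g₀ := by
    show Etale ((i ≫ h.smoothLocus.ι) ≫ h); rw [Category.assoc]; exact hit
  have : LocallyQuasiFinite g₀ := by
    refine ⟨fun {U} hU {W} hW e => ?_⟩
    have := HasRingHomProperty.appLE (P := @Etale) g₀ inferInstance ⟨U, hU⟩ ⟨W, hW⟩ e
    algebraize [(g₀.appLE U W e).hom]
    show @Algebra.QuasiFinite _ _ _ _ (g₀.appLE U W e).hom.toAlgebra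
    infer_instance
  have hgz : g₀ z = s := by
    show (σ₀ ≫ h) z = s
    rw [Scheme.Hom.comp_apply, Scheme.Hom.comp_apply, hiz]
    exact hxs
  obtain ⟨U, c, a, hc, V, v, hvV, hfin, hva, -, -, -⟩ := S1353.result g₀ z (g₀.quasiFiniteAt z)
  rw [hgz] at hc
  obtain ⟨A, hA, haA, -⟩ := exists_isAffineOpen_mem_and_subset (X := U) (U := ⊤) (x := a) trivial
  let pV : V.toScheme ⟶ U := V.ι ≫ pullback.snd g₀ c
  have : IsFinite pV := hfin
  have : Etale pV := by
    have : Etale (pullback.snd g₀ c) := MorphismProperty.pullback_snd _ _ ‹_›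
    show Etale (V.ι ≫ pullback.snd g₀ c); infer_instance
  refine ⟨A.toScheme, A.ι ≫ c, ⟨a, haA⟩, (pV ⁻¹ᵁ A).toScheme, pV ∣_ A,
    pullback.lift ((pV ⁻¹ᵁ A).ι ≫ V.ι ≫ pullback.fst g₀ c ≫ σ₀) (pV ∣_ A) ?_, hA, ⟨?_, hc.2, ?_⟩,
    MorphismProperty.of_isPullback (isPullback_morphismRestrict pV A).flip ‹_›,
    MorphismProperty.of_isPullback (isPullback_morphismRestrict pV A).flip ‹_›, pullback.lift_snd _ _ _, ?_⟩
  · rw [morphismRestrict_ι_assoc]
    simp only [Category.assoc, pV]
    rw [← pullback.condition]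
  · have := hc.etale; infer_instance
  · rw [Scheme.residueFieldMap_comp]
    exact (ConcreteCategory.bijective_of_isIso (A.ι.residueFieldMap ⟨a, haA⟩)).comp hc.residue_bijective
  · refine ⟨⟨⟨v, hvV⟩, ?_⟩, Subtype.ext ?_⟩
    · show pullback.snd g₀ c v ∈ A
      rw [hva]; exact haA
    · rw [morphismRestrict_base]
      exact hva

/-- The component through `T` of a fibre becomes, étale locally on the base, a fibre of a morphism
with geometrically connected fibres. -/
theorem exists_geomConn_nbhd {Y S : Scheme.{u}} (h : Y ⟶ S) [Flat h] [LocallyOfFinitePresentation h]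
    [QuasiCompact h] [QuasiSeparated h] [GeometricallyReduced h] (s : S) (T : (h.fiber s).Opens)
    (hT : GeometricallyConnected (T.ι ≫ h.fiberToSpecResidueField s)) :
    ∃ (S' : Scheme.{u}) (g : S' ⟶ S) (s' : S'), IsAffine S' ∧ Hens2.IsEtaleNbhd g s' s ∧
      ∃ V : (pullback h g).Opens, IsCompact (V : Set ↑(pullback h g)) ∧
        GeometricallyConnected (V.ι ≫ pullback.snd h g) ∧
        ∀ y' : ↑(pullback h g), pullback.snd h g y' = s' →
          (y' ∈ V ↔ pullback.fst h g y' ∈ (h.fiberι s) '' (T : Set ↑(h.fiber s))) := by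
  obtain ⟨V₀, hV₀, hsV₀, -⟩ := exists_isAffineOpen_mem_and_subset (X := S) (U := ⊤) (x := s) trivial
  -- a quasi-compact open with trace `T` on the fibre
  have : LocallyOfFiniteType (h.fiberToSpecResidueField s) := MorphismProperty.pullback_snd _ _ inferInstance
  have hTc : IsCompact (T : Set ↑(h.fiber s)) := by
    have : IsLocallyNoetherian (h.fiber s) := LocallyOfFiniteType.isLocallyNoetherian (h.fiberToSpecResidueField s)
    have : AlgebraicGeometry.IsNoetherian (h.fiber s) := {}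
    exact NoetherianSpace.isCompact _
  obtain ⟨W, hW, hWT⟩ := (h.fiberι s).isEmbedding.isInducing.isOpen_iff.mp T.2
  obtain ⟨t, ht⟩ := (hTc.image (h.fiberι s).continuous).elim_finite_subcover
    (fun A : {A : Y.affineOpens // ((A : Y.Opens) : Set Y) ⊆ W ∩ h ⁻¹' (V₀ : Set S)} ↦ ((A.1 : Y.Opens) : Set Y))
    (fun A ↦ (A.1 : Y.Opens).2) (by
      rintro _ ⟨r, hr, rfl⟩
      obtain ⟨_, ⟨A, hA, rfl⟩, hxA, hAW⟩ := Y.isBasis_affineOpens.exists_subset_of_mem_open
        (show h.fiberι s r ∈ W ∩ h ⁻¹' (V₀ : Set S) from ⟨hWT.ge hr, by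
          show h (h.fiberι s r) ∈ V₀
          rw [show h (h.fiberι s r) = s from (h.range_fiberι s).le ⟨r, rfl⟩]; exact hsV₀⟩)
        (hW.inter (V₀.2.preimage h.continuous))
      exact Set.mem_iUnion.mpr ⟨⟨⟨A, hA⟩, hAW⟩, hxA⟩)
  let O : Y.Opens := ⟨⋃ A ∈ t, ((A.1 : Y.Opens) : Set Y), isOpen_biUnion fun A _ ↦ (A.1 : Y.Opens).2⟩
  have hOc : IsCompact (O : Set Y) := t.isCompact_biUnion fun A _ ↦ A.1.2.isCompact
  have hOV : O ≤ h ⁻¹ᵁ V₀ := fun a ha ↦ by
    obtain ⟨A, -, haA⟩ := Set.mem_iUnion₂.mp ha; exact (A.2 haA).2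
  have hOT : h.fiberι s ⁻¹ᵁ O = T := TopologicalSpace.Opens.ext (Set.ext fun r ↦ ⟨fun hr ↦ by
    obtain ⟨A, -, hrA⟩ := Set.mem_iUnion₂.mp hr
    exact hWT.le (A.2 hrA).1, fun hr ↦ ht ⟨r, hr, rfl⟩⟩)
  let h₀ : O.toScheme ⟶ V₀.toScheme := Y.homOfLE hOV ≫ h ∣_ V₀
  have hh₀ : h₀ ≫ V₀.ι = O.ι ≫ h := by rw [Category.assoc, morphismRestrict_ι, Scheme.homOfLE_ι_assoc]
  have : IsAffine V₀.toScheme := hV₀
  have : CompactSpace O.toScheme := isCompact_iff_compactSpace.mp hOc
  have : QuasiCompact h₀ := (quasiCompact_iff_compactSpace h₀).mpr inferInstance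
  have : QuasiSeparated (h ∣_ V₀) := MorphismProperty.of_isPullback (isPullback_morphismRestrict h V₀).flip ‹_›
  have : QuasiSeparated h₀ := inferInstance
  have : GeometricallyReduced (h ∣_ V₀) := MorphismProperty.of_isPullback (isPullback_morphismRestrict h V₀).flip ‹_›
  have : GeometricallyReduced h₀ := geometricallyReduced_openImmersion_comp _ _
  let s₀ : V₀.toScheme := ⟨s, hsV₀⟩
  -- the fibre of the open is `T`
  have hsq₀ : IsPullback (𝟙 O.toScheme) h₀ (O.ι ≫ h) V₀.ι := by
    refine ⟨⟨by rw [Category.id_comp, hh₀]⟩, ⟨PullbackCone.IsLimit.mk _ (fun c ↦ c.fst) (fun c ↦ Category.comp_id _)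
      (fun c ↦ ?_) (fun c m h1 _ ↦ by simpa using h1)⟩⟩
    rw [← cancel_mono V₀.ι, Category.assoc, hh₀, c.condition]
  have hOconn : GeometricallyConnected ((O.ι ≫ h).fiberToSpecResidueField s) := by
    have hsq : IsPullback ((h.fiberι s) ∣_ O) (T.ι ≫ h.fiberToSpecResidueField s |> fun k ↦
        (h.fiber s).homOfLE hOT.le ≫ k) (O.ι ≫ h) (S.fromSpecResidueField s) := by
      have := ((isPullback_morphismRestrict (h.fiberι s) O).paste_vert (IsPullback.of_hasPullback h (S.fromSpecResidueField s)))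
      dsimp only [Scheme.Hom.fiberToSpecResidueField]
      simpa only [Scheme.homOfLE_ι_assoc] using this
    have hiso : IsIso ((h.fiber s).homOfLE hOT.le) := by
      refine ⟨(h.fiber s).homOfLE hOT.ge, ?_, ?_⟩ <;> simp
    show GeometricallyConnected (pullback.snd _ _)
    rw [← hsq.isoPullback_inv_snd]
    exact (MorphismProperty.cancel_left_of_respectsIso @GeometricallyConnected _ _).2
      ((MorphismProperty.cancel_left_of_respectsIso @GeometricallyConnected _ _).2 hT)
  have hs₀conn : GeometricallyConnected (h₀.fiberToSpecResidueField s₀) :=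
    (S9765.result (O.ι ≫ h) V₀.ι h₀ (𝟙 _) hsq₀).ge hOconn
  have hne : Nonempty (h₀.fiber s₀) := by
    have : ConnectedSpace ↥(h₀.fiber s₀) :=
      hs₀conn.geometrically_connectedSpace (𝟙 _) (𝟙 _) (h₀.fiberToSpecResidueField s₀) (IsPullback.id_horiz _)
    infer_instance
  -- the quasi-section and the open
  obtain ⟨S₁, c, s₁, Z, gZ, σ, hS₁, hc, hgfin, hget, hσ, hs₁⟩ := exists_finite_quasiSection h₀ s₀
  have hs₁conn : GeometricallyConnected ((pullback.snd h₀ c).fiberToSpecResidueField s₁) :=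
    (S9765.result h₀ c (pullback.snd h₀ c) (pullback.fst h₀ c) (IsPullback.of_hasPullback _ _)).ge
      (show GeometricallyConnected (h₀.fiberToSpecResidueField (c s₁)) by rw [hc.base_eq]; exact hs₀conn)
  obtain ⟨U, hUc, hUs, hUconn⟩ := exists_open_quasiSection (pullback.snd h₀ c) gZ σ hσ s₁ hs₁ hs₁conn
  -- shrink the base to the image
  let k : U.toScheme ⟶ S₁ := U.ι ≫ pullback.snd h₀ c
  have hs₁k : s₁ ∈ Set.range k := by
    have : ConnectedSpace ↥((pullback.snd h₀ c).fiber s₁) :=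
      hs₁conn.geometrically_connectedSpace (𝟙 _) (𝟙 _) ((pullback.snd h₀ c).fiberToSpecResidueField s₁) (IsPullback.id_horiz _)
    obtain ⟨r⟩ : Nonempty ↥((pullback.snd h₀ c).fiber s₁) := inferInstance
    have hr : pullback.snd h₀ c ((pullback.snd h₀ c).fiberι s₁ r) = s₁ :=
      ((pullback.snd h₀ c).range_fiberι s₁).le ⟨r, rfl⟩
    exact ⟨⟨_, hUs hr⟩, hr⟩
  obtain ⟨A, hA, hsA, hAk⟩ := exists_isAffineOpen_mem_and_subset (X := S₁) (U := ⟨_, k.isOpenMap.isOpen_range⟩)
    (x := s₁) hs₁k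
  let g : A.toScheme ⟶ S := A.ι ≫ c ≫ V₀.ι
  let j : pullback k A.ι ⟶ pullback h g :=
    pullback.lift (pullback.fst _ _ ≫ U.ι ≫ pullback.fst h₀ c ≫ O.ι) (pullback.snd _ _) (by
      simp only [g, Category.assoc, ← hh₀]
      have e1 := pullback.condition (f := h₀) (g := c)
      have e2 : pullback.fst k A.ι ≫ U.ι ≫ pullback.snd h₀ c = pullback.snd k A.ι ≫ A.ι := pullback.condition
      rw [reassoc_of% e1, reassoc_of% e2])
  let e := pullbackLeftPullbackSndIso h₀ c A.ι
  let j₁ : pullback k A.ι ⟶ pullback (pullback.snd h₀ c) A.ι :=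
    pullback.map _ _ _ _ U.ι (𝟙 _) (𝟙 _) (by simp [k]) (by simp)
  let j₂ : pullback h₀ (A.ι ≫ c) ⟶ pullback h g :=
    pullback.map _ _ _ _ O.ι (𝟙 _) V₀.ι hh₀ (by simp [g])
  have hjf : j ≫ pullback.fst h g = pullback.fst k A.ι ≫ U.ι ≫ pullback.fst h₀ c ≫ O.ι := pullback.lift_fst _ _ _
  have hjs : j ≫ pullback.snd h g = pullback.snd k A.ι := pullback.lift_snd _ _ _
  have hj₁f : j₁ ≫ pullback.fst (pullback.snd h₀ c) A.ι = pullback.fst k A.ι ≫ U.ι := pullback.lift_fst _ _ _
  have hj₁s : j₁ ≫ pullback.snd (pullback.snd h₀ c) A.ι = pullback.snd k A.ι ≫ 𝟙 _ := pullback.lift_snd _ _ _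
  have hj₂f : j₂ ≫ pullback.fst h g = pullback.fst h₀ (A.ι ≫ c) ≫ O.ι := pullback.lift_fst _ _ _
  have hj₂s : j₂ ≫ pullback.snd h g = pullback.snd h₀ (A.ι ≫ c) ≫ 𝟙 _ := pullback.lift_snd _ _ _
  have hj : j = j₁ ≫ e.hom ≫ j₂ := by
    apply pullback.hom_ext
    · simp only [e, hjf, Category.assoc, hj₂f, pullbackLeftPullbackSndIso_hom_fst_assoc, reassoc_of% hj₁f]
    · simp only [e, hjs, Category.assoc, hj₂s, Category.comp_id, pullbackLeftPullbackSndIso_hom_snd, hj₁s]
  have hjopen : IsOpenImmersion j := by rw [hj]; infer_instance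
  have hjsnd : j ≫ pullback.snd h g = pullback.snd k A.ι := pullback.lift_snd _ _ _
  have hconnk : GeometricallyConnected (pullback.snd k A.ι) := by
    rw [GeometricallyConnected.eq_geometrically, geometrically_iff_forall_fiberToSpecResidueField]
    intro a
    rw [← GeometricallyConnected.eq_geometrically]
    refine (S9765.result k A.ι (pullback.snd k A.ι) (pullback.fst k A.ι) (IsPullback.of_hasPullback _ _)).ge ?_
    obtain ⟨q, hq⟩ := hAk a.2
    exact hUconn _ ⟨q.1, q.2, hq⟩
  have : QuasiCompact k := by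
    have : CompactSpace U.toScheme := isCompact_iff_compactSpace.mp hUc
    exact (quasiCompact_iff_compactSpace k).mpr inferInstance
  have : IsAffine A.toScheme := hA
  have : CompactSpace ↥(pullback k A.ι) := QuasiCompact.compactSpace_of_compactSpace (pullback.snd k A.ι)
  refine ⟨A.toScheme, g, ⟨s₁, hsA⟩, hA, ⟨?_, ?_, ?_⟩, j.opensRange, ?_, ?_, fun y' hy' ↦ ?_⟩
  · have := hc.etale; infer_instance
  · show V₀.ι (c s₁) = s
    rw [hc.base_eq]; rfl
  · rw [Scheme.residueFieldMap_comp, Scheme.residueFieldMap_comp]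
    exact (ConcreteCategory.bijective_of_isIso (A.ι.residueFieldMap ⟨s₁, hsA⟩)).comp
      (hc.residue_bijective.comp (ConcreteCategory.bijective_of_isIso (V₀.ι.residueFieldMap (c s₁))))
  · rw [Scheme.Hom.coe_opensRange]; exact isCompact_range j.continuous
  · rw [← MorphismProperty.cancel_left_of_respectsIso @GeometricallyConnected j.isoOpensRange.hom,
      Scheme.Hom.isoOpensRange_hom_ι_assoc, hjsnd]
    exact hconnk
  · constructor
    · rintro ⟨q, rfl⟩
      rw [← Scheme.Hom.comp_apply, show j ≫ pullback.fst h g = _ from pullback.lift_fst _ _ _]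
      let o : O.toScheme := pullback.fst h₀ c (U.ι (pullback.fst k A.ι q))
      have ho : h o.1 = s := by
        have h1 : pullback.snd h g (j q) = ⟨s₁, hsA⟩ := hy'
        rw [← Scheme.Hom.comp_apply, hjsnd] at h1
        show (O.ι ≫ h) o = s
        have e2 : pullback.fst k A.ι ≫ U.ι ≫ pullback.fst h₀ c ≫ h₀ = pullback.snd k A.ι ≫ A.ι ≫ c := by
          rw [pullback.condition (f := h₀) (g := c)]
          have e3 : pullback.fst k A.ι ≫ U.ι ≫ pullback.snd h₀ c = pullback.snd k A.ι ≫ A.ι := pullback.condition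
          exact (reassoc_of% e3) c
        have e4 : (pullback.fst k A.ι ≫ U.ι ≫ pullback.fst h₀ c ≫ h₀) q = (pullback.snd k A.ι ≫ A.ι ≫ c) q := by
          rw [e2]
        simp only [Scheme.Hom.comp_apply] at e4
        rw [← hh₀, Scheme.Hom.comp_apply, show h₀ o = c (A.ι (pullback.snd k A.ι q)) from e4, h1]
        show V₀.ι (c s₁) = s
        rw [hc.base_eq]; rfl
      obtain ⟨r, hr⟩ := (h.range_fiberι s).ge ho
      refine ⟨r, hOT.le (show h.fiberι s r ∈ O by rw [hr]; exact o.2), hr.trans ?_⟩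
      rfl
    · rintro ⟨r, hr, hry⟩
      have hrO : h.fiberι s r ∈ O := hOT.ge hr
      let o : O.toScheme := ⟨_, hrO⟩
      have ho : h₀ o = c s₁ := Subtype.ext (by
        rw [hc.base_eq]
        show (h₀ ≫ V₀.ι) o = s
        rw [hh₀]
        exact (h.range_fiberι s).le ⟨r, rfl⟩)
      obtain ⟨p, hp⟩ : y' ∈ Set.range j₂ := by
        rw [Scheme.Pullback.range_map]
        exact ⟨by rw [Set.mem_preimage, O.range_ι, ← hry]; exact hrO, ⟨_, rfl⟩⟩
      let p₁ := e.inv p
      have hps : pullback.snd (pullback.snd h₀ c) A.ι p₁ = ⟨s₁, hsA⟩ := by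
        rw [← hy', ← hp, ← Scheme.Hom.comp_apply, ← Scheme.Hom.comp_apply]
        congr 2
        simp only [e, Category.assoc, hj₂s, Category.comp_id, pullbackLeftPullbackSndIso_inv_snd_snd]
      have hpU : pullback.fst (pullback.snd h₀ c) A.ι p₁ ∈ U := hUs (by
        show pullback.snd h₀ c _ = s₁
        rw [← Scheme.Hom.comp_apply, pullback.condition, Scheme.Hom.comp_apply, hps]; rfl)
      obtain ⟨q, hq⟩ : p₁ ∈ Set.range j₁ := by
        rw [Scheme.Pullback.range_map]
        exact ⟨by rw [U.range_ι]; exact hpU, ⟨_, rfl⟩⟩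
      refine ⟨q, ?_⟩
      rw [hj, Scheme.Hom.comp_apply, Scheme.Hom.comp_apply, hq, ← Scheme.Hom.comp_apply e.inv, Iso.inv_hom_id]
      exact hp

end Groth.Agent.RGDev
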