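import Groth.Agent.CMChart.AffineField
import Groth.Agent.RG.Dev.Shrink

/-!
# Quasi-finite coordinates at a point with purely transcendental image
-/

set_option autoImplicit false

universe u
open TensorProduct

namespace Groth.Agent.RG.Dev.Coords

theorem isAlgebraic_adjoin_of_fractions {K L : Type u} [Field K] [Field L] [Algebra K L] (s : Set L)
    (hs : ∀ z : L, ∃ c d, c ∈ s ∧ d ∈ s ∧ d ≠ 0 ∧ d * z = c) :
    Algebra.IsAlgebraic (Algebra.adjoin K s) L := by
  refine ⟨fun z ↦ ?_⟩
  obtain ⟨c, d, hc, hd, hd0, hz⟩ := hs z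
  let c' : Algebra.adjoin K s := ⟨c, Algebra.subset_adjoin hc⟩
  let d' : Algebra.adjoin K s := ⟨d, Algebra.subset_adjoin hd⟩
  refine ⟨Polynomial.C d' * Polynomial.X - Polynomial.C c', fun h ↦ hd0 ?_, ?_⟩
  · have h1 := congrArg (fun f => Polynomial.coeff f 1) h
    simp at h1
    exact congrArg Subtype.val h1
  · simp only [map_sub, map_mul, Polynomial.aeval_C, Polynomial.aeval_X]
    show d * z - c = 0
    rw [hz, sub_self]

theorem adjoin_range_eq_top_of_fractions {K L ι : Type u} [Field K] [Field L] [Algebra K L] (x : ι → L)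
    {P : Type u} [CommRing P] (f : P →+* L) (hf : ∀ a, f a ∈ IntermediateField.adjoin K (Set.range x))
    (hfrac : ∀ z : L, ∃ c d, f d ≠ 0 ∧ f d * z = f c) : IntermediateField.adjoin K (Set.range x) = ⊤ := by
  refine eq_top_iff.2 fun z _ ↦ ?_
  obtain ⟨c, d, hd, hz⟩ := hfrac z
  have : z = f c / f d := by rw [eq_div_iff hd, mul_comm]; exact hz
  rw [this]
  exact div_mem (hf c) (hf d)

theorem residueField_fractions {R : Type u} [CommRing R] (p : Ideal R) [p.IsPrime] (z : p.ResidueField) :
    ∃ c d, algebraMap R p.ResidueField d ≠ 0 ∧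
      algebraMap R p.ResidueField d * z = algebraMap R p.ResidueField c := by
  obtain ⟨c, d, hd, rfl⟩ := IsFractionRing.div_surjective (A := R ⧸ p) z
  obtain ⟨c, rfl⟩ := Ideal.Quotient.mk_surjective c
  obtain ⟨d, rfl⟩ := Ideal.Quotient.mk_surjective d
  have hd' : algebraMap R p.ResidueField d ≠ 0 := fun h ↦
    nonZeroDivisors.ne_zero hd (Ideal.Quotient.eq_zero_iff_mem.2 (Ideal.algebraMap_residueField_eq_zero.1 h))
  refine ⟨c, d, hd', ?_⟩
  rw [Ideal.algebraMap_quotient_residueField_mk, Ideal.algebraMap_quotient_residueField_mk, mul_div_cancel₀ _ hd']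

variable {R C : Type u} [CommRing R] [CommRing C] [Algebra R C] (p : Ideal R) [p.IsPrime]

/-- A polynomial over the residue field becomes, after scaling, the image of a polynomial over the ring. -/
theorem exists_lift_mvPolynomial {σ : Type u} (h : MvPolynomial σ p.ResidueField) :
    ∃ (a : p.ResidueField) (h₀ : MvPolynomial σ R), a ≠ 0 ∧
      MvPolynomial.map (algebraMap R p.ResidueField) h₀ = MvPolynomial.C a * h := by
  induction h using MvPolynomial.induction_on with
  | C z =>
    obtain ⟨c, d, hd, hz⟩ := residueField_fractions p z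
    exact ⟨_, MvPolynomial.C c, hd, by rw [MvPolynomial.map_C, ← map_mul, hz]⟩
  | add f g hf hg =>
    obtain ⟨a, f₀, ha, h₀⟩ := hf
    obtain ⟨b, g₀, hb, h₁⟩ := hg
    obtain ⟨ca, da, hda, hza⟩ := residueField_fractions p a
    obtain ⟨cb, db, hdb, hzb⟩ := residueField_fractions p b
    refine ⟨algebraMap R p.ResidueField ca * algebraMap R p.ResidueField cb,
      MvPolynomial.C (da * cb) * f₀ + MvPolynomial.C (db * ca) * g₀,
      mul_ne_zero (hza ▸ mul_ne_zero hda ha) (hzb ▸ mul_ne_zero hdb hb), ?_⟩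
    simp only [map_add, map_mul, MvPolynomial.map_C, h₀, h₁, ← hza, ← hzb]
    ring
  | mul_X f i hf =>
    obtain ⟨a, f₀, ha, h₀⟩ := hf
    exact ⟨a, f₀ * MvPolynomial.X i, ha, by rw [map_mul, h₀, MvPolynomial.map_X, mul_assoc]⟩

/-- Quasi-finite coordinates at a point of the fibre whose image has purely transcendental residue field. -/
theorem exists_coords [Algebra.FiniteType R C] (q : Ideal C) [q.IsPrime] [q.LiesOver p] (n : ℕ)
    (x : PrimeSpectrum (p.Fiber C))
    (hxq : x.asIdeal.comap (Algebra.TensorProduct.includeRight (R := R) (A := p.ResidueField) (B := C)).toRingHom = q)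
    (hn : FlatMor.localDim (PrimeSpectrum (p.Fiber C)) x = n) :
    ∃ φ : MvPolynomial (ULift.{u} (Fin n)) R →ₐ[R] C,
      (letI := φ.toRingHom.toAlgebra; Algebra.QuasiFiniteAt (MvPolynomial (ULift.{u} (Fin n)) R) q) ∧
      ∃ (_ : (q.comap φ.toRingHom).LiesOver p), FlatCA.PurelyTranscendental p (q.comap φ.toRingHom) := by
  classical
  let K := p.ResidueField
  let L := q.ResidueField
  letI : Algebra K L := (Ideal.ResidueField.mapₐ p q (Algebra.ofId R C) (q.over_def p)).toRingHom.toAlgebra
  haveI : IsScalarTower R K L := IsScalarTower.of_algebraMap_eq fun r ↦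
    ((Ideal.ResidueField.mapₐ p q (Algebra.ofId R C) (q.over_def p)).commutes r).symm
  haveI : IsNoetherianRing (p.Fiber C) := Algebra.FiniteType.isNoetherianRing K _
  let inc : C →+* p.Fiber C := (Algebra.TensorProduct.includeRight (R := R) (A := K) (B := C)).toRingHom
  -- the evaluation at the point
  let ψ : p.Fiber C →ₐ[K] L :=
    Algebra.TensorProduct.lift (Algebra.ofId K L) (IsScalarTower.toAlgHom R C L) fun _ _ ↦ .all _ _
  have hψ : ∀ c : C, ψ (inc c) = algebraMap C L c := fun c ↦ by
    show Algebra.TensorProduct.lift _ _ _ ((1 : K) ⊗ₜ[R] c) = _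
    rw [Algebra.TensorProduct.lift_tmul, map_one, one_mul]
    rfl
  have hker : RingHom.ker ψ.toRingHom = x.asIdeal := by
    refine congrArg PrimeSpectrum.asIdeal (FibreBij.fiber_point_ext p
      (q₁ := ⟨RingHom.ker ψ.toRingHom, RingHom.ker_isPrime _⟩) (q₂ := x) ?_)
    rw [hxq]
    ext c
    show ψ (inc c) = 0 ↔ _
    rw [hψ]
    exact Ideal.algebraMap_residueField_eq_zero
  -- dimension and transcendence degree
  obtain ⟨b, δ, hb, hD, hδ⟩ := CMChart.localDim_primeSpectrum (k := K) x
  have hnb : n = b + δ := by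
    rw [hn] at hD
    exact_mod_cast hD
  letI : Algebra K x.asIdeal.ResidueField := IsLocalRing.ResidueField.algebra (Localization.AtPrime x.asIdeal)
  let Φ := Ideal.ResidueField.liftₐ (R := K) x.asIdeal ψ hker.ge fun z (hz : z ∉ x.asIdeal) ↦
    isUnit_iff_ne_zero.2 fun h ↦ hz (hker ▸ h)
  have hΦ : Function.Bijective Φ := by
    refine ⟨RingHom.injective Φ.toRingHom, fun z ↦ ?_⟩
    obtain ⟨c, d, hd, hz⟩ := residueField_fractions q z
    refine ⟨algebraMap _ _ (inc c) / algebraMap _ _ (inc d), ?_⟩
    rw [map_div₀, Ideal.ResidueField.liftₐ_algebraMap, Ideal.ResidueField.liftₐ_algebraMap, hψ, hψ,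
      div_eq_iff hd, mul_comm]
    exact hz.symm
  have htr : Algebra.trdeg K L = (δ : Cardinal.{u}) := by
    rw [← hδ]
    exact (AlgEquiv.ofBijective Φ hΦ).trdeg_eq.symm
  -- a transcendence basis from the ring
  haveI : Algebra.IsAlgebraic (Algebra.adjoin K (Set.range (algebraMap C L))) L :=
    isAlgebraic_adjoin_of_fractions _ fun z ↦ by
      obtain ⟨c, d, hd, hz⟩ := residueField_fractions q z
      exact ⟨_, _, ⟨c, rfl⟩, ⟨d, rfl⟩, hd, hz⟩
  obtain ⟨T, hTs, hT⟩ := exists_isTranscendenceBasis_subset (R := K) (Set.range (algebraMap C L))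
  have hTcard : Cardinal.mk T = (δ : Cardinal.{u}) := hT.cardinalMk_eq_trdeg.trans htr
  obtain ⟨eT⟩ := Cardinal.mk_eq_nat_iff.1 hTcard
  choose t ht using fun j : Fin δ ↦ hTs (eT.symm j).2
  let tv : ULift.{u} (Fin δ) → L := fun j ↦ algebraMap C L (t j.down)
  have htb : IsTranscendenceBasis K tv := by
    have h1 := hT.comp_equiv ((Equiv.ulift).trans eT.symm)
    convert h1 using 1
    funext j
    exact ht j.down
  -- parameters
  obtain ⟨s, hsmin, hscard⟩ := Ideal.exists_finset_card_eq_height_of_isNoetherianRing x.asIdeal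
  have hsb : s.card = b := by
    have h1 := IsLocalization.AtPrime.ringKrullDim_eq_height x.asIdeal (Localization.AtPrime x.asIdeal)
    rw [hb, ← hscard] at h1
    exact_mod_cast h1.symm
  let es : Fin b ≃ s := (Fintype.equivFinOfCardEq ((Fintype.card_coe s).trans hsb)).symm
  choose r hr u hu using fun i : Fin b ↦ Ideal.Fiber.exists_smul_eq_one_tmul p (es i).1
  have hunit : ∀ r : R, r ∉ p → IsUnit (algebraMap R (p.Fiber C) r) := fun r hr ↦ by
    rw [IsScalarTower.algebraMap_apply R K (p.Fiber C)]
    exact (isUnit_iff_ne_zero.2 fun h ↦ hr (Ideal.algebraMap_residueField_eq_zero.1 h)).map _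
  -- the coordinates
  let e : ULift.{u} (Fin n) ≃ Fin δ ⊕ Fin b :=
    Equiv.ulift.trans ((finCongr (hnb.trans (add_comm b δ))).trans finSumFinEquiv.symm)
  let c : ULift.{u} (Fin n) → C := fun i ↦ Sum.elim t u (e i)
  let φ : MvPolynomial (ULift.{u} (Fin n)) R →ₐ[R] C := MvPolynomial.aeval c
  have huq : ∀ i, u i ∈ q := fun i ↦ by
    rw [← hxq, Ideal.mem_comap]
    show (1 : K) ⊗ₜ[R] u i ∈ x.asIdeal
    rw [← hu i, Algebra.smul_def]
    exact Ideal.mul_mem_left _ _ (hsmin.1.2 (Ideal.subset_span (es i).2))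
  have hy : (q.comap φ.toRingHom).LiesOver p := ⟨by
    rw [Ideal.under, Ideal.comap_comap, AlgHom.toRingHom_eq_coe, φ.comp_algebraMap]
    exact q.over_def p⟩
  refine ⟨φ, ?_, hy, ?_⟩
  · letI := φ.toRingHom.toAlgebra
    let P := MvPolynomial (ULift.{u} (Fin n)) R
    haveI : IsScalarTower R P C := IsScalarTower.of_algebraMap_eq fun r ↦ (φ.commutes r).symm
    haveI : Algebra.FiniteType P C := Algebra.FiniteType.of_restrictScalars_finiteType R P C
    let y : PrimeSpectrum P := PrimeSpectrum.comap (algebraMap P C) ⟨q, inferInstance⟩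
    -- points over `y` comparable with `q`
    have hpt : ∀ Q : PrimeSpectrum C, PrimeSpectrum.comap (algebraMap P C) Q = y →
        ∃ X : PrimeSpectrum (p.Fiber C), X.asIdeal.comap inc = Q.asIdeal := fun Q hQ ↦ by
      haveI : Q.asIdeal.LiesOver p := ⟨by
        rw [Ideal.under, IsScalarTower.algebraMap_eq R P C, ← Ideal.comap_comap,
          show Q.asIdeal.comap (algebraMap P C) = y.asIdeal from congrArg PrimeSpectrum.asIdeal hQ]
        exact hy.over⟩
      exact FibreBij.exists_fiber_point p Q.asIdeal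
    have hmem : ∀ (Q : PrimeSpectrum C), PrimeSpectrum.comap (algebraMap P C) Q = y → ∀ i, c i ∈ q → c i ∈ Q.asIdeal :=
      fun Q hQ i hi ↦ by
        have h1 : MvPolynomial.X i ∈ y.asIdeal := by show φ (MvPolynomial.X i) ∈ q; rw [MvPolynomial.aeval_X]; exact hi
        rw [← hQ] at h1
        have h2 : φ (MvPolynomial.X i) ∈ Q.asIdeal := h1
        rwa [MvPolynomial.aeval_X] at h2
    have hmin : ∀ Q : PrimeSpectrum C, PrimeSpectrum.comap (algebraMap P C) Q = y → Q.asIdeal ≤ q → q ≤ Q.asIdeal := by
      intro Q hQ hle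
      obtain ⟨X, hX⟩ := hpt Q hQ
      have hXx : X.asIdeal ≤ x.asIdeal := by
        rw [← Shrink.fiberIdeal_eq p X, ← Shrink.fiberIdeal_eq p x, hX, hxq]
        exact Ideal.map_mono hle
      have hsX : Ideal.span (s : Set (p.Fiber C)) ≤ X.asIdeal := by
        refine Ideal.span_le.2 fun a ha ↦ ?_
        obtain ⟨i, hi⟩ : ∃ i, (es i).1 = a := ⟨es.symm ⟨a, ha⟩, by rw [es.apply_symm_apply]⟩
        have h1 : u i ∈ Q.asIdeal := by
          have := hmem Q hQ (e.symm (Sum.inr i)) (by simpa [c] using huq i)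
          simpa [c] using this
        have h2 : (1 : K) ⊗ₜ[R] u i ∈ X.asIdeal := by rw [← hX] at h1; exact h1
        rw [← hu i, Algebra.smul_def] at h2
        rw [← hi]
        exact (Ideal.unit_mul_mem_iff_mem _ (hunit _ (hr i))).1 h2
      have hxX : x.asIdeal ≤ X.asIdeal := hsmin.2 ⟨X.isPrime, hsX⟩ hXx
      rw [← hxq, ← hX]
      exact Ideal.comap_mono hxX
    have hmax : ∀ Q : PrimeSpectrum C, PrimeSpectrum.comap (algebraMap P C) Q = y → q ≤ Q.asIdeal → Q.asIdeal ≤ q := by
      intro Q hQ hle f hf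
      by_contra hfq
      obtain ⟨X, hX⟩ := hpt Q hQ
      have hxX : x.asIdeal ≤ X.asIdeal := by
        rw [← Shrink.fiberIdeal_eq p X, ← Shrink.fiberIdeal_eq p x, hX, hxq]
        exact Ideal.map_mono hle
      have hf0 : algebraMap C L f ≠ 0 := fun h ↦ hfq (Ideal.algebraMap_residueField_eq_zero.1 h)
      haveI := htb.isAlgebraic
      obtain ⟨g, hg0, hg⟩ := (Algebra.IsAlgebraic.isAlgebraic (R := Algebra.adjoin K (Set.range tv))
        (algebraMap C L f)).exists_nonzero_coeff_and_aeval_eq_zero (mem_nonZeroDivisors_iff_ne_zero.2 hf0)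
      let γ : MvPolynomial (ULift.{u} (Fin δ)) K →ₐ[K] p.Fiber C := MvPolynomial.aeval fun j ↦ inc (t j.down)
      have hγ : ψ.comp γ = MvPolynomial.aeval tv :=
        MvPolynomial.algHom_ext fun j ↦ by simp [γ, tv, hψ]
      have hmemr : ∀ i, ∃ h, ψ (γ h) = (g.coeff i : L) := fun i ↦ by
        have h1 := (g.coeff i).2
        replace h1 : (g.coeff i : L) ∈ (MvPolynomial.aeval (R := K) tv).range :=
          (Algebra.adjoin_range_eq_range_aeval K tv).le h1
        obtain ⟨h, hh⟩ := h1
        exact ⟨h, (DFunLike.congr_fun hγ h).trans hh⟩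
      choose h hh using hmemr
      let E := ∑ i ∈ Finset.range (g.natDegree + 1), γ (h i) * inc f ^ i
      have hE : E ∈ X.asIdeal := by
        refine hxX ?_
        rw [← hker, RingHom.mem_ker]
        show ψ E = 0
        rw [← hg, Polynomial.aeval_eq_sum_range, map_sum]
        refine Finset.sum_congr rfl fun i _ ↦ ?_
        rw [map_mul, map_pow, hh, hψ, Algebra.smul_def]
        rfl
      have hfX : inc f ∈ X.asIdeal := by
        have : f ∈ X.asIdeal.comap inc := by rw [hX]; exact hf
        exact this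
      have h0X : γ (h 0) ∈ X.asIdeal := by
        have h1 : E = γ (h 0) + ∑ i ∈ Finset.range g.natDegree, γ (h (i + 1)) * inc f ^ (i + 1) := by
          show ∑ i ∈ Finset.range (g.natDegree + 1), γ (h i) * inc f ^ i = _
          rw [Finset.sum_range_succ', pow_zero, mul_one, add_comm]
        rw [h1] at hE
        refine (Ideal.add_mem_iff_left _ (Ideal.sum_mem _ fun i _ ↦ ?_)).1 hE
        rw [pow_succ', mul_comm (inc f), ← mul_assoc]
        exact Ideal.mul_mem_left _ _ hfX
      obtain ⟨a, h₀, ha, hh₀⟩ := exists_lift_mvPolynomial p (h 0)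
      let ρ : MvPolynomial (ULift.{u} (Fin δ)) R →ₐ[R] P := MvPolynomial.rename fun j ↦ e.symm (Sum.inl j.down)
      have hρ : inc (φ (ρ h₀)) = γ (MvPolynomial.map (algebraMap R K) h₀) := by
        have h1 : inc.comp (φ.comp ρ).toRingHom = γ.toRingHom.comp (MvPolynomial.map (algebraMap R K)) :=
          MvPolynomial.ringHom_ext
            (fun r ↦ by simp [inc, φ, ρ, γ, IsScalarTower.algebraMap_apply R K (p.Fiber C)]; rfl)
            (fun j ↦ by simp [inc, φ, ρ, γ, c])
        exact DFunLike.congr_fun h1 h₀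
      have h1 : φ (ρ h₀) ∈ Q.asIdeal := by
        rw [← hX, Ideal.mem_comap, hρ, hh₀, map_mul]
        exact Ideal.mul_mem_left _ _ h0X
      have h2 : ρ h₀ ∈ y.asIdeal := by rw [← hQ]; exact h1
      have h3 : φ (ρ h₀) ∈ q := h2
      have h4 : ψ (inc (φ (ρ h₀))) = 0 := by rw [hψ]; exact Ideal.algebraMap_residueField_eq_zero.2 h3
      rw [hρ, hh₀, map_mul, map_mul, hh, show γ (MvPolynomial.C a) = algebraMap K _ a from γ.commutes a,
        ψ.commutes, mul_eq_zero] at h4
      rcases h4 with h4 | h4
      · exact ha ((map_eq_zero _).1 h4)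
      · exact hg0 (Subtype.ext h4)
    -- isolated in its fibre
    refine Algebra.QuasiFiniteAt.of_isOpen_singleton_fiber ⟨q, inferInstance⟩ ?_
    let H := PrimeSpectrum.preimageHomeomorphFiber P C y
    haveI : IsNoetherianRing (y.asIdeal.Fiber C) := Algebra.FiniteType.isNoetherianRing y.asIdeal.ResidueField _
    haveI : IsJacobsonRing (y.asIdeal.Fiber C) := isJacobsonRing_of_finiteType (A := y.asIdeal.ResidueField)
    rw [← H.isOpen_image, Set.image_singleton]
    refine ((PrimeSpectrum.isOpen_singleton_tfae_of_isNoetherian_of_isJacobsonRing _).out 0 2 rfl rfl).2 ⟨?_, ?_⟩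
    · rw [← Set.image_singleton, H.isClosed_image]
      refine isClosed_of_closure_subset fun Q hQ ↦ ?_
      rw [closure_subtype, Set.image_singleton, ← PrimeSpectrum.le_iff_mem_closure] at hQ
      exact Subtype.ext (PrimeSpectrum.ext (le_antisymm (hmax Q.1 Q.2 hQ) hQ))
    · intro a a' haa ha'
      rw [Set.mem_singleton_iff] at ha'
      rw [ha'] at haa
      obtain ⟨Q', rfl⟩ := H.surjective a'
      have h1 := (PrimeSpectrum.le_iff_specializes _ _).2 ((H.isInducing.specializes_iff.1 haa).map continuous_subtype_val)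
      exact Set.mem_singleton_iff.2 (congrArg H (Subtype.ext (PrimeSpectrum.ext (le_antisymm h1 (hmin Q'.1 Q'.2 h1)))))
  · let y := q.comap φ.toRingHom
    let Ky := y.ResidueField
    let P := MvPolynomial (ULift.{u} (Fin n)) R
    letI : Algebra K Ky := (Ideal.ResidueField.mapₐ p y (Algebra.ofId R P) hy.over).toRingHom.toAlgebra
    haveI : IsScalarTower R K Ky := IsScalarTower.of_algebraMap_eq fun r ↦
      ((Ideal.ResidueField.mapₐ p y (Algebra.ofId R P) hy.over).commutes r).symm
    let emb₀ : Ky →ₐ[R] L := Ideal.ResidueField.mapₐ y q φ rfl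
    have hembK : ∀ k : K, emb₀ (algebraMap K Ky k) = algebraMap K L k := fun k ↦ by
      obtain ⟨c', d, hd, hz⟩ := residueField_fractions p k
      have key : ∀ r : R, emb₀ (algebraMap K Ky (algebraMap R p.ResidueField r)) =
          algebraMap K L (algebraMap R p.ResidueField r) := fun r ↦ by
        show emb₀ (algebraMap K Ky (algebraMap R K r)) = algebraMap K L (algebraMap R K r)
        rw [← IsScalarTower.algebraMap_apply, ← IsScalarTower.algebraMap_apply, AlgHom.commutes]
      have h1 := congrArg (fun w ↦ emb₀ (algebraMap K Ky w)) hz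
      have h2 := congrArg (algebraMap K L) hz
      simp only [map_mul, key] at h1 h2
      exact mul_left_cancel₀ ((map_ne_zero _).2 hd) (h1.trans h2.symm)
    let emb : Ky →ₐ[K] L := { emb₀ with commutes' := hembK }
    let xv : ULift.{u} (Fin δ) → Ky := fun j ↦ algebraMap P Ky (MvPolynomial.X (e.symm (Sum.inl j.down)))
    have hemb : ∀ f : P, emb (algebraMap P Ky f) = algebraMap C L (φ f) := fun f ↦ by
      show Ideal.ResidueField.map y q φ.toRingHom rfl (algebraMap P Ky f) = _
      exact Ideal.ResidueField.map_algebraMap ..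
    have hxv : emb ∘ xv = tv := by
      funext j
      simp [xv, hemb, φ, c, tv]
    have hind : AlgebraicIndependent K xv := by
      refine AlgebraicIndependent.of_comp emb ?_
      rw [hxv]; exact htb.1
    have hadj : IntermediateField.adjoin K (Set.range xv) = ⊤ := by
      refine adjoin_range_eq_top_of_fractions xv (algebraMap P Ky) ?_ fun z ↦ ?_
      · intro f
        induction f using MvPolynomial.induction_on with
        | C r =>
          rw [← MvPolynomial.algebraMap_eq, ← IsScalarTower.algebraMap_apply, IsScalarTower.algebraMap_apply R K Ky]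
          exact IntermediateField.algebraMap_mem _ _
        | add f g hf hg => rw [map_add]; exact add_mem hf hg
        | mul_X f i hf =>
          rw [map_mul]
          refine mul_mem hf ?_
          rcases hi : e i with j | j
          · refine IntermediateField.subset_adjoin K _ ⟨ULift.up j, ?_⟩
            show algebraMap P Ky (MvPolynomial.X (e.symm (Sum.inl j))) = _
            rw [← hi, e.symm_apply_apply]
          · have h0 : algebraMap P Ky (MvPolynomial.X i) = 0 := by
              refine Ideal.algebraMap_residueField_eq_zero.2 ?_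
              show φ (MvPolynomial.X i) ∈ q
              rw [MvPolynomial.aeval_X]
              simpa [c, hi] using huq j
            rw [h0]; exact zero_mem _
      · obtain ⟨c', d, hd, hz⟩ := residueField_fractions y z
        exact ⟨c', d, hd, hz⟩
    refine ⟨ULift.{u} (Fin δ), xv, ?_, hadj⟩
    rw [hind.isTranscendenceBasis_iff_isAlgebraic]
    refine isAlgebraic_adjoin_of_adjoin_top ?_
    exact hadj
where
  isAlgebraic_adjoin_of_adjoin_top {K L : Type u} [Field K] [Field L] [Algebra K L] {s : Set L}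
      (h : IntermediateField.adjoin K s = ⊤) : Algebra.IsAlgebraic (Algebra.adjoin K s) L := by
    refine ⟨fun z ↦ ?_⟩
    have hz : z ∈ IntermediateField.adjoin K s := h ▸ IntermediateField.mem_top
    obtain ⟨c, hc, d, hd, rfl⟩ := IntermediateField.mem_adjoin_iff_div.1 hz
    by_cases hd0 : d = 0
    · simp only [hd0, div_zero]; exact isAlgebraic_zero
    refine ⟨Polynomial.C ⟨d, hd⟩ * Polynomial.X - Polynomial.C ⟨c, hc⟩, fun h' ↦ hd0 ?_, ?_⟩
    · have h1 := congrArg (fun f => Polynomial.coeff f 1) h'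
      simp at h1
      exact congrArg Subtype.val h1
    · simp only [map_sub, map_mul, Polynomial.aeval_C, Polynomial.aeval_X]
      show d * (c / d) - c = 0
      rw [mul_div_cancel₀ _ hd0, sub_self]

end Groth.Agent.RG.Dev.Coords
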