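import Groth.Agent.RG.Dev.CorepIdeal
import Groth.Agent.RG.Dev.StepBC
import Groth.Agent.RG.Dev.FpIff

/-!
# The ideal cutting out flatness along a complete dévissage
-/

set_option autoImplicit false
set_option linter.style.haveILetI false
set_option backward.isDefEq.respectTransparency false

universe u

open scoped TensorProduct
open IsLocalRing Groth.Agent

namespace Groth.Agent.RG.Dev.Corep

/-- Flatness at points along a finite algebra. -/
theorem ptsFlat_iff_of_finite {R' S S' C : Type u} [CommRing R'] [IsLocalRing R'] [CommRing S] [CommRing S'] [CommRing C]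
    [Algebra S S'] [Algebra R' S'] [Algebra S' C] [Algebra R' C] [IsScalarTower R' S' C] [Module.Finite S' C]
    (q : Ideal S) (M' : Type u) [AddCommGroup M'] [Module C M'] [Module S' M'] [Module R' M'] [IsScalarTower S' C M']
    [IsScalarTower R' C M'] [IsScalarTower R' S' M'] :
    PtsFlat R' S' q M' ↔ ∀ (w z : Ideal C) (_ : w.IsPrime) (_ : z.IsPrime), w ≤ z →
      (z.comap (algebraMap S' C)).comap (algebraMap S S') = q → z.comap (algebraMap R' C) = maximalIdeal R' →
      Module.Flat R' (LocalizedModule w.primeCompl M') := by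
  constructor
  · intro h w z hw hz hwz hzq hzm
    haveI := h (z.comap (algebraMap S' C)) hzq
      (by rw [Ideal.comap_comap, ← IsScalarTower.algebraMap_eq, hzm])
    exact (InjFibre.flat_localized_comap_iff (A := R') (B := S') (C := C) _).1 this ⟨w, hw⟩
      fun s hs hm => hs (hwz hm)
  · intro h P _ hPq hPm
    refine (InjFibre.flat_localized_comap_iff (A := R') (B := S') (C := C) _).2 fun w hw => ?_
    have hwP : w.asIdeal.comap (algebraMap S' C) ≤ P := fun x hx => by
      by_contra hxP
      exact hw x hxP hx
    obtain ⟨z, hwz, hz, hzP⟩ := Ideal.exists_ideal_over_prime_of_isIntegral P w.asIdeal hwP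
    refine h w.asIdeal z inferInstance hz hwz (by rw [hzP, hPq]) ?_
    rw [IsScalarTower.algebraMap_eq R' S' C, ← Ideal.comap_comap, hzP, hPm]

variable {R : Type u} [CommRing R] [IsLocalRing R]

/-- The first step of a dévissage translates flatness at points to the smooth algebra. -/
theorem ptsFlat_step_iff {S : Type u} [CommRing S] [Algebra R S] {N : Type u} [AddCommGroup N] [Module S N]
    {q : Ideal S} [q.IsPrime] (s : Step1 R S N (maximalIdeal R) q)
    (R' S' : Type u) [CommRing R'] [IsLocalRing R'] [Algebra R R'] [CommRing S'] [Algebra R' S'] [Algebra S S']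
    [Algebra R S'] [IsScalarTower R R' S'] [IsScalarTower R S S'] [Algebra.IsPushout R R' S S'] :
    ∃ (B' : Type u) (_ : CommRing B') (_ : Algebra R' B') (_ : Algebra s.B B') (_ : Algebra R B')
      (_ : IsScalarTower R R' B') (_ : IsScalarTower R s.B B'), Algebra.IsPushout R R' s.B B' ∧
      (PtsFlat R' S' q (S' ⊗[S] N) ↔ PtsFlat R' B' s.qB (B' ⊗[s.B] s.M)) := by
  obtain ⟨A', B', _, _, _, _, _, _, _, _, _, _, _, _, _, _, _, _, _, _, _, _, _, _, pA, pB, pBA, pSA⟩ :=
    exists_pushouts (R := R) (S := S) (A := s.A) (B := s.B) (R' := R') (S' := S')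
  haveI := pA
  haveI := pB
  haveI := pBA
  haveI := pSA
  haveI := s.finiteBA
  haveI : Algebra.IsPushout S s.A S' A' := Algebra.IsPushout.symm inferInstance
  have hsurj : Function.Surjective (algebraMap S' A') :=
    @RingHom.surjective_isStableUnderBaseChange S s.A S' A' _ _ _ _ _ _ _ _ _ _ _ inferInstance s.surjSA
  haveI : Module.Finite S' A' := Module.Finite.of_surjective (Algebra.linearMap S' A') hsurj
  haveI : Module.Finite B' A' := Module.Finite.equiv (Algebra.IsPushout.equiv s.B B' s.A A').toLinearEquiv
  let M' := A' ⊗[s.A] s.M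
  haveI : IsScalarTower R' B' M' := IsScalarTower.of_algebraMap_smul fun r m => by
    rw [← algebraMap_smul A' (algebraMap R' B' r) m, ← IsScalarTower.algebraMap_apply R' B' A', algebraMap_smul]
  haveI : IsScalarTower R' S' M' := IsScalarTower.of_algebraMap_smul fun r m => by
    rw [← algebraMap_smul A' (algebraMap R' S' r) m, ← IsScalarTower.algebraMap_apply R' S' A', algebraMap_smul]
  let eS : S' ⊗[S] N ≃ₗ[S'] M' :=
    TensorProduct.AlgebraTensorModule.congr (LinearEquiv.refl S' S') s.isoN ≪≫ₗ
      (Algebra.IsPushout.cancelBaseChange S S' s.A A' s.M).symm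
  let eB : B' ⊗[s.B] s.M ≃ₗ[B'] M' := (Algebra.IsPushout.cancelBaseChange s.B B' s.A A' s.M).symm
  refine ⟨B', inferInstance, inferInstance, inferInstance, inferInstance, inferInstance, inferInstance, pB, ?_⟩
  rw [show PtsFlat R' S' q (S' ⊗[S] N) ↔ PtsFlat R' S' q M' from ⟨ptsFlat_congr eS, ptsFlat_congr eS.symm⟩,
    show PtsFlat R' B' s.qB (B' ⊗[s.B] s.M) ↔ PtsFlat R' B' s.qB M' from ⟨ptsFlat_congr eB, ptsFlat_congr eB.symm⟩,
    ptsFlat_iff_of_finite (C := A'), ptsFlat_iff_of_finite (C := A')]
  have key : ∀ (z : Ideal A') [z.IsPrime],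
      (z.comap (algebraMap S' A')).comap (algebraMap S S') = q ↔
        (z.comap (algebraMap B' A')).comap (algebraMap s.B B') = s.qB := by
    intro z _
    rw [Ideal.comap_comap, Ideal.comap_comap, ← IsScalarTower.algebraMap_eq, ← IsScalarTower.algebraMap_eq,
      IsScalarTower.algebraMap_eq S s.A A', IsScalarTower.algebraMap_eq s.B s.A A', ← Ideal.comap_comap,
      ← Ideal.comap_comap]
    constructor
    · intro h
      rw [Ideal.comap_injective_of_surjective _ s.surjSA (h.trans s.q0.symm)]
      exact s.overA.over.symm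
    · intro h
      rw [s.uniq (z.comap (algebraMap s.A A')) ⟨h.symm⟩]
      exact s.q0
  exact ⟨fun h w z hw hz hwz h1 h2 => haveI := hz; h w z hw hz hwz ((key z).2 h1) h2,
    fun h w z hw hz hwz h1 h2 => haveI := hz; h w z hw hz hwz ((key z).1 h1) h2⟩

/-- The middle module of a step of a finitely presented situation is finitely presented. -/
theorem step_fp {S : Type u} [CommRing S] [Algebra R S] {N : Type u} [AddCommGroup N] [Module S N]
    {q : Ideal S} [q.IsPrime] (s : Step1 R S N (maximalIdeal R) q) [Algebra.FinitePresentation R S]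
    [Module.FinitePresentation S N] : Module.FinitePresentation s.B s.M := by
  haveI := s.fpSA
  haveI := s.finiteBA
  haveI := s.smooth
  haveI : Module.Finite S s.A := Module.Finite.of_surjective (Algebra.linearMap S s.A) s.surjSA
  haveI : Algebra.FinitePresentation R s.A := Algebra.FinitePresentation.trans R S s.A
  haveI : Algebra.FinitePresentation s.B s.A :=
    Algebra.FinitePresentation.of_restrict_scalars_finitePresentation R s.B s.A
  haveI : Module.FinitePresentation s.B s.A := Module.FinitePresentation.of_finite_of_finitePresentation s.B s.A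
  haveI : Module.FinitePresentation S s.M := Module.FinitePresentation.of_equiv s.isoN
  exact fp_restrict_iff.2 (fp_of_restrict_finite (A := S) (B := s.A) (M := s.M) inferInstance)

/-- A complete dévissage at a point of the closed fibre provides an ideal cutting out flatness. -/
theorem exists_corep (n : ℕ) :
    ∀ {S : Type u} [CommRing S] [Algebra R S] {N : Type u} [AddCommGroup N] [Module S N] {q : Ideal S} [q.IsPrime],
      HasDevN R S N (maximalIdeal R) q n →
      ∃ I : Ideal R, CorepT R S q N I ∧
        (Algebra.FinitePresentation R S → Module.FinitePresentation S N → I.FG) := by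
  induction n with
  | zero =>
    intro S _ _ N _ _ q _ h
    obtain ⟨𝒟, h0, -⟩ := h
    exact absurd h0 (Nat.pos_iff_ne_zero.1 𝒟.pos)
  | succ k ih =>
    intro S _ _ N _ _ q _ h
    obtain ⟨s, h1, h2⟩ := exists_step1 h
    haveI := s.smooth
    obtain ⟨J, hJ, hJfg⟩ : ∃ J : Ideal R, CorepT R s.B s.qB (s.M ⧸ LinearMap.range s.α) J ∧
        (Module.FinitePresentation s.B s.M → J.FG) := by
      rcases Nat.eq_zero_or_pos k with rfl | hk
      · haveI : Subsingleton (s.M ⧸ LinearMap.range s.α) := by
          rw [Submodule.Quotient.subsingleton_iff, LinearMap.range_eq_top]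
          exact h1 rfl
        refine ⟨⊥, ?_, fun _ => Submodule.fg_bot⟩
        intro R' B' _ _ _ _ _ _ _ _ _ _ _
        haveI : Subsingleton (B' ⊗[s.B] (s.M ⧸ LinearMap.range s.α)) :=
          subsingleton_of_forall_eq 0 fun z => by
            induction z using TensorProduct.induction_on with
            | zero => rfl
            | tmul c x => rw [Subsingleton.elim x 0, TensorProduct.tmul_zero]
            | add a b ha hb => rw [ha, hb, add_zero]
        exact iff_of_true (fun P _ _ _ => inferInstance) (Ideal.map_bot)
      · obtain ⟨J, hJ, hJfg⟩ := ih (by simpa using h2 (by omega))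
        refine ⟨J, hJ, fun hfp => hJfg inferInstance ?_⟩
        haveI := hfp
        exact Module.finitePresentation_of_surjective (LinearMap.range s.α).mkQ (Submodule.mkQ_surjective _)
          (by rw [Submodule.ker_mkQ, LinearMap.range_eq_map]; exact Module.Finite.fg_top.map s.α)
    obtain ⟨I, hI, hIfg⟩ := corep_quot s.geomIrred s.qB s.α s.fibreIso J hJ
    refine ⟨I, ?_, fun hS hN => ?_⟩
    · intro R' S' _ _ _ _ _ _ _ _ _ _ _
      obtain ⟨B', _, _, _, _, _, _, hpo, hiff⟩ := ptsFlat_step_iff s R' S'
      haveI := hpo
      exact hiff.trans (hI R' B')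
    · haveI := step_fp s
      exact hIfg inferInstance (hJfg inferInstance)

end Groth.Agent.RG.Dev.Corep
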