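import Groth.Agent.RG.Dev.CorepStep
import Groth.Agent.RG.Dev.ClosedPoints

/-!
# The ideal cutting out flatness for one step of a dévissage
-/

set_option autoImplicit false
set_option linter.style.haveILetI false
set_option backward.isDefEq.respectTransparency false

universe u

open scoped TensorProduct
open IsLocalRing Groth.Agent AlgebraicGeometry CategoryTheory

namespace Groth.Agent.RG.Dev.Corep

/-- The ideal `I` cuts out the test rings over which the module is flat at the points over the closed points. -/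
def CorepT (R B : Type u) [CommRing R] [CommRing B] [Algebra R B] (qB : Ideal B) (X : Type u) [AddCommGroup X]
    [Module B X] (I : Ideal R) : Prop :=
  ∀ (R' B' : Type u) [CommRing R'] [IsLocalRing R'] [Algebra R R'] [IsLocalHom (algebraMap R R')] [CommRing B']
    [Algebra R' B'] [Algebra B B'] [Algebra R B'] [IsScalarTower R R' B'] [IsScalarTower R B B']
    [Algebra.IsPushout R R' B B'],
    PtsFlat R' B' qB (B' ⊗[B] X) ↔ I.map (algebraMap R R') = ⊥

/-- Flatness at points is carried along isomorphisms. -/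
theorem ptsFlat_congr {R' B B' : Type u} [CommRing R'] [IsLocalRing R'] [CommRing B] [CommRing B'] [Algebra B B']
    [Algebra R' B'] {qB : Ideal B} {M' N' : Type u} [AddCommGroup M'] [Module B' M'] [Module R' M']
    [IsScalarTower R' B' M'] [AddCommGroup N'] [Module B' N'] [Module R' N'] [IsScalarTower R' B' N']
    (e : M' ≃ₗ[B'] N') (h : PtsFlat R' B' qB M') : PtsFlat R' B' qB N' := by
  intro P _ h1 h2
  haveI := h P h1 h2
  exact Module.Flat.of_linearEquiv ((IsLocalizedModule.mapEquiv P.primeCompl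
    (LocalizedModule.mkLinearMap P.primeCompl N') (LocalizedModule.mkLinearMap P.primeCompl M')
    (Localization.AtPrime P) e.symm).restrictScalars R')

/-- There are points over a pair of primes with the same image. -/
theorem exists_point {R R' B B' : Type u} [CommRing R] [IsLocalRing R] [CommRing R'] [IsLocalRing R'] [CommRing B]
    [CommRing B'] [Algebra R R'] [IsLocalHom (algebraMap R R')] [Algebra R B] [Algebra R' B'] [Algebra B B']
    [Algebra R B'] [IsScalarTower R R' B'] [IsScalarTower R B B'] [Algebra.IsPushout R R' B B']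
    (qB : Ideal B) [qB.IsPrime] [qB.LiesOver (maximalIdeal R)] :
    ∃ P : Ideal B', P.IsPrime ∧ P.comap (algebraMap B B') = qB ∧ P.comap (algebraMap R' B') = maximalIdeal R' := by
  haveI : (maximalIdeal R').LiesOver (maximalIdeal R) := ⟨(IsLocalRing.maximalIdeal_comap (algebraMap R R')).symm⟩
  obtain ⟨s, hs, hsB, hsR⟩ := RG.Pure.exists_prime_both (maximalIdeal R) qB (maximalIdeal R')
  haveI : Algebra.IsPushout R B R' B' := Algebra.IsPushout.symm inferInstance
  let e := Algebra.IsPushout.equiv R B R' B'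
  haveI := hs
  refine ⟨Ideal.comap (e.symm : B' →+* B ⊗[R] R') s, Ideal.IsPrime.comap _, ?_, ?_⟩
  · rw [Ideal.comap_comap, ← hsB]
    congr 1
    ext b
    change e.symm (algebraMap B B' b) = _
    exact e.symm.commutes b
  · rw [Ideal.comap_comap, ← hsR]
    congr 1
    ext a
    change e.symm (algebraMap R' B' a) = _
    exact Algebra.IsPushout.equiv_symm_algebraMap_right R B R' B' a

section

variable {R B : Type u} [CommRing R] [CommRing B] [Algebra R B] [Algebra.Smooth R B]

/-- Base change of geometrically irreducible fibres. -/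
theorem geomIrred_baseChange (hirr : FlatCA.GeomIrredFibres R B) (R' B' : Type u) [CommRing R'] [CommRing B']
    [Algebra R R'] [Algebra R' B'] [Algebra B B'] [Algebra R B'] [IsScalarTower R R' B'] [IsScalarTower R B B']
    [Algebra.IsPushout R R' B B'] : FlatCA.GeomIrredFibres R' B' :=
  MorphismProperty.of_isPullback (P := @GeometricallyIrreducible)
    (isPullback_SpecMap_of_isPushout _ _ _ _ (CommRingCat.isPushout_of_isPushout R R' B B')).flip hirr

variable [IsLocalRing R] {M : Type u} [AddCommGroup M] [Module B M]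
  [((maximalIdeal R).map (algebraMap R B)).IsPrime]

/-- A bijection at the generic point stays one after base change. -/
theorem fibre_bijective (hirr : FlatCA.GeomIrredFibres R B) {r : ℕ} (α : (Fin r → B) →ₗ[B] M)
    (hfib : Function.Bijective (α.baseChange ((maximalIdeal R).map (algebraMap R B)).ResidueField))
    {R' B' : Type u} [CommRing R'] [IsLocalRing R'] [CommRing B'] [Algebra R R'] [IsLocalHom (algebraMap R R')]
    [Algebra R' B'] [Algebra B B'] [Algebra R B'] [IsScalarTower R R' B'] [IsScalarTower R B B']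
    [Algebra.IsPushout R R' B B'] :
    ∃ _ : ((maximalIdeal R').map (algebraMap R' B')).IsPrime,
      Function.Bijective ((DevBC.mapFree (LinearEquiv.refl B' (B' ⊗[B] M)) α).baseChange
        ((maximalIdeal R').map (algebraMap R' B')).ResidueField) := by
  haveI : Algebra.Smooth R' B' := Algebra.Smooth.of_equiv (Algebra.IsPushout.equiv R R' B B')
  haveI hpB : ((maximalIdeal R').map (algebraMap R' B')).IsPrime :=
    DevBC.map_isPrime (geomIrred_baseChange hirr R' B') _
  haveI : (maximalIdeal R').LiesOver (maximalIdeal R) := ⟨(IsLocalRing.maximalIdeal_comap (algebraMap R R')).symm⟩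
  haveI : Module.Flat R B := Algebra.Smooth.flat R B
  have hξ : (maximalIdeal R).map (algebraMap R B) =
      ((maximalIdeal R').map (algebraMap R' B')).comap (algebraMap B B') := (DevBC.comap_map_eq _ _).symm
  letI : Algebra ((maximalIdeal R).map (algebraMap R B)).ResidueField
      ((maximalIdeal R').map (algebraMap R' B')).ResidueField :=
    (Ideal.ResidueField.map _ _ (algebraMap B B') hξ).toAlgebra
  haveI : IsScalarTower B ((maximalIdeal R).map (algebraMap R B)).ResidueField
      ((maximalIdeal R').map (algebraMap R' B')).ResidueField :=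
    IsScalarTower.of_algebraMap_eq fun x => by
      rw [RingHom.algebraMap_toAlgebra, Ideal.ResidueField.map_algebraMap, ← IsScalarTower.algebraMap_apply]
  exact ⟨hpB, DevBC.baseChange_mapFree_bijective _ α _ _ hfib⟩

/-- Flatness at a point forces injectivity and flatness of the cokernel. -/
theorem point_injective (hirr : FlatCA.GeomIrredFibres R B) {r : ℕ} (α : (Fin r → B) →ₗ[B] M)
    (hfib : Function.Bijective (α.baseChange ((maximalIdeal R).map (algebraMap R B)).ResidueField))
    {R' B' : Type u} [CommRing R'] [IsLocalRing R'] [CommRing B'] [Algebra R R'] [IsLocalHom (algebraMap R R')]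
    [Algebra R' B'] [Algebra B B'] [Algebra R B'] [IsScalarTower R R' B'] [IsScalarTower R B B']
    [Algebra.IsPushout R R' B B'] (P : Ideal B') [P.IsPrime]
    (hP : P.comap (algebraMap R' B') = maximalIdeal R')
    (hflat : Module.Flat R' (LocalizedModule P.primeCompl (B' ⊗[B] M))) :
    Function.Injective (DevBC.mapFree (LinearEquiv.refl B' (B' ⊗[B] M)) α) ∧
      Module.Flat R' (LocalizedModule P.primeCompl
        ((B' ⊗[B] M) ⧸ LinearMap.range (DevBC.mapFree (LinearEquiv.refl B' (B' ⊗[B] M)) α))) := by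
  obtain ⟨hpB, hb⟩ := fibre_bijective hirr α hfib (R' := R') (B' := B')
  haveI := hpB
  haveI : Algebra.Smooth R' B' := Algebra.Smooth.of_equiv (Algebra.IsPushout.equiv R R' B B')
  haveI : Module.Projective R' B' := projective_of_smooth_geomIrred (geomIrred_baseChange hirr R' B')
  obtain ⟨h1, h2⟩ := univInj_and_flat_coker P (Ideal.map_le_iff_le_comap.2 hP.ge) hflat _ hb.1
  exact ⟨fun a b hab => injective_of_univInj h1 hab, h2⟩

end

/-- The ideal when the cokernel is already flat at the point. -/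
theorem exists_ideal_top {R B : Type u} [CommRing R] [IsLocalRing R] [CommRing B] [Algebra R B] [Algebra.Smooth R B]
    (hirr : FlatCA.GeomIrredFibres R B) (qB : Ideal B) [qB.IsPrime] [qB.LiesOver (maximalIdeal R)]
    [((maximalIdeal R).map (algebraMap R B)).IsPrime]
    {M : Type u} [AddCommGroup M] [Module B M] [Module R M] [IsScalarTower R B M] {r : ℕ} (α : (Fin r → B) →ₗ[B] M)
    (hfib : Function.Bijective (α.baseChange ((maximalIdeal R).map (algebraMap R B)).ResidueField))
    (hflat : Module.Flat R (LocalizedModule qB.primeCompl (M ⧸ LinearMap.range α))) :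
    ∃ I : Ideal R,
      (∀ (R' B' : Type u) [CommRing R'] [IsLocalRing R'] [Algebra R R'] [IsLocalHom (algebraMap R R')] [CommRing B']
        [Algebra R' B'] [Algebra B B'] [Algebra R B'] [IsScalarTower R R' B'] [IsScalarTower R B B']
        [Algebra.IsPushout R R' B B'],
        (PtsFlat R' B' qB (B' ⊗[B] M) → I.map (algebraMap R R') = ⊥) ∧
        (I.map (algebraMap R R') = ⊥ → PtsFlat R' B' qB (B' ⊗[B] (M ⧸ LinearMap.range α)) →
          PtsFlat R' B' qB (B' ⊗[B] M))) ∧
      (Module.FinitePresentation B M → I.FG) := by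
  classical
  haveI : Module.Projective R B := projective_of_smooth_geomIrred hirr
  haveI : Module.Projective R (Fin r → B) := by
    haveI : Module.Projective R (DirectSum (Fin r) fun _ => B) := inferInstance
    exact Module.Projective.of_equiv (DirectSum.linearEquivFunOnFintype R (Fin r) fun _ => B)
  obtain ⟨s, hs⟩ := RG.Loc.exists_coords (A := R) (Fin r → B)
  let I : Ideal R := Ideal.span (Set.range fun k : LinearMap.ker α × (Fin r → B) => s (k.1 : Fin r → B) k.2)
  have hI : ∀ (R' : Type u) [CommRing R'] [Algebra R R'],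
      I.map (algebraMap R R') = ⊥ ↔ ∀ k, α k = 0 → (1 : R') ⊗ₜ[R] k = 0 := by
    intro R' _ _
    rw [Ideal.map_span, Ideal.span_eq_bot]
    constructor
    · intro h k hk
      exact (RG.Loc.tmul_eq_zero_iff_coords s hs R' k).2 fun i => h _ ⟨_, ⟨(⟨k, hk⟩, i), rfl⟩, rfl⟩
    · rintro h _ ⟨_, ⟨⟨k, i⟩, rfl⟩, rfl⟩
      exact (RG.Loc.tmul_eq_zero_iff_coords s hs R' _).1 (h _ k.2) i
  refine ⟨I, ?_, ?_⟩
  · intro R' B' _ _ _ _ _ _ _ _ _ _ _
    refine ⟨fun hM => (hI R').2 fun k hk => ?_, fun hIR hC P _ hP hPm => ?_⟩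
    · obtain ⟨P, hP, hPq, hPm⟩ := exists_point (R := R) (R' := R') (B' := B') qB
      haveI := hP
      obtain ⟨hinj, -⟩ := point_injective hirr α hfib P hPm (hM P hPq hPm)
      have h0 : DevBC.mapFree (LinearEquiv.refl B' (B' ⊗[B] M)) α
          (TensorProduct.piScalarRight B B' B' (Fin r) ((1 : B') ⊗ₜ[B] k)) = 0 := by
        simp only [DevBC.mapFree, LinearMap.comp_apply, LinearEquiv.coe_coe, LinearEquiv.symm_apply_apply,
          LinearEquiv.refl_apply, LinearMap.baseChange_tmul, hk, TensorProduct.tmul_zero]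
      have h1 : (1 : B') ⊗ₜ[B] k = 0 :=
        (TensorProduct.piScalarRight B B' B' (Fin r)).map_eq_zero_iff.1 (hinj (h0.trans (map_zero _).symm))
      have h2 := congrArg (Algebra.IsPushout.cancelBaseChange R R' B B' (Fin r → B)) h1
      rwa [Algebra.IsPushout.cancelBaseChange_tmul, map_zero] at h2
    · haveI : Algebra.Smooth R' B' := Algebra.Smooth.of_equiv (Algebra.IsPushout.equiv R R' B B')
      haveI : Module.Flat R' B' := Algebra.Smooth.flat R' B'
      obtain ⟨e⟩ := DevBC.exists_coker_equiv (LinearEquiv.refl B' (B' ⊗[B] M)) α (LinearEquiv.refl B _)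
        (LinearEquiv.refl B' (B' ⊗[B] (M ⧸ LinearMap.range α)))
      exact flatAt_of_injective P (DevBC.mapFree (LinearEquiv.refl B' (B' ⊗[B] M)) α)
        (inj_point α qB hflat ((hI R').1 hIR) P hP) (ptsFlat_congr e.symm hC P hP hPm)
  · intro hfp
    haveI : Module.Flat R B := Algebra.Smooth.flat R B
    obtain ⟨K₀, ⟨T, hT⟩, hle, hK₀⟩ := exists_fg_ker α qB hflat
    let I₀ : Ideal R := Ideal.span ↑(T.biUnion fun k => (s k).support.image (s k))
    have hzero : ∀ k ∈ T, (1 : R ⧸ I₀) ⊗ₜ[R] k = 0 := fun k hk =>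
      (RG.Loc.tmul_eq_zero_iff_coords s hs (R ⧸ I₀) k).2 fun i => by
        rw [Ideal.Quotient.algebraMap_eq, Ideal.Quotient.eq_zero_iff_mem]
        by_cases hi : i ∈ (s k).support
        · exact Ideal.subset_span (Finset.mem_biUnion.2 ⟨k, hk, Finset.mem_image.2 ⟨i, hi, rfl⟩⟩)
        · rw [Finsupp.notMem_support_iff.1 hi]; exact I₀.zero_mem
    have hzero' : ∀ x ∈ K₀, (1 : R ⧸ I₀) ⊗ₜ[R] x = 0 := by
      intro x hx
      rw [← hT] at hx
      induction hx using Submodule.span_induction with
      | mem k hk => exact hzero k hk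
      | zero => exact TensorProduct.tmul_zero _ _
      | add a b _ _ ha hb => rw [TensorProduct.tmul_add, ha, hb, add_zero]
      | smul b a _ ha =>
        have h := congrArg (((LinearMap.lsmul B (Fin r → B) b).restrictScalars R).lTensor (R ⧸ I₀)) ha
        rwa [LinearMap.lTensor_tmul, map_zero] at h
    have hle' : I ≤ I₀ := by
      refine Ideal.span_le.2 ?_
      rintro _ ⟨⟨k, i⟩, rfl⟩
      obtain ⟨t, ht, htk⟩ := hK₀ (k : Fin r → B) k.2
      have hk0 : (1 : R ⧸ I₀) ⊗ₜ[R] (k : Fin r → B) = 0 := by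
        refine univInj_smul (geomIntegral_of_smooth hirr) R t (fun m hm => ⟨qB, inferInstance, ?_, ht⟩) r 1 (R ⧸ I₀) ?_
        · rw [Algebra.algebraMap_self, Ideal.comap_id, eq_maximalIdeal hm]
          exact (Ideal.LiesOver.over (P := qB) (p := maximalIdeal R)).symm
        · rw [LinearMap.lTensor_tmul, map_zero]
          simpa using hzero' _ htk
      have := (RG.Loc.tmul_eq_zero_iff_coords s hs (R ⧸ I₀) _).1 hk0 i
      rwa [Ideal.Quotient.algebraMap_eq, Ideal.Quotient.eq_zero_iff_mem] at this
    have hge : I₀ ≤ I := by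
      refine Ideal.span_le.2 fun a ha => ?_
      obtain ⟨k, hk, hka⟩ := Finset.mem_biUnion.1 ha
      obtain ⟨i, -, rfl⟩ := Finset.mem_image.1 hka
      exact Ideal.subset_span ⟨(⟨k, hle (hT ▸ Submodule.subset_span hk)⟩, i), rfl⟩
    exact le_antisymm hle' hge ▸ ⟨_, rfl⟩

/-- A base change to a quotient of the base. -/
theorem exists_quot_bc {R : Type u} [CommRing R] (J : Ideal R) (B : Type u) [CommRing B] [Algebra R B] :
    ∃ (B₁ : Type u) (_ : CommRing B₁) (_ : Algebra (R ⧸ J) B₁) (_ : Algebra B B₁) (_ : Algebra R B₁)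
      (_ : IsScalarTower R (R ⧸ J) B₁) (_ : IsScalarTower R B B₁),
      Algebra.IsPushout R (R ⧸ J) B B₁ ∧ Function.Surjective (algebraMap B B₁) := by
  letI : Algebra B ((R ⧸ J) ⊗[R] B) := Algebra.TensorProduct.rightAlgebra
  exact ⟨(R ⧸ J) ⊗[R] B, inferInstance, inferInstance, inferInstance, inferInstance, inferInstance, inferInstance,
    inferInstance, TensorProduct.mk_surjective R B (R ⧸ J) Ideal.Quotient.mk_surjective⟩

/-- Restricting the test rings to those over a quotient. -/
theorem corep_quot {R B : Type u} [CommRing R] [IsLocalRing R] [CommRing B] [Algebra R B] [Algebra.Smooth R B]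
    (hirr : FlatCA.GeomIrredFibres R B) (qB : Ideal B) [qB.IsPrime] [qB.LiesOver (maximalIdeal R)]
    [((maximalIdeal R).map (algebraMap R B)).IsPrime]
    {M : Type u} [AddCommGroup M] [Module B M] [Module R M] [IsScalarTower R B M] {r : ℕ} (α : (Fin r → B) →ₗ[B] M)
    (hfib : Function.Bijective (α.baseChange ((maximalIdeal R).map (algebraMap R B)).ResidueField))
    (J : Ideal R) (hJ : CorepT R B qB (M ⧸ LinearMap.range α) J) :
    ∃ I : Ideal R, CorepT R B qB M I ∧ (Module.FinitePresentation B M → J.FG → I.FG) := by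
  have hJm : J ≤ maximalIdeal R := by
    letI := Ideal.Quotient.field (maximalIdeal R)
    let κ := R ⧸ maximalIdeal R
    haveI : IsLocalHom (algebraMap R κ) := IsLocalHom.of_surjective _ Ideal.Quotient.mk_surjective
    obtain ⟨B₂, _, _, _, _, _, _, hpo₂, -⟩ := exists_quot_bc (maximalIdeal R) B
    haveI := hpo₂
    have h := (hJ κ B₂).1 fun P _ _ _ => Module.Flat.of_free
    rwa [Ideal.map_eq_bot_iff_le_ker, Ideal.Quotient.algebraMap_eq, Ideal.mk_ker] at h
  haveI : Nontrivial (R ⧸ J) := Ideal.Quotient.nontrivial_iff.2 fun h => (maximalIdeal.isMaximal R).ne_top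
    (top_le_iff.1 (h ▸ hJm))
  haveI : IsLocalRing (R ⧸ J) := IsLocalRing.of_surjective' _ Ideal.Quotient.mk_surjective
  haveI : IsLocalHom (algebraMap R (R ⧸ J)) :=
    IsLocalHom.of_surjective _ Ideal.Quotient.mk_surjective
  obtain ⟨B₁, _, _, _, _, _, _, hpo, hsurj⟩ := exists_quot_bc J B
  haveI := hpo
  obtain ⟨P₁, hP₁, hP₁q, hP₁m⟩ := exists_point (R := R) (R' := R ⧸ J) (B' := B₁) qB
  haveI := hP₁
  haveI : P₁.LiesOver (maximalIdeal (R ⧸ J)) := ⟨hP₁m.symm⟩
  haveI : Algebra.Smooth (R ⧸ J) B₁ := Algebra.Smooth.of_equiv (Algebra.IsPushout.equiv R (R ⧸ J) B B₁)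
  have hirr₁ := geomIrred_baseChange hirr (R ⧸ J) B₁
  obtain ⟨hp₁, hfib₁⟩ := fibre_bijective hirr α hfib (R' := R ⧸ J) (B' := B₁)
  haveI := hp₁
  let α₁ := DevBC.mapFree (LinearEquiv.refl B₁ (B₁ ⊗[B] M)) α
  obtain ⟨ec⟩ := DevBC.exists_coker_equiv (LinearEquiv.refl B₁ (B₁ ⊗[B] M)) α (LinearEquiv.refl B _)
    (LinearEquiv.refl B₁ (B₁ ⊗[B] (M ⧸ LinearMap.range α)))
  have hflat₁ : Module.Flat (R ⧸ J) (LocalizedModule P₁.primeCompl ((B₁ ⊗[B] M) ⧸ LinearMap.range α₁)) :=
    ptsFlat_congr ec.symm ((hJ (R ⧸ J) B₁).2 (Ideal.map_quotient_self J)) P₁ hP₁q hP₁m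
  obtain ⟨I₁, h₁, hfg₁⟩ := exists_ideal_top hirr₁ P₁ α₁ hfib₁ hflat₁
  refine ⟨I₁.comap (Ideal.Quotient.mk J), ?_, ?_⟩
  · intro R' B' _ _ _ _ _ _ _ _ _ _ _
    have hJI : J ≤ I₁.comap (Ideal.Quotient.mk J) := fun x hx => by
      rw [Ideal.mem_comap, Ideal.Quotient.eq_zero_iff_mem.2 hx]
      exact zero_mem _
    have key : J.map (algebraMap R R') = ⊥ →
        (PtsFlat R' B' qB (B' ⊗[B] M) → (I₁.comap (Ideal.Quotient.mk J)).map (algebraMap R R') = ⊥) ∧
        ((I₁.comap (Ideal.Quotient.mk J)).map (algebraMap R R') = ⊥ →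
          PtsFlat R' B' qB (B' ⊗[B] (M ⧸ LinearMap.range α)) → PtsFlat R' B' qB (B' ⊗[B] M)) := by
      intro hJ0
      rw [Ideal.map_eq_bot_iff_le_ker] at hJ0
      letI : Algebra (R ⧸ J) R' := (Ideal.Quotient.lift J (algebraMap R R') fun x hx => hJ0 hx).toAlgebra
      haveI : IsScalarTower R (R ⧸ J) R' := IsScalarTower.of_algebraMap_eq fun x =>
        (Ideal.Quotient.lift_mk (a := x) J (algebraMap R R') fun x hx => hJ0 hx).symm
      haveI : IsLocalHom (algebraMap (R ⧸ J) R') := by
        refine ⟨fun y hy => ?_⟩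
        obtain ⟨x, rfl⟩ := Ideal.Quotient.mk_surjective y
        rw [← Ideal.Quotient.algebraMap_eq, ← IsScalarTower.algebraMap_apply] at hy
        exact (isUnit_of_map_unit (algebraMap R R') x hy).map _
      obtain ⟨_, _, _, _, _, hp⟩ :=
        exists_pushout_tower (A := R) (B := R ⧸ J) (C := R') (A' := B) (B' := B₁) (C' := B')
      haveI := hp
      have hpts : ∀ (X' : Type u) [AddCommGroup X'] [Module B' X'] [Module R' X'] [IsScalarTower R' B' X'],
          PtsFlat R' B' qB X' ↔ PtsFlat R' B' P₁ X' := fun X' _ _ _ _ => by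
        refine ⟨fun h P _ h1 h2 => h P ?_ h2, fun h P _ h1 h2 => h P ?_ h2⟩
        · rw [IsScalarTower.algebraMap_eq B B₁ B', ← Ideal.comap_comap, h1, hP₁q]
        · refine Ideal.comap_injective_of_surjective _ hsurj ?_
          rw [Ideal.comap_comap, ← IsScalarTower.algebraMap_eq B B₁ B', h1, hP₁q]
      obtain ⟨ha, hb⟩ := h₁ R' B'
      have hmap : (I₁.comap (Ideal.Quotient.mk J)).map (algebraMap R R') = I₁.map (algebraMap (R ⧸ J) R') := by
        rw [IsScalarTower.algebraMap_eq R (R ⧸ J) R', ← Ideal.map_map, Ideal.Quotient.algebraMap_eq,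
          Ideal.map_comap_of_surjective _ Ideal.Quotient.mk_surjective]
      let eM := TensorProduct.AlgebraTensorModule.cancelBaseChange B B₁ B' B' M
      let eC := (TensorProduct.AlgebraTensorModule.congr (LinearEquiv.refl B' B') ec).trans
        (TensorProduct.AlgebraTensorModule.cancelBaseChange B B₁ B' B' (M ⧸ LinearMap.range α))
      rw [hmap]
      exact ⟨fun h => ha (ptsFlat_congr eM.symm ((hpts _).1 h)),
        fun h0 hc => (hpts _).2 (ptsFlat_congr eM (hb h0 (ptsFlat_congr eC.symm ((hpts _).1 hc))))⟩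
    constructor
    · intro hM
      have hC : PtsFlat R' B' qB (B' ⊗[B] (M ⧸ LinearMap.range α)) := fun P _ h1 h2 => by
        obtain ⟨e⟩ := DevBC.exists_coker_equiv (LinearEquiv.refl B' (B' ⊗[B] M)) α (LinearEquiv.refl B _)
          (LinearEquiv.refl B' (B' ⊗[B] (M ⧸ LinearMap.range α)))
        haveI := (point_injective hirr α hfib P h2 (hM P h1 h2)).2
        exact Module.Flat.of_linearEquiv ((IsLocalizedModule.mapEquiv P.primeCompl
          (LocalizedModule.mkLinearMap P.primeCompl _) (LocalizedModule.mkLinearMap P.primeCompl _)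
          (Localization.AtPrime P) e).restrictScalars R').symm
      exact (key ((hJ R' B').1 hC)).1 hM
    · intro h0
      have hJ0 : J.map (algebraMap R R') = ⊥ := le_bot_iff.1 (h0 ▸ Ideal.map_mono hJI)
      exact (key hJ0).2 h0 ((hJ R' B').2 hJ0)
  · intro hfp hJfg
    haveI := hfp
    refine Submodule.fg_of_fg_map_of_fg_inf_ker (Algebra.linearMap R (R ⧸ J)) ?_ ?_
    · have h : Submodule.map (Algebra.linearMap R (R ⧸ J)) (I₁.comap (Ideal.Quotient.mk J)) =
          I₁.restrictScalars R :=
        Submodule.map_comap_eq_of_surjective (f := Algebra.linearMap R (R ⧸ J)) Ideal.Quotient.mk_surjective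
          (I₁.restrictScalars R)
      rw [h]
      exact Submodule.FG.restrictScalars_of_surjective (hfg₁ inferInstance) Ideal.Quotient.mk_surjective
    · have hker : LinearMap.ker (Algebra.linearMap R (R ⧸ J)) = J := by
        ext x; simp [Ideal.Quotient.eq_zero_iff_mem]
      rw [hker, inf_eq_right.2 fun x hx => by
        rw [Ideal.mem_comap, Ideal.Quotient.eq_zero_iff_mem.2 hx]; exact zero_mem _]
      exact hJfg

end Groth.Agent.RG.Dev.Corep
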