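import Groth.Agent.RG.Dev.GenericFree

/-!
Conditions equivalent to flatness for maps from free modules bijective at the generic point of a fibre.
-/

set_option autoImplicit false
set_option linter.style.haveILetI false
set_option backward.isDefEq.respectTransparency false

universe u

open TensorProduct

namespace Groth.Agent.RG.Dev

variable {R S : Type u} [CommRing R] [CommRing S] [Algebra R S] {N : Type u} [AddCommGroup N] [Module S N]

theorem mk_eq_zero_iff {X : Type u} [AddCommGroup X] [Module S X] {U : Submonoid S} {x : X} {s : U} :
    LocalizedModule.mk x s = 0 ↔ ∃ u ∈ U, u • x = 0 := by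
  rw [← LocalizedModule.zero_mk (1 : U), LocalizedModule.mk_eq]
  simp [Subtype.exists, Submonoid.smul_def]

/-- injectivity of a localised map, elementwise -/
theorem map_injective_of {X : Type u} [AddCommGroup X] [Module S X] (U : Submonoid S) (α : X →ₗ[S] N)
    (h : ∀ x, α x = 0 → ∃ u ∈ U, u • x = 0) : Function.Injective (LocalizedModule.map U α) := by
  rw [injective_iff_map_eq_zero]
  intro z hz
  induction z using LocalizedModule.induction_on with
  | _ x s =>
    rw [LocalizedModule.map_mk, mk_eq_zero_iff] at hz
    obtain ⟨u, hu, hux⟩ := hz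
    obtain ⟨v, hv, hvx⟩ := h (u • x) (by rw [map_smul]; exact hux)
    exact mk_eq_zero_iff.2 ⟨v * u, mul_mem hv hu, by rw [mul_smul, hvx]⟩

theorem of_map_injective {X : Type u} [AddCommGroup X] [Module S X] {U : Submonoid S} {α : X →ₗ[S] N}
    (h : Function.Injective (LocalizedModule.map U α)) (x : X) (hx : α x = 0) : ∃ u ∈ U, u • x = 0 := by
  have h1 : LocalizedModule.mk x (1 : U) = 0 := h (by
    rw [LocalizedModule.map_mk, hx, map_zero, LocalizedModule.zero_mk])
  exact mk_eq_zero_iff.1 h1

/-- surjectivity of the localised map at the generic point -/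
theorem map_surjective_generic (ξ : Ideal S) [ξ.IsPrime] [Module.Finite S N] {r : ℕ} (α : (Fin r → S) →ₗ[S] N)
    (hα : Function.Surjective (α.baseChange ξ.ResidueField)) :
    Function.Surjective (LocalizedModule.map ξ.primeCompl α) := by
  let C := N ⧸ LinearMap.range α
  have hC : ∀ c : C, ∃ u ∈ ξ.primeCompl, u • c = 0 := by
    have h0 : Subsingleton (ξ.ResidueField ⊗[S] C) := by
      refine ⟨fun a b => ?_⟩
      suffices ∀ z : ξ.ResidueField ⊗[S] C, z = 0 by rw [this a, this b]
      intro z
      obtain ⟨w, rfl⟩ := LinearMap.baseChange_surjective ξ.ResidueField (Submodule.mkQ_surjective (LinearMap.range α)) z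
      obtain ⟨v, rfl⟩ := hα w
      have hcomp : ((LinearMap.range α).mkQ.baseChange ξ.ResidueField).comp (α.baseChange ξ.ResidueField) = 0 := by
        rw [← LinearMap.baseChange_comp, LinearMap.range_mkQ_comp, LinearMap.baseChange_zero]
      exact LinearMap.congr_fun hcomp v
    have h1 : (⟨ξ, inferInstance⟩ : PrimeSpectrum S) ∉ Module.support S C := fun hm =>
      not_nontrivial_iff_subsingleton.2 h0 ((Module.mem_support_iff_nontrivial_residueField_tensorProduct _).1 hm)
    intro c
    obtain ⟨u, hu, huc⟩ := Module.notMem_support_iff'.1 h1 c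
    exact ⟨u, hu, huc⟩
  intro z
  induction z using LocalizedModule.induction_on with
  | _ n s =>
    obtain ⟨u, hu, hun⟩ := hC ((LinearMap.range α).mkQ n)
    rw [← map_smul, Submodule.mkQ_apply, Submodule.Quotient.mk_eq_zero] at hun
    obtain ⟨x, hx⟩ := hun
    refine ⟨LocalizedModule.mk x (⟨u, hu⟩ * s), ?_⟩
    rw [LocalizedModule.map_mk, hx, ← Submonoid.smul_def (⟨u, hu⟩ : ξ.primeCompl), LocalizedModule.mk_cancel_common_left]

variable [Module R N] [IsScalarTower R S N]

/-- flatness at a point from injectivity there and flatness of the cokernel there -/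
theorem flatAt_of_injective [Module.Flat R S] (q : Ideal S) [q.IsPrime] {r : ℕ} (α : (Fin r → S) →ₗ[S] N)
    (hinj : Function.Injective (LocalizedModule.map q.primeCompl α))
    (hC : Module.Flat R (LocalizedModule q.primeCompl (N ⧸ LinearMap.range α))) :
    Module.Flat R (LocalizedModule q.primeCompl N) := by
  haveI : Module.Flat R (Fin r → S) :=
    Module.Flat.of_linearEquiv (DirectSum.linearEquivFunOnFintype R (Fin r) fun _ => S).symm
  haveI : Module.Flat R (LocalizedModule q.primeCompl (Fin r → S)) :=
    InjFibre.flat_localized q.primeCompl (LocalizedModule.mkLinearMap q.primeCompl _)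
  haveI := hC
  have hex := LocalizedModule.map_exact q.primeCompl α (LinearMap.range α).mkQ (LinearMap.exact_map_mkQ_range α)
  have hsurj : Function.Surjective (LocalizedModule.map q.primeCompl (LinearMap.range α).mkQ) :=
    LocalizedModule.map_surjective q.primeCompl _ (Submodule.mkQ_surjective _)
  exact FlatSES.flat_middle (f := (LocalizedModule.map q.primeCompl α).restrictScalars R)
    (g := (LocalizedModule.map q.primeCompl (LinearMap.range α).mkQ).restrictScalars R) hinj hex hsurj

theorem injective_of_univInj {X Y : Type u} [AddCommGroup X] [Module R X] [AddCommGroup Y] [Module R Y]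
    {f : X →ₗ[R] Y} (h : FlatCA.UnivInj R f) : Function.Injective f := by
  intro a b hab
  refine (TensorProduct.lid R X).symm.injective (h R ?_)
  simp [hab]

/-- universal injectivity after inverting `f` gives it on modules where `f` is invertible -/
theorem lTensor_injective_of_map {X : Type u} [AddCommGroup X] [Module S X] [Module R X] [IsScalarTower R S X]
    (f : R) (α : X →ₗ[S] N)
    (h : FlatCA.UnivInj R ((LocalizedModule.map (Submonoid.powers (algebraMap R S f)) α).restrictScalars R))
    (L : Type u) [CommRing L] [Algebra R L] (hf : IsUnit (algebraMap R L f))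
    (Q : Type u) [AddCommGroup Q] [Module R Q] [Module L Q] [IsScalarTower R L Q] :
    Function.Injective ((α.restrictScalars R).lTensor Q) := by
  let U := Submonoid.powers (algebraMap R S f)
  let uX : X →ₗ[S] LocalizedModule U X := LocalizedModule.mkLinearMap U X
  let uN : N →ₗ[S] LocalizedModule U N := LocalizedModule.mkLinearMap U N
  have hu : Function.Injective ((uX.restrictScalars R).lTensor Q) := by
    rw [injective_iff_map_eq_zero]
    intro z hz
    have hcomm : ∀ w, TensorProduct.AlgebraTensorModule.rTensor R Q uX (TensorProduct.comm R Q X w) =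
        TensorProduct.comm R Q _ ((uX.restrictScalars R).lTensor Q w) := fun w => by
      induction w using TensorProduct.induction_on with
      | zero => simp
      | tmul c x => simp
      | add a b ha hb => simp only [map_add, ha, hb]
    have h0 : TensorProduct.AlgebraTensorModule.rTensor R Q uX (TensorProduct.comm R Q X z) = 0 := by
      rw [hcomm, hz, map_zero]
    obtain ⟨⟨_, k, rfl⟩, hk⟩ :=
      (IsLocalizedModule.eq_zero_iff U (TensorProduct.AlgebraTensorModule.rTensor R Q uX)).1 h0
    have hk' : f ^ k • z = 0 := by
      refine (TensorProduct.comm R Q X).injective ?_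
      rw [map_zero, map_smul, ← algebraMap_smul S (f ^ k), map_pow]
      exact hk
    rw [← algebraMap_smul L (f ^ k) z] at hk'
    have hku : IsUnit (algebraMap R L (f ^ k)) := by rw [map_pow]; exact hf.pow k
    exact (hku.smul_eq_zero).1 hk'
  have hfac : (uN.restrictScalars R).comp (α.restrictScalars R) =
      ((LocalizedModule.map U α).restrictScalars R).comp (uX.restrictScalars R) := LinearMap.ext fun x =>
    (LocalizedModule.map_mk U α x 1).symm
  have h1 : Function.Injective ((((LocalizedModule.map U α).restrictScalars R).comp (uX.restrictScalars R)).lTensor Q) := by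
    rw [LinearMap.lTensor_comp]
    exact (h Q).comp hu
  rw [← hfac, LinearMap.lTensor_comp] at h1
  exact Function.Injective.of_comp h1

end Groth.Agent.RG.Dev
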