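import Groth.Agent.RG.Dev.Step
import Groth.Agent.RG.Dev.DevBC
import Groth.Agent.RG.Dev.GenericFreeTools
import Groth.Agent.RG.DenseDescent
import Groth.Agent.RG.FlatAt
import Groth.Agent.FlatRes.Basic
import Groth.Agent.FlatSES.Basic

/-!
# Injectivity ideals for one step of a dévissage
-/

set_option autoImplicit false
set_option linter.style.haveILetI false
set_option backward.isDefEq.respectTransparency false

universe u

open scoped TensorProduct
open IsLocalRing Groth.Agent

namespace Groth.Agent.RG.Dev.Corep

/-- Flatness at the points over the two maximal points. -/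
def PtsFlat (R' B' : Type u) {B : Type u} [CommRing R'] [IsLocalRing R'] [CommRing B] [CommRing B'] [Algebra B B']
    [Algebra R' B'] (qB : Ideal B) (M' : Type u) [AddCommGroup M'] [Module B' M'] [Module R' M']
    [IsScalarTower R' B' M'] : Prop :=
  ∀ (P : Ideal B') [P.IsPrime], P.comap (algebraMap B B') = qB → P.comap (algebraMap R' B') = maximalIdeal R' →
    Module.Flat R' (LocalizedModule P.primeCompl M')

section

variable {R B : Type u} [CommRing R] [CommRing B] [Algebra R B] {M : Type u} [AddCommGroup M] [Module B M] [Module R M]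
  [IsScalarTower R B M]

/-- Flatness of the cokernel of a localised map. -/
theorem flat_coker_map {X : Type u} [AddCommGroup X] [Module B X] [Module R X] [IsScalarTower R B X] (U : Submonoid B)
    (α : X →ₗ[B] M) (h : Module.Flat R (LocalizedModule U (M ⧸ LinearMap.range α))) :
    Module.Flat R (LocalizedModule U M ⧸ LinearMap.range ((LocalizedModule.map U α).restrictScalars R)) := by
  haveI := h
  let G := (LocalizedModule.map U (LinearMap.range α).mkQ).restrictScalars R
  have hex : Function.Exact ((LocalizedModule.map U α).restrictScalars R) G :=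
    LocalizedModule.map_exact U α (LinearMap.range α).mkQ (LinearMap.exact_map_mkQ_range α)
  have hG : Function.Surjective G := LocalizedModule.map_surjective U _ (Submodule.mkQ_surjective _)
  exact Module.Flat.of_linearEquiv
    (Submodule.quotEquivOfEq _ _ (LinearMap.exact_iff.1 hex).symm ≪≫ₗ G.quotKerEquivOfSurjective hG)

/-- A base change of a map with flat cokernel at a point is injective at the points over it, as soon as the kernel dies. -/
theorem inj_point {r : ℕ} (α : (Fin r → B) →ₗ[B] M) (qB : Ideal B) [qB.IsPrime]
    (hflat : Module.Flat R (LocalizedModule qB.primeCompl (M ⧸ LinearMap.range α)))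
    {R' B' : Type u} [CommRing R'] [CommRing B'] [Algebra R R'] [Algebra B B'] [Algebra R' B'] [Algebra R B']
    [IsScalarTower R R' B'] [IsScalarTower R B B'] [Algebra.IsPushout R R' B B']
    (hk : ∀ k, α k = 0 → (1 : R') ⊗ₜ[R] k = 0) (P : Ideal B') [P.IsPrime]
    (hP : P.comap (algebraMap B B') = qB) :
    Function.Injective (LocalizedModule.map P.primeCompl
      (DevBC.mapFree (LinearEquiv.refl B' (B' ⊗[B] M)) α)) := by
  let X := Fin r → B
  let X' := Fin r → B'
  let U := qB.primeCompl
  let F := (LocalizedModule.map U α).restrictScalars R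
  haveI : Module.Flat R (LocalizedModule U M ⧸ LinearMap.range F) := flat_coker_map U α hflat
  have hloc : ∀ k, α k = 0 → (1 : R') ⊗ₜ[R] (LocalizedModule.mkLinearMap U X k) = 0 := fun k hk' => by
    have h := congrArg (((LocalizedModule.mkLinearMap U X).restrictScalars R).lTensor R') (hk k hk')
    rwa [LinearMap.lTensor_tmul, map_zero] at h
  have hker0 : ∀ y, F y = 0 → (1 : R') ⊗ₜ[R] y = 0 := by
    intro y hy
    induction y using LocalizedModule.induction_on with
    | _ x s =>
      change LocalizedModule.map U α (LocalizedModule.mk x s) = 0 at hy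
      rw [LocalizedModule.map_mk, mk_eq_zero_iff] at hy
      obtain ⟨t, ht, htx⟩ := hy
      have h1 : (1 : R') ⊗ₜ[R] LocalizedModule.mk (t • x) (1 : U) = 0 := hloc (t • x) (by rw [map_smul, htx])
      let m : LocalizedModule U X →ₗ[R] LocalizedModule U X :=
        (LinearMap.lsmul (Localization U) (LocalizedModule U X) (Localization.mk 1 (⟨t, ht⟩ * s))).restrictScalars R
      have h2 : m (LocalizedModule.mk (t • x) (1 : U)) = LocalizedModule.mk x s := by
        change Localization.mk (1 : B) (⟨t, ht⟩ * s) • LocalizedModule.mk (t • x) (1 : U) = LocalizedModule.mk x s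
        rw [LocalizedModule.mk_smul_mk, one_smul, mul_one,
          show t • x = (⟨t, ht⟩ : U) • x from rfl, LocalizedModule.mk_cancel_common_left]
      have h3 := congrArg (m.lTensor R') h1
      rwa [LinearMap.lTensor_tmul, h2, map_zero] at h3
  have hinj : ∀ y, F.lTensor R' y = 0 → y = 0 := by
    intro y hy
    obtain ⟨w, rfl⟩ := FlatRes.mem_range_of_lTensor_eq_zero R' F y hy
    clear hy
    induction w using TensorProduct.induction_on with
    | zero => rw [map_zero]
    | tmul c y =>
      rw [LinearMap.lTensor_tmul, show c = c • (1 : R') by rw [smul_eq_mul, mul_one], ← TensorProduct.smul_tmul',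
        Submodule.coe_subtype, hker0 y y.2, smul_zero]
    | add a b ha hb => rw [map_add, ha, hb, add_zero]
  let Φ : R' ⊗[R] X ≃ₗ[R'] X' := (Algebra.IsPushout.cancelBaseChange R R' B B' X).symm ≪≫ₗ
    (TensorProduct.piScalarRight B B' B' (Fin r)).restrictScalars R'
  let eM : R' ⊗[R] M ≃ₗ[R'] B' ⊗[B] M := (Algebra.IsPushout.cancelBaseChange R R' B B' M).symm
  let α' := DevBC.mapFree (LinearEquiv.refl B' (B' ⊗[B] M)) α
  have key : ∀ z, α' (Φ z) = eM ((α.restrictScalars R).lTensor R' z) := by
    intro z
    induction z using TensorProduct.induction_on with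
    | zero => simp
    | tmul c x =>
      rw [LinearMap.lTensor_tmul, show eM (c ⊗ₜ[R] α.restrictScalars R x) = algebraMap R' B' c ⊗ₜ[B] α x from
        Algebra.IsPushout.cancelBaseChange_symm_tmul ..]
      change α' (TensorProduct.piScalarRight B B' B' (Fin r) ((Algebra.IsPushout.cancelBaseChange R R' B B' X).symm
        (c ⊗ₜ[R] x))) = _
      rw [Algebra.IsPushout.cancelBaseChange_symm_tmul]
      simp only [α', DevBC.mapFree, LinearMap.comp_apply, LinearEquiv.coe_coe, LinearEquiv.symm_apply_apply,
        LinearEquiv.refl_apply, LinearMap.baseChange_tmul]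
    | add a b ha hb => simp only [map_add, ha, hb]
  let Y := LocalizedModule P.primeCompl X'
  let ι₀ : X →ₗ[B] Y :=
    ((LocalizedModule.mkLinearMap P.primeCompl X').restrictScalars B).comp ((Algebra.linearMap B B').compLeft (Fin r))
  have hu : ∀ s : U, IsUnit (algebraMap B (Module.End B Y) s) := fun s => by
    have hs : algebraMap B B' (s : B) ∈ P.primeCompl := fun h => s.2 (hP ▸ h)
    have h := (Module.End.isUnit_iff _).1
      (IsLocalizedModule.map_units (LocalizedModule.mkLinearMap P.primeCompl X') ⟨_, hs⟩)
    rw [Module.End.isUnit_iff]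
    convert h using 1
    funext y
    rw [Module.algebraMap_end_apply, Module.algebraMap_end_apply, algebraMap_smul]
  let ι : LocalizedModule U X →ₗ[B] Y := IsLocalizedModule.lift U (LocalizedModule.mkLinearMap U X) ι₀ hu
  haveI : IsScalarTower R B Y := IsScalarTower.of_algebraMap_smul fun a y => by
    rw [← algebraMap_smul B' (algebraMap R B a) y, ← IsScalarTower.algebraMap_apply, algebraMap_smul]
  haveI : IsScalarTower R R' Y := IsScalarTower.of_algebraMap_smul fun a y => by
    rw [← algebraMap_smul B' (algebraMap R R' a) y, ← IsScalarTower.algebraMap_apply, algebraMap_smul]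
  let ψ : R' ⊗[R] LocalizedModule U X →ₗ[R'] Y := LinearMap.liftBaseChange R' (ι.restrictScalars R)
  have key2 : ∀ z, ψ (((LocalizedModule.mkLinearMap U X).restrictScalars R).lTensor R' z) =
      LocalizedModule.mkLinearMap P.primeCompl X' (Φ z) := by
    intro z
    induction z using TensorProduct.induction_on with
    | zero => simp
    | tmul c x =>
      rw [LinearMap.lTensor_tmul]
      change ψ (c ⊗ₜ[R] LocalizedModule.mkLinearMap U X x) = _
      rw [LinearMap.liftBaseChange_tmul, LinearMap.restrictScalars_apply, IsLocalizedModule.lift_apply]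
      change c • LocalizedModule.mkLinearMap P.primeCompl X' ((Algebra.linearMap B B').compLeft (Fin r) x) = _
      rw [← LinearMap.map_smul_of_tower]
      congr 1
      funext i
      change c • algebraMap B B' (x i) =
        TensorProduct.piScalarRight B B' B' (Fin r) ((Algebra.IsPushout.cancelBaseChange R R' B B' X).symm (c ⊗ₜ[R] x)) i
      rw [Algebra.IsPushout.cancelBaseChange_symm_tmul]
      change c • algebraMap B B' (x i) =
        (TensorProduct.piScalarRightHom B B' B' (Fin r)) (algebraMap R' B' c ⊗ₜ[B] x) i
      rw [TensorProduct.piScalarRightHom_tmul, Algebra.smul_def]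
      change _ = x i • algebraMap R' B' c
      rw [Algebra.smul_def, mul_comm]
    | add a b ha hb => simp only [map_add, ha, hb]
  refine map_injective_of P.primeCompl α' fun x hx => ?_
  obtain ⟨z, rfl⟩ := Φ.surjective x
  have hz : (α.restrictScalars R).lTensor R' z = 0 := by
    rw [key] at hx
    exact eM.map_eq_zero_iff.1 hx
  have hcomm : F.comp ((LocalizedModule.mkLinearMap U X).restrictScalars R) =
      ((LocalizedModule.mkLinearMap U M).restrictScalars R).comp (α.restrictScalars R) :=
    LinearMap.ext fun v => LocalizedModule.map_mk U α v 1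
  have h0 : ((LocalizedModule.mkLinearMap U X).restrictScalars R).lTensor R' z = 0 := hinj _ (by
    rw [← LinearMap.comp_apply, ← LinearMap.lTensor_comp, hcomm, LinearMap.lTensor_comp, LinearMap.comp_apply, hz,
      map_zero])
  have h1 := key2 z
  rw [h0, map_zero] at h1
  exact mk_eq_zero_iff.1 h1.symm

end

section

variable {R : Type u} [CommRing R] [IsLocalRing R] {B : Type u} [CommRing B] [Algebra R B]
  [Algebra.FinitePresentation R B] {M : Type u} [AddCommGroup M] [Module B M] [Module R M] [IsScalarTower R B M]

/-- The kernel of a surjection to a module flat at the point is flat there. -/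
theorem flat_localized_ker {X C : Type u} [AddCommGroup X] [Module B X] [Module R X] [IsScalarTower R B X]
    [AddCommGroup C] [Module B C] [Module R C] [IsScalarTower R B C] (U : Submonoid B) (φ : X →ₗ[B] C)
    (hφ : Function.Surjective φ) (hX : Module.Flat R X) (hC : Module.Flat R (LocalizedModule U C)) :
    Module.Flat R (LocalizedModule U (LinearMap.ker φ)) := by
  haveI := hX
  haveI := hC
  haveI : Module.Flat R (LocalizedModule U X) := InjFibre.flat_localized U (LocalizedModule.mkLinearMap U X)
  let f₁ : LocalizedModule U (LinearMap.ker φ) →ₗ[R] LocalizedModule U X :=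
    (LocalizedModule.map U (LinearMap.ker φ).subtype).restrictScalars R
  let g₁ : LocalizedModule U X →ₗ[R] LocalizedModule U C := (LocalizedModule.map U φ).restrictScalars R
  have hu₁ : CAlgX.UniversallyInjective R f₁ :=
    FlatSES.univInj_of_flat (f := f₁) (g := g₁)
      (LocalizedModule.map_injective U _ (Submodule.injective_subtype _))
      (LocalizedModule.map_exact U _ _ (LinearMap.exact_subtype_ker_map φ))
      (LocalizedModule.map_surjective U _ hφ)
  exact FlatSES.flat_left hu₁

/-- A localised quotient by a finitely generated submodule is finitely presented. -/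
theorem fp_localized_quot {X Y W : Type u} [AddCommGroup X] [Module B X] [AddCommGroup Y] [Module B Y] [AddCommGroup W]
    [Module B W] (U : Submonoid B) (i : X →ₗ[B] Y) (ρ : Y →ₗ[B] W) (hρ : Function.Surjective ρ)
    (hex : Function.Exact i ρ) (hX : Module.Finite B X)
    (hY : Module.FinitePresentation (Localization U) (LocalizedModule U Y)) :
    Module.FinitePresentation (Localization U) (LocalizedModule U W) := by
  haveI := hX
  haveI := hY
  haveI : Module.Finite (Localization U) (LocalizedModule U X) :=
    Module.Finite.of_isLocalizedModule U (LocalizedModule.mkLinearMap U X)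
  refine Module.finitePresentation_of_surjective (LocalizedModule.map U ρ)
    (LocalizedModule.map_surjective U ρ hρ) ?_
  have he : LinearMap.ker (LocalizedModule.map U ρ) = LinearMap.range (LocalizedModule.map U i) :=
    LinearMap.exact_iff.1 (LocalizedModule.map_exact U i ρ hex)
  rw [he, LinearMap.range_eq_map]
  exact Module.Finite.fg_top.map _

/-- A finite module flat at a point over the closed point is finitely presented there. -/
theorem fp_localized_of_flat {X : Type u} [AddCommGroup X] [Module B X] [Module R X] [IsScalarTower R B X]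
    [Module.Finite B X] (qB : Ideal B) [qB.IsPrime] [qB.LiesOver (maximalIdeal R)]
    [Module.Flat R (LocalizedModule qB.primeCompl X)] :
    Module.FinitePresentation (Localization qB.primeCompl) (LocalizedModule qB.primeCompl X) :=
  RG.fp_of_flatAt (R := R) X qB

/-- Up to torsion at the point, the kernel of a map with flat cokernel there is finitely generated. -/
theorem exists_fg_ker [Module.Flat R B] [Module.FinitePresentation B M] {r : ℕ} (α : (Fin r → B) →ₗ[B] M)
    (qB : Ideal B) [qB.IsPrime] [qB.LiesOver (maximalIdeal R)]
    (hflat : Module.Flat R (LocalizedModule qB.primeCompl (M ⧸ LinearMap.range α))) :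
    ∃ K₀ : Submodule B (Fin r → B), K₀.FG ∧ K₀ ≤ LinearMap.ker α ∧
      ∀ x ∈ LinearMap.ker α, ∃ t ∈ qB.primeCompl, t • x ∈ K₀ := by
  obtain ⟨b, π, hπ⟩ := Module.Finite.exists_fin' B M
  let W := LinearMap.range α
  haveI : Module.FinitePresentation B (M ⧸ W) :=
    Module.finitePresentation_of_surjective W.mkQ (Submodule.mkQ_surjective _)
      (by rw [Submodule.ker_mkQ, show W = LinearMap.range α from rfl, LinearMap.range_eq_map]
          exact Module.Finite.fg_top.map α)
  let φc : (Fin b → B) →ₗ[B] M ⧸ W := W.mkQ.comp π
  have hφc : Function.Surjective φc := (Submodule.mkQ_surjective _).comp hπ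
  haveI : Module.Finite B (LinearMap.ker φc) := Module.Finite.iff_fg.2 (Module.FinitePresentation.fg_ker φc hφc)
  haveI : Module.Flat R (LocalizedModule qB.primeCompl (LinearMap.ker φc)) :=
    flat_localized_ker qB.primeCompl φc hφc
      (Module.Flat.of_linearEquiv (DirectSum.linearEquivFunOnFintype R (Fin b) fun _ => B).symm) hflat
  have hmem : ∀ k : LinearMap.ker φc, π k ∈ W := fun k => (Submodule.Quotient.mk_eq_zero W).1 k.2
  let ρ : LinearMap.ker φc →ₗ[B] W := (π.comp (LinearMap.ker φc).subtype).codRestrict W hmem
  have hρ : Function.Surjective ρ := by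
    rintro ⟨w, hw⟩
    obtain ⟨v, rfl⟩ := hπ w
    exact ⟨⟨v, (Submodule.Quotient.mk_eq_zero W).2 hw⟩, Subtype.ext rfl⟩
  let i : LinearMap.ker π →ₗ[B] LinearMap.ker φc := Submodule.inclusion (LinearMap.ker_le_ker_comp π W.mkQ)
  have hex : Function.Exact i ρ := by
    intro k
    constructor
    · intro h
      exact ⟨⟨k, congrArg Subtype.val h⟩, Subtype.ext rfl⟩
    · rintro ⟨v, rfl⟩
      exact Subtype.ext v.2
  haveI : Module.FinitePresentation (Localization qB.primeCompl) (LocalizedModule qB.primeCompl W) :=
    fp_localized_quot qB.primeCompl i ρ hρ hex (Module.Finite.iff_fg.2 (Module.FinitePresentation.fg_ker π hπ))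
      (fp_localized_of_flat (R := R) qB)
  obtain ⟨K₀, h1, h2, h3⟩ := exists_fg_ker_localized α.rangeRestrict α.surjective_rangeRestrict qB.primeCompl
  rw [LinearMap.ker_rangeRestrict] at h2 h3
  exact ⟨K₀, h1, h2, h3⟩

end

end Groth.Agent.RG.Dev.Corep
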