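import Mathlib
import Groth.Prelude
import Groth.Agent.RG.Dev.DevBC
import Groth.Agent.RG.Dev.Spread

/-!
The families of the base change of a complete dévissage. The indices beyond the length carry zero rings
on the module side and `R' / p'` on the smooth side.
-/

set_option autoImplicit false

universe u
open TensorProduct

namespace Groth.Agent.RG.Dev.DevBC

attribute [local instance] Algebra.TensorProduct.rightAlgebra

variable (R : Type u) [CommRing R] (R' : Type u) [CommRing R'] [Algebra R R'] (p' : Ideal R') (n : ℕ)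

noncomputable def K (X : ℕ → Type u) [∀ i, CommRing (X i)] [∀ i, Algebra R (X i)] (i : ℕ) : Ideal (R' ⊗[R] X i) :=
  if i < n then ⊥ else ⊤

noncomputable def J (X : ℕ → Type u) [∀ i, CommRing (X i)] [∀ i, Algebra R (X i)] (i : ℕ) :
    Ideal ((R' ⊗[R] X i) × R') :=
  if i < n then Ideal.prod ⊥ ⊤ else Ideal.prod ⊤ p'

/-- the rings carrying the modules -/
abbrev AR (X : ℕ → Type u) [∀ i, CommRing (X i)] [∀ i, Algebra R (X i)] (i : ℕ) : Type u :=
  (R' ⊗[R] X i) ⧸ K R R' n X i

/-- the smooth algebras -/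
abbrev BR (X : ℕ → Type u) [∀ i, CommRing (X i)] [∀ i, Algebra R (X i)] (i : ℕ) : Type u :=
  ((R' ⊗[R] X i) × R') ⧸ J R R' p' n X i

variable (A B : ℕ → Type u) [∀ i, CommRing (A i)] [∀ i, CommRing (B i)] [∀ i, Algebra R (A i)] [∀ i, Algebra R (B i)]

theorem K_lt {i : ℕ} (h : i < n) : K R R' n A i = ⊥ := if_pos h
theorem K_ge {i : ℕ} (h : n ≤ i) : K R R' n A i = ⊤ := if_neg (not_lt.2 h)
theorem J_lt {i : ℕ} (h : i < n) : J R R' p' n B i = Ideal.prod ⊥ ⊤ := if_pos h
theorem J_ge {i : ℕ} (h : n ≤ i) : J R R' p' n B i = Ideal.prod ⊤ p' := if_neg (not_lt.2 h)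

/-- the maps between the families -/
noncomputable def mapBA (i j : ℕ) (hij : i ≤ j) (φ : B i →ₐ[R] A j) : BR R R' p' n B i →ₐ[R'] AR R R' n A j :=
  Ideal.Quotient.liftₐ (J R R' p' n B i) ((Ideal.Quotient.mkₐ R' (K R R' n A j)).comp
      ((Algebra.TensorProduct.map (AlgHom.id R' R') φ).comp (AlgHom.fst R' (R' ⊗[R] B i) R'))) fun x hx => by
    by_cases h : i < n
    · rw [J_lt R R' p' n B h, Ideal.mem_prod, Ideal.mem_bot] at hx
      simp [hx.1]
    · have : K R R' n A j = ⊤ := K_ge R R' n A (le_trans (not_lt.1 h) hij)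
      exact Ideal.Quotient.eq_zero_iff_mem.2 (this ▸ Submodule.mem_top)

/-- below the length the smooth algebras are the base changes -/
noncomputable def equivB {i : ℕ} (h : i < n) : (R' ⊗[R] B i) ≃ₐ[R'] BR R R' p' n B i :=
  (AlgEquiv.ofBijective (Ideal.Quotient.liftₐ (J R R' p' n B i) (AlgHom.fst R' (R' ⊗[R] B i) R') fun x hx => by
      rw [J_lt R R' p' n B h, Ideal.mem_prod, Ideal.mem_bot] at hx
      exact hx.1)
    ⟨fun x y hxy => by
      obtain ⟨x, rfl⟩ := Ideal.Quotient.mk_surjective x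
      obtain ⟨y, rfl⟩ := Ideal.Quotient.mk_surjective y
      rw [Ideal.Quotient.mk_eq_mk_iff_sub_mem, J_lt R R' p' n B h, Ideal.mem_prod, Ideal.mem_bot]
      exact ⟨sub_eq_zero.2 hxy, Submodule.mem_top⟩,
    fun z => ⟨Ideal.Quotient.mk _ (z, 0), rfl⟩⟩).symm

/-- below the length the rings carrying the modules are the base changes -/
noncomputable def equivA {i : ℕ} (h : i < n) : (R' ⊗[R] A i) ≃ₐ[R'] AR R R' n A i :=
  AlgEquiv.ofBijective (Ideal.Quotient.mkₐ R' (K R R' n A i))
    ⟨fun x y hxy => by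
      have h1 := Ideal.Quotient.eq.1 hxy
      rw [K_lt R R' n A h, Ideal.mem_bot] at h1
      exact sub_eq_zero.1 h1,
    Ideal.Quotient.mk_surjective⟩

theorem mapBA_equivB {i j : ℕ} (hij : i ≤ j) (φ : B i →ₐ[R] A j) (h : i < n) (x : R' ⊗[R] B i) :
    mapBA R R' p' n A B i j hij φ (equivB R R' p' n B h x) =
      Ideal.Quotient.mk (K R R' n A j) (Algebra.TensorProduct.map (AlgHom.id R' R') φ x) := by
  have : equivB R R' p' n B h x = Ideal.Quotient.mk _ (x, 0) := by
    rw [equivB, AlgEquiv.symm_apply_eq]; rfl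
  rw [this]
  rfl

theorem prime_tail [p'.IsPrime] {i : ℕ} (h : n ≤ i) :
    (p'.map (algebraMap R' (BR R R' p' n B i))).IsPrime := by
  have hJ : (J R R' p' n B i).IsPrime := by
    rw [J_ge R R' p' n B h]
    exact Ideal.isPrime_ideal_prod_top' 
  have hle : p'.map (algebraMap R' (BR R R' p' n B i)) = ⊥ := by
    rw [eq_bot_iff, Ideal.map_le_iff_le_comap]
    intro r hr
    rw [Ideal.mem_comap, Ideal.mem_bot, IsScalarTower.algebraMap_apply R' ((R' ⊗[R] B i) × R') (BR R R' p' n B i),
      Ideal.Quotient.algebraMap_eq, Ideal.Quotient.eq_zero_iff_mem, J_ge R R' p' n B h, Ideal.mem_prod]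
    exact ⟨Submodule.mem_top, hr⟩
  rw [hle]
  haveI := hJ
  exact Ideal.isPrime_bot

/-- base change data of the families, with opaque types -/
structure Family [∀ i, Algebra (B i) (A i)] [∀ i, Algebra (B i) (A (i + 1))] : Type (u + 1) where
  A' : ℕ → Type u
  B' : ℕ → Type u
  [cA : ∀ i, CommRing (A' i)]
  [cB : ∀ i, CommRing (B' i)]
  [lA : ∀ i, Algebra R' (A' i)]
  [lB : ∀ i, Algebra R' (B' i)]
  [rA : ∀ i, Algebra R (A' i)]
  [rB : ∀ i, Algebra R (B' i)]
  [tA : ∀ i, IsScalarTower R R' (A' i)]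
  [tB : ∀ i, IsScalarTower R R' (B' i)]
  [aAA : ∀ i, Algebra (A i) (A' i)]
  [tAA : ∀ i, IsScalarTower R (A i) (A' i)]
  [aBA : ∀ i, Algebra (B' i) (A' i)]
  [aBA' : ∀ i, Algebra (B' i) (A' (i + 1))]
  [tBA : ∀ i, IsScalarTower R' (B' i) (A' i)]
  [tBA' : ∀ i, IsScalarTower R' (B' i) (A' (i + 1))]
  pA : ∀ i, i < n → Algebra.IsPushout R R' (A i) (A' i)
  pB : ∀ i, i < n → ∃ (_ : Algebra (B i) (B' i)) (_ : IsScalarTower R (B i) (B' i))
      (_ : Algebra.IsPushout R R' (B i) (B' i)),
      (∀ b, algebraMap (B' i) (A' i) (algebraMap (B i) (B' i) b) =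
        algebraMap (A i) (A' i) (algebraMap (B i) (A i) b)) ∧
      (∀ b, algebraMap (B' i) (A' (i + 1)) (algebraMap (B i) (B' i) b) =
        algebraMap (A (i + 1)) (A' (i + 1)) (algebraMap (B i) (A (i + 1)) b))
  prime : ∀ i, n ≤ i → (p'.map (algebraMap R' (B' i))).IsPrime

attribute [instance] Family.cA Family.cB Family.lA Family.lB Family.rA Family.rB Family.tA Family.tB Family.aAA
  Family.tAA Family.aBA Family.aBA' Family.tBA Family.tBA'

theorem exists_family [p'.IsPrime] [∀ i, Algebra (B i) (A i)] [∀ i, Algebra (B i) (A (i + 1))]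
    [∀ i, IsScalarTower R (B i) (A i)] [∀ i, IsScalarTower R (B i) (A (i + 1))] :
    Nonempty (Family R R' p' n A B) := by
  classical
  let φ := fun i => mapBA R R' p' n A B i i le_rfl (IsScalarTower.toAlgHom R (B i) (A i))
  let φ' := fun i => mapBA R R' p' n A B i (i + 1) (Nat.le_succ i) (IsScalarTower.toAlgHom R (B i) (A (i + 1)))
  refine ⟨{
    A' := AR R R' n A
    B' := BR R R' p' n B
    aBA := fun i => (φ i).toRingHom.toAlgebra
    aBA' := fun i => (φ' i).toRingHom.toAlgebra
    aAA := fun i => (inferInstance : Algebra (A i) (AR R R' n A i))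
    tAA := fun i => (inferInstance : IsScalarTower R (A i) (AR R R' n A i))
    tBA := fun i => @IsScalarTower.of_algebraMap_eq R' (BR R R' p' n B i) (AR R R' n A i) _ _ _ _
      (φ i).toRingHom.toAlgebra _ fun r => ((φ i).commutes r).symm
    tBA' := fun i => @IsScalarTower.of_algebraMap_eq R' (BR R R' p' n B i) (AR R R' n A (i + 1)) _ _ _ _
      (φ' i).toRingHom.toAlgebra _ fun r => ((φ' i).commutes r).symm
    pA := fun i hi => by
      refine Algebra.IsPushout.of_equiv (S' := R' ⊗[R] A i) (equivA R R' n A hi) ?_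
      ext a; rfl
    pB := fun i hi => by
      let e := equivB R R' p' n B hi
      letI : Algebra (B i) (BR R R' p' n B i) :=
        (e.toAlgHom.toRingHom.comp (Algebra.TensorProduct.includeRight : B i →ₐ[R] R' ⊗[R] B i).toRingHom).toAlgebra
      haveI : IsScalarTower R (B i) (BR R R' p' n B i) := IsScalarTower.of_algebraMap_eq fun r => by
        show algebraMap R (BR R R' p' n B i) r =
          e ((Algebra.TensorProduct.includeRight : B i →ₐ[R] R' ⊗[R] B i) (algebraMap R (B i) r))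
        rw [AlgHom.commutes, IsScalarTower.algebraMap_apply R R' (R' ⊗[R] B i), AlgEquiv.commutes,
          ← IsScalarTower.algebraMap_apply]
      haveI : Algebra.IsPushout R R' (B i) (BR R R' p' n B i) := by
        refine Algebra.IsPushout.of_equiv (S' := R' ⊗[R] B i) e ?_
        ext b; rfl
      exact ⟨inferInstance, inferInstance, inferInstance,
        fun b => (mapBA_equivB R R' p' n A B le_rfl _ hi _).trans rfl,
        fun b => (mapBA_equivB R R' p' n A B (Nat.le_succ i) _ hi _).trans rfl⟩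
    prime := fun i hi => prime_tail R R' p' n B hi }⟩

end Groth.Agent.RG.Dev.DevBC
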