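import Groth.Agent.RG.Dev.DevExists
import Groth.Agent.S12243

/-!
# Complete dévissages on an étale cover
-/

set_option autoImplicit false

universe u

open CategoryTheory AlgebraicGeometry Limits
open scoped TensorProduct
open Groth.Agent

namespace Groth.Agent.RG.Dev.CoverDev

/-- The zero module has a complete dévissage. -/
theorem exists_devissage_zero {R S : Type u} [CommRing R] [CommRing S] [Algebra R S] (N : Type u) [AddCommGroup N]
    [Module S N] [Subsingleton N] (p : Ideal R) [p.IsPrime] : Nonempty (FlatCA.CompleteDevissage R S N p) := by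
  let A₀ := S ⧸ (⊤ : Ideal S)
  haveI : Subsingleton A₀ := Ideal.Quotient.subsingleton_iff.2 rfl
  haveI : IsScalarTower R R A₀ := IsScalarTower.left R
  haveI : Algebra.Smooth R R := inferInstance
  have hp : (p.map (algebraMap R R)).IsPrime := by rw [Algebra.algebraMap_self, Ideal.map_id]; infer_instance
  have hirr : FlatCA.GeomIrredFibres R R := by
    show GeometricallyIrreducible (Spec.map (CommRingCat.ofHom (algebraMap R R)))
    rw [Algebra.algebraMap_self, CommRingCat.ofHom_id, Spec.map_id]
    refine ⟨fun K _ y W fst snd hW => ?_⟩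
    haveI : IsIso snd := MorphismProperty.of_isPullback (P := MorphismProperty.isomorphisms Scheme.{u}) hW inferInstance
    haveI : IrreducibleSpace (Spec (CommRingCat.of K)) :=
      inferInstanceAs (IrreducibleSpace (PrimeSpectrum K))
    exact (snd.homeomorph.irreducibleSpace_iff).2 inferInstance
  let M := PUnit.{u + 1}
  haveI : Subsingleton M := inferInstance
  letI : Module A₀ M := PUnit.module
  letI : Module S M := PUnit.module
  letI : Module R M := PUnit.module
  haveI : IsScalarTower S A₀ M := ⟨fun _ _ _ => Subsingleton.elim _ _⟩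
  haveI : IsScalarTower R A₀ M := ⟨fun _ _ _ => Subsingleton.elim _ _⟩
  haveI : IsScalarTower R R M := ⟨fun _ _ _ => Subsingleton.elim _ _⟩
  haveI : Module.Finite R A₀ := Module.Finite.of_surjective (0 : R →ₗ[R] A₀) fun x => ⟨0, Subsingleton.elim _ _⟩
  refine ⟨{ n := 1, pos := one_pos, A := fun _ => A₀, B := fun _ => R, M := fun _ => M, r := fun _ => 0
            hp := fun _ => hp, α := fun _ => 0
            surjSA := Ideal.Quotient.mk_surjective
            fpSA := Algebra.FinitePresentation.quotient ⟨{1}, by simp⟩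
            surjBA' := fun i hi => absurd hi (by omega), fpBA' := fun i hi => absurd hi (by omega)
            finiteBA := fun _ _ => inferInstance, smooth := fun _ _ => inferInstance, geomIrred := fun _ _ => hirr
            finiteM := fun _ _ => inferInstance
            isoN := { toFun := fun _ => PUnit.unit, invFun := fun _ => 0, map_add' := fun _ _ => rfl
                      map_smul' := fun _ _ => rfl, left_inv := fun x => Subsingleton.elim _ _
                      right_inv := fun x => Subsingleton.elim _ _ }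
            isoCoker := fun i hi => absurd hi (by omega), fibreIso := fun _ _ => ?_
            cokerLast := fun x => ⟨0, Subsingleton.elim _ _⟩ }⟩
  refine ⟨fun a b _ => ?_, fun y => ⟨0, Subsingleton.elim _ _⟩⟩
  haveI : Subsingleton ((p.map (algebraMap R R)).ResidueField ⊗[R] (Fin 0 → R)) :=
    (TensorProduct.comm R _ _).toEquiv.subsingleton
  exact Subsingleton.elim a b

/-- Local data of a dévissage near a prime of the fibre. -/
def HasPiece (A B : Type u) [CommRing A] [CommRing B] [Algebra A B] (N : Type u) [AddCommGroup N] [Module B N]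
    (p : Ideal A) [p.IsPrime] (V : Set (PrimeSpectrum B)) : Prop :=
  ∃ (R S : Type u) (_ : CommRing R) (_ : CommRing S) (_ : Algebra A R) (_ : Algebra B S) (_ : Algebra R S)
    (_ : Algebra A S) (_ : IsScalarTower A R S) (_ : IsScalarTower A B S) (pR : Ideal R) (_ : pR.IsPrime),
    FlatCA.IsEtaleNhd A R p pR ∧ Algebra.Etale B S ∧
      Nonempty (FlatCA.CompleteDevissage R S (S ⊗[B] N) pR) ∧
      ∀ P ∈ V, P.asIdeal.comap (algebraMap A B) = p →
        ∃ s : PrimeSpectrum S, PrimeSpectrum.comap (algebraMap B S) s = P ∧ s.asIdeal.comap (algebraMap R S) = pR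

variable {A B : Type u} [CommRing A] [CommRing B] [Algebra A B] [Algebra.FiniteType A B] (N : Type u)
  [AddCommGroup N] [Module B N] [Module.Finite B N] (p : Ideal A) [p.IsPrime]

/-- Every prime of the fibre has a piece. -/
theorem exists_piece (q : Ideal B) [q.IsPrime] [q.LiesOver p] :
    ∃ V : Set (PrimeSpectrum B), IsOpen V ∧ (⟨q, ‹_›⟩ : PrimeSpectrum B) ∈ V ∧ HasPiece A B N p V := by
  by_cases hq : (⟨q, ‹_›⟩ : PrimeSpectrum B) ∈ Module.support B N
  · obtain ⟨x, hxq, hxp⟩ := DevTools.exists_fibre_point p q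
    have hx : x ∈ Module.support (p.Fiber B) (FlatCA.fiberMod p B N) := by
      rw [Shrink.support_fiberMod, Set.mem_preimage, hxp]; exact hq
    obtain ⟨n, hn⟩ := DevTools.exists_localDim_eq N p q x hxq hx
    obtain ⟨R, S, _, _, _, _, _, _, _, _, pR, qS, _, _, hR, hS, hover, hdev⟩ :=
      DevExists.exists_devissage n N p q x hxq hx hn
    obtain ⟨eR, lR, bR⟩ := hR
    obtain ⟨eS, lS, bS⟩ := hS
    haveI := eR
    haveI := eS
    -- the point is open in the fibre of the étale neighbourhood
    let F := (PrimeSpectrum.comap (algebraMap A R)) ⁻¹' {⟨p, ‹_›⟩}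
    let pt : PrimeSpectrum R := ⟨pR, ‹_›⟩
    have hF : F.Finite := Algebra.QuasiFinite.finite_comap_preimage_singleton _
    let Z := ⋃ t ∈ F \ {pt}, closure {t}
    have hZ : IsClosed Z := (hF.subset Set.sdiff_subset).isClosed_biUnion fun _ _ => isClosed_closure
    have hpZ : pt ∉ Z := by
      simp only [Z, Set.mem_iUnion, not_exists]
      rintro t ⟨htF, htne⟩ hcl
      have hle : t.asIdeal ≤ pR := (PrimeSpectrum.le_iff_mem_closure t pt).2 hcl
      refine htne (PrimeSpectrum.ext (Algebra.QuasiFinite.eq_of_le_of_under_eq (R := A) _ _ hle ?_))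
      exact (congrArg PrimeSpectrum.asIdeal htF).trans lR.over
    let U := PrimeSpectrum.comap (algebraMap R S) ⁻¹' Zᶜ
    have hU : IsOpen U := hZ.isOpen_compl.preimage (PrimeSpectrum.continuous_comap _)
    haveI : Module.Flat B S := Algebra.Smooth.flat B S
    refine ⟨PrimeSpectrum.comap (algebraMap B S) '' U,
      PrimeSpectrum.isOpenMap_comap_of_hasGoingDown_of_finitePresentation _ hU,
      ⟨⟨qS, ‹_›⟩, ?_, PrimeSpectrum.ext lS.over.symm⟩,
      R, S, inferInstance, inferInstance, inferInstance, inferInstance, inferInstance, inferInstance, inferInstance,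
      inferInstance, pR, inferInstance, ⟨eR, lR, bR⟩, eS, ?_, ?_⟩
    · show PrimeSpectrum.comap (algebraMap R S) ⟨qS, ‹_›⟩ ∉ Z
      rw [show PrimeSpectrum.comap (algebraMap R S) ⟨qS, ‹_›⟩ = pt from PrimeSpectrum.ext hover.over.symm]
      exact hpZ
    · obtain ⟨D, -⟩ := hdev
      exact ⟨D⟩
    · rintro P ⟨s, hs, rfl⟩ hP
      refine ⟨s, rfl, congrArg PrimeSpectrum.asIdeal (?_ : PrimeSpectrum.comap (algebraMap R S) s = pt)⟩
      by_contra hne
      refine hs (Set.mem_biUnion (x := PrimeSpectrum.comap (algebraMap R S) s) ⟨?_, hne⟩ (subset_closure rfl))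
      refine PrimeSpectrum.ext ?_
      show (s.asIdeal.comap (algebraMap R S)).comap (algebraMap A R) = p
      rw [Ideal.comap_comap, ← IsScalarTower.algebraMap_eq, IsScalarTower.algebraMap_eq A B S, ← Ideal.comap_comap]
      exact hP
  · rw [Module.mem_support_iff_of_finite] at hq
    obtain ⟨h, hh, hhq⟩ := SetLike.not_le_iff_exists.1 hq
    let S := Localization.Away h
    haveI : Subsingleton (S ⊗[B] N) := by
      refine subsingleton_of_forall_eq 0 fun z => ?_
      induction z using TensorProduct.induction_on with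
      | zero => rfl
      | tmul a m =>
        obtain ⟨v, hv⟩ := IsLocalization.Away.algebraMap_isUnit (S := S) h
        rw [show a = h • (↑v⁻¹ * a) by rw [Algebra.smul_def, ← hv, ← mul_assoc, Units.mul_inv, one_mul],
          TensorProduct.smul_tmul, Module.mem_annihilator.1 hh m, TensorProduct.tmul_zero]
      | add a b ha hb => rw [ha, hb, add_zero]
    haveI : IsScalarTower A A S := IsScalarTower.left A
    haveI : p.LiesOver p := ⟨(by simp : p = p.comap (algebraMap A A))⟩
    have hR : FlatCA.IsEtaleNhd A A p p := (EtaleMaps.isEtaleNhd_iff p p).2 ⟨inferInstance, inferInstance, by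
      have : Ideal.ResidueField.map p p (algebraMap A A) (p.over_def p) = RingHom.id _ := by
        refine Ideal.ResidueField.ringHom_ext (RingHom.ext fun r => ?_)
        simp
      rw [this]; exact Function.bijective_id⟩
    refine ⟨PrimeSpectrum.basicOpen h, (PrimeSpectrum.basicOpen h).isOpen, hhq, A, S, inferInstance, inferInstance,
      inferInstance, inferInstance, inferInstance, inferInstance, inferInstance, inferInstance, p, inferInstance, hR,
      Algebra.Etale.of_isLocalizationAway h, exists_devissage_zero (S ⊗[B] N) p, fun P hP hPp => ?_⟩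
    obtain ⟨s, rfl⟩ : P ∈ Set.range (PrimeSpectrum.comap (algebraMap B S)) := by
      rw [PrimeSpectrum.localization_away_comap_range S h]; exact hP
    refine ⟨s, rfl, ?_⟩
    rw [IsScalarTower.algebraMap_eq A B S, ← Ideal.comap_comap]
    exact hPp

/-- Finitely many elementary étale neighbourhoods are dominated by one. -/
theorem exists_common_nhd (k : ℕ) (R : Fin k → Type u) [∀ i, CommRing (R i)] [∀ i, Algebra A (R i)]
    (pR : ∀ i, Ideal (R i)) [∀ i, (pR i).IsPrime] (h : ∀ i, FlatCA.IsEtaleNhd A (R i) p (pR i)) :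
    ∃ (A' : Type u) (_ : CommRing A') (_ : Algebra A A') (p' : Ideal A') (_ : p'.IsPrime),
      FlatCA.IsEtaleNhd A A' p p' ∧ ∀ i, ∃ f : R i →ₐ[A] A', p'.comap f.toRingHom = pR i := by
  induction k with
  | zero =>
    haveI : p.LiesOver p := ⟨(by simp : p = p.comap (algebraMap A A))⟩
    refine ⟨A, inferInstance, inferInstance, p, inferInstance, (EtaleMaps.isEtaleNhd_iff p p).2
      ⟨inferInstance, inferInstance, ?_⟩, fun i => i.elim0⟩
    have : Ideal.ResidueField.map p p (algebraMap A A) (p.over_def p) = RingHom.id _ := by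
      refine Ideal.ResidueField.ringHom_ext (RingHom.ext fun r => ?_)
      simp
    rw [this]; exact Function.bijective_id
  | succ k ih =>
    obtain ⟨A₁, _, _, p₁, _, hA₁, hf⟩ := ih (fun i => R i.castSucc) (fun i => pR i.castSucc) fun i => h i.castSucc
    obtain ⟨eR, lR, bR⟩ := h (Fin.last k)
    obtain ⟨e₁, l₁, b₁⟩ := hA₁
    haveI := lR
    haveI := l₁
    let T := A₁ ⊗[A] R (Fin.last k)
    letI : Algebra (R (Fin.last k)) T := Algebra.TensorProduct.rightAlgebra
    haveI : Algebra.IsPushout A A₁ (R (Fin.last k)) T := inferInstance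
    obtain ⟨t, ht, ht₁, htR⟩ :=
      FibreBij.exists_liesOver (S := R (Fin.last k)) (S' := T) p p₁ b₁ (pR (Fin.last k))
    haveI := ht
    haveI := ht₁
    haveI := htR
    haveI : Algebra.IsPushout A (R (Fin.last k)) A₁ T := Algebra.IsPushout.symm inferInstance
    have hT : FlatCA.IsEtaleNhd A₁ T p₁ t :=
      EtaleMaps.isEtaleNhd_pushout (R := A) (R' := R (Fin.last k)) ⟨eR, lR, bR⟩ p₁ t
    refine ⟨T, inferInstance, inferInstance, t, ht, EtaleMaps.isEtaleNhd_trans ⟨e₁, l₁, b₁⟩ hT,
      Fin.lastCases ?_ fun i => ?_⟩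
    · exact ⟨Algebra.TensorProduct.includeRight, htR.over.symm⟩
    · obtain ⟨f, hfp⟩ := hf i
      refine ⟨(Algebra.TensorProduct.includeLeft (S := A)).comp f, ?_⟩
      rw [← hfp]
      exact (Ideal.comap_comap _ _).symm.trans (congrArg (Ideal.comap f.toRingHom) ht₁.over.symm)

/-- A module of finite type has complete dévissages on an étale cover of its fibre, after an elementary étale
change of the base. -/
theorem exists_cover :
    ∃ (A' : Type u) (_ : CommRing A') (_ : Algebra A A') (p' : Ideal A') (_ : p'.IsPrime),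
      FlatCA.IsEtaleNhd A A' p p' ∧ ∀ (BA NA : Type u) [CommRing BA] [Algebra B BA] [Algebra A' BA] [Algebra A BA]
        [IsScalarTower A B BA] [IsScalarTower A A' BA] [Algebra.IsPushout A B A' BA] [AddCommGroup NA] [Module BA NA]
        [Module B NA] [IsScalarTower B BA NA] (fA : N →ₗ[B] NA), IsBaseChange BA fA →
        ∃ (k : ℕ) (C : Fin k → Type u) (_ : ∀ i, CommRing (C i)) (_ : ∀ i, Algebra BA (C i))
          (_ : ∀ i, Algebra A' (C i)) (_ : ∀ i, IsScalarTower A' BA (C i)) (Nc : Fin k → Type u)
          (_ : ∀ i, AddCommGroup (Nc i)) (_ : ∀ i, Module (C i) (Nc i)) (_ : ∀ i, Module BA (Nc i))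
          (_ : ∀ i, IsScalarTower BA (C i) (Nc i)) (g : ∀ i, NA →ₗ[BA] Nc i),
          (∀ i, Algebra.Etale BA (C i) ∧ IsBaseChange (C i) (g i) ∧
            Nonempty (FlatCA.CompleteDevissage A' (C i) (Nc i) p')) ∧
          ∀ (Q : Ideal BA) [Q.IsPrime], Q.LiesOver p' →
            ∃ (i : Fin k) (Q' : Ideal (C i)), Q'.IsPrime ∧ Q'.comap (algebraMap BA (C i)) = Q := by
  classical
  let F := PrimeSpectrum.comap (algebraMap A B) ⁻¹' {⟨p, ‹_›⟩}
  have hF : IsCompact F := by
    rw [show F = Set.range (Shrink.proj B p) from (Shrink.range_proj p).symm]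
    exact isCompact_range (Shrink.proj_isEmbedding p).continuous
  have hpiece : ∀ P : F, ∃ V : Set (PrimeSpectrum B), IsOpen V ∧ P.1 ∈ V ∧ HasPiece A B N p V := fun P => by
    haveI : P.1.asIdeal.LiesOver p := ⟨(congrArg PrimeSpectrum.asIdeal P.2).symm⟩
    exact exists_piece N p P.1.asIdeal
  choose V hVo hVm hV using hpiece
  obtain ⟨t, ht⟩ := hF.elim_finite_subcover V hVo fun P hP => Set.mem_iUnion.2 ⟨⟨P, hP⟩, hVm ⟨P, hP⟩⟩
  let e := t.equivFin.symm
  choose R S iR iS iAR iBS iRS iAS tARS tABS pR hpR hR hS hD hcov using fun i : Fin t.card => hV (e i).1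
  obtain ⟨A', _, _, p', _, hA', hf⟩ := exists_common_nhd p t.card R pR hR
  choose f hfp using hf
  refine ⟨A', inferInstance, inferInstance, p', inferInstance, hA', fun BA NA _ _ _ _ _ _ _ _ _ _ _ fA hfA => ?_⟩
  obtain ⟨eA', lA', bA'⟩ := hA'
  haveI := eA'
  haveI := lA'
  haveI : Algebra.IsPushout A A' B BA := Algebra.IsPushout.symm inferInstance
  -- the algebras of the cover
  have key : ∀ i, ∃ (C : Type u) (_ : CommRing C) (_ : Algebra BA C) (_ : Algebra A' C) (_ : IsScalarTower A' BA C),
      Algebra.Etale BA C ∧ Nonempty (FlatCA.CompleteDevissage A' C (C ⊗[BA] NA) p') ∧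
      ∀ P ∈ V (e i).1, P.asIdeal.comap (algebraMap A B) = p → ∃ Q' : PrimeSpectrum C,
        Q'.asIdeal.comap (algebraMap A' C) = p' ∧
        (Q'.asIdeal.comap (algebraMap BA C)).comap (algebraMap B BA) = P.asIdeal := fun i => by
    letI := iR i; letI := iS i; letI := iAR i; letI := iBS i; letI := iRS i; letI := iAS i
    haveI := tARS i; haveI := tABS i
    haveI := hpR i
    haveI := hS i
    obtain ⟨eR, lR, bR⟩ := hR i
    haveI := eR
    haveI := lR
    letI : Algebra (R i) A' := (f i).toRingHom.toAlgebra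
    haveI : IsScalarTower A (R i) A' := IsScalarTower.of_algebraMap_eq fun a => ((f i).commutes a).symm
    haveI hp'R : p'.LiesOver (pR i) := ⟨(hfp i).symm⟩
    have hb : Function.Bijective (Ideal.ResidueField.mapₐ (pR i) p' (Algebra.ofId (R i) A') hp'R.over) := by
      rw [← EtaleMaps.bijective_map_iff]
      let m := Ideal.ResidueField.map (pR i) p' (algebraMap (R i) A') hp'R.over
      have h1 : m.comp (Ideal.ResidueField.map p (pR i) (algebraMap A (R i)) lR.over) =
          Ideal.ResidueField.map p p' (algebraMap A A') lA'.over := by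
        refine Ideal.ResidueField.ringHom_ext (RingHom.ext fun a => ?_)
        simp only [m, RingHom.comp_apply, Ideal.ResidueField.map_algebraMap]
        rw [← IsScalarTower.algebraMap_apply A (R i) A']
      have h2 := (EtaleMaps.bijective_map_iff p p' lA'.over).2 bA'
      rw [← h1] at h2
      exact ⟨m.injective, fun v => (h2.2 v).elim fun w hw => ⟨_, hw⟩⟩
    let C := A' ⊗[R i] S i
    letI : Algebra (S i) C := Algebra.TensorProduct.rightAlgebra
    haveI : Algebra.IsPushout (R i) A' (S i) C := inferInstance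
    haveI : Algebra.Etale (R i) A' := Algebra.Etale.of_restrictScalars A (R i) A'
    haveI : Algebra.Etale (S i) C := by
      haveI : Algebra.IsPushout (R i) (S i) A' C := Algebra.IsPushout.symm inferInstance
      exact Algebra.Etale.of_equiv (Algebra.IsPushout.equiv (R i) (S i) A' C)
    haveI : IsScalarTower A A' C := inferInstance
    letI : Algebra B C := ((algebraMap (S i) C).comp (algebraMap B (S i))).toAlgebra
    haveI : IsScalarTower B (S i) C := IsScalarTower.of_algebraMap_eq fun _ => rfl
    haveI : IsScalarTower A B C := IsScalarTower.of_algebraMap_eq fun a => by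
      rw [IsScalarTower.algebraMap_apply B (S i) C, ← IsScalarTower.algebraMap_apply A B (S i),
        IsScalarTower.algebraMap_apply A (R i) (S i), ← IsScalarTower.algebraMap_apply (R i) (S i) C,
        IsScalarTower.algebraMap_apply (R i) A' C, ← IsScalarTower.algebraMap_apply A (R i) A']
      rfl
    let ψ : BA →ₐ[A] C :=
      Algebra.pushoutDesc BA (IsScalarTower.toAlgHom A B C) (IsScalarTower.toAlgHom A A' C) fun _ _ => mul_comm _ _
    letI : Algebra BA C := ψ.toRingHom.toAlgebra
    haveI : IsScalarTower A' BA C := IsScalarTower.of_algebraMap_eq fun a =>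
      (Algebra.pushoutDesc_right BA (IsScalarTower.toAlgHom A B C) (IsScalarTower.toAlgHom A A' C) _ a).symm
    haveI : IsScalarTower B BA C := IsScalarTower.of_algebraMap_eq fun b =>
      (Algebra.pushoutDesc_left BA (IsScalarTower.toAlgHom A B C) (IsScalarTower.toAlgHom A A' C) _ b).symm
    haveI : Algebra.Etale B C := Algebra.Etale.comp B (S i) C
    haveI : Algebra.Etale B BA := by
      haveI : Algebra.IsPushout A B A' BA := inferInstance
      exact Algebra.Etale.of_equiv (Algebra.IsPushout.equiv A B A' BA)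
    haveI : Algebra.FiniteType (R i) (S i) := by
      haveI : Algebra.FiniteType A (S i) := Algebra.FiniteType.trans (S := B) inferInstance inferInstance
      exact Algebra.FiniteType.of_restrictScalars_finiteType A (R i) (S i)
    obtain ⟨D⟩ := hD i
    obtain ⟨D', -⟩ := S12243.result (R i) (S i) (S i ⊗[B] N) (pR i) D A' p' C (C ⊗[S i] (S i ⊗[B] N))
      (TensorProduct.mk (S i) C (S i ⊗[B] N) 1) (TensorProduct.isBaseChange _ _ _)
    let e₁ : C ⊗[BA] NA ≃ₗ[C] C ⊗[S i] (S i ⊗[B] N) :=
      (DevTools.cancelEquiv (A := B) (B := BA) (C := C) hfA).symm ≪≫ₗ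
        (TensorProduct.AlgebraTensorModule.cancelBaseChange B (S i) C C N).symm
    refine ⟨C, inferInstance, inferInstance, inferInstance, inferInstance,
      Algebra.Etale.of_restrictScalars B BA C, ⟨{ D' with isoN := e₁.trans D'.isoN }⟩, fun P hP hPp => ?_⟩
    obtain ⟨s, hsP, hsR⟩ := hcov i P hP hPp
    haveI : s.asIdeal.LiesOver (pR i) := ⟨hsR.symm⟩
    obtain ⟨z, hz, hzp, hzs⟩ := FibreBij.exists_liesOver (S := S i) (S' := C) (pR i) p' hb s.asIdeal
    refine ⟨⟨z, hz⟩, hzp.over.symm, ?_⟩
    show (z.comap (algebraMap BA C)).comap (algebraMap B BA) = P.asIdeal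
    rw [Ideal.comap_comap, ← IsScalarTower.algebraMap_eq, IsScalarTower.algebraMap_eq B (S i) C, ← Ideal.comap_comap]
    exact (congrArg (Ideal.comap _) hzs.over.symm).trans (congrArg PrimeSpectrum.asIdeal hsP)
  choose C iC iBC iAC tC hCet hCdev hCcov using key
  refine ⟨t.card, C, iC, iBC, iAC, tC, fun i => C i ⊗[BA] NA, inferInstance, inferInstance, inferInstance,
    inferInstance, fun i => TensorProduct.mk BA (C i) NA 1,
    fun i => ⟨hCet i, TensorProduct.isBaseChange _ _ _, hCdev i⟩, fun Q _ hQ => ?_⟩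
  let P : PrimeSpectrum B := ⟨Q.comap (algebraMap B BA), inferInstance⟩
  have hPp : P.asIdeal.comap (algebraMap A B) = p := by
    show (Q.comap (algebraMap B BA)).comap (algebraMap A B) = p
    rw [Ideal.comap_comap, ← IsScalarTower.algebraMap_eq, IsScalarTower.algebraMap_eq A A' BA, ← Ideal.comap_comap]
    exact ((congrArg (Ideal.comap (algebraMap A A')) hQ.over.symm)).trans lA'.over.symm
  obtain ⟨j, hj, hPj⟩ := Set.mem_iUnion₂.1 (ht (show P ∈ F from PrimeSpectrum.ext hPp))
  obtain ⟨i, hi⟩ := e.surjective ⟨j, hj⟩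
  obtain ⟨Q', hQ'p, hQ'P⟩ := hCcov i P (by rw [hi]; exact hPj) hPp
  refine ⟨i, Q'.asIdeal, Q'.isPrime, ?_⟩
  haveI := hQ
  haveI : (Q'.asIdeal.comap (algebraMap BA (C i))).LiesOver p' := ⟨by
    rw [Ideal.under, Ideal.comap_comap, ← IsScalarTower.algebraMap_eq]; exact hQ'p.symm⟩
  haveI : P.asIdeal.LiesOver p := ⟨hPp.symm⟩
  exact FibreBij.eq_of_liesOver (S := B) (S' := BA) p p' bA' P.asIdeal _ Q ⟨hQ'P.symm⟩ ⟨rfl⟩

end Groth.Agent.RG.Dev.CoverDev
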