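import Groth.Prelude.Def_FlatCA
import Groth.Agent.RG.Dev.ClosedPoints
import Groth.Agent.RG.Pure.DescentFlat
import Groth.Agent.SegreDim.Noether
import Groth.Agent.CMChart.AffineField
import Groth.Agent.LocalDimBC.Smooth
import Groth.Agent.SyntLib.Open
import Mathlib.RingTheory.KrullDimension.NonZeroDivisors

/-!
Dimensions of supports of fibre modules.
-/

set_option autoImplicit false
set_option linter.style.haveILetI false
set_option backward.isDefEq.respectTransparency false

universe u

open TensorProduct

namespace Groth.Agent.RG.Dev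

/-- the support dimension is unchanged by restricting along a finite ring map -/
theorem supportDim_restrict {A B X : Type u} [CommRing A] [CommRing B] [Algebra A B] [Module.Finite A B]
    [AddCommGroup X] [Module A X] [Module B X] [IsScalarTower A B X] [Module.Finite B X] :
    Module.supportDim A X = Module.supportDim B X := by
  haveI : Module.Finite A X := Module.Finite.trans B X
  rw [Module.supportDim_eq_ringKrullDim_quotient_annihilator, Module.supportDim_eq_ringKrullDim_quotient_annihilator]
  have hI : Module.annihilator A X = (Module.annihilator B X).comap (algebraMap A B) := by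
    ext a
    simp [Module.mem_annihilator]
  rw [hI]
  let J := Module.annihilator B X
  let φ : A ⧸ J.comap (algebraMap A B) →+* B ⧸ J := Ideal.quotientMap J (algebraMap A B) le_rfl
  letI : Algebra (A ⧸ J.comap (algebraMap A B)) (B ⧸ J) := φ.toAlgebra
  haveI : IsScalarTower A (A ⧸ J.comap (algebraMap A B)) (B ⧸ J) := IsScalarTower.of_algebraMap_eq fun a => rfl
  haveI : Module.Finite (A ⧸ J.comap (algebraMap A B)) (B ⧸ J) := Module.Finite.of_restrictScalars_finite A _ _
  exact SegreDim.ringKrullDim_eq_of_injective_integral Ideal.quotientMap_injective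

/-- the fibre dimension of a smooth algebra of relative dimension `n` -/
theorem ringKrullDim_fiber_le {R D : Type u} [CommRing R] [CommRing D] [Algebra R D] [Algebra.FiniteType R D]
    {n : ℕ} (hs : FlatCA.SmoothRelDim n R D) (p : Ideal R) [p.IsPrime] :
    ringKrullDim (p.Fiber D) ≤ (n : WithBot ℕ∞) := by
  haveI : AlgebraicGeometry.SmoothOfRelativeDimension n
    (AlgebraicGeometry.Spec.map (CommRingCat.ofHom (algebraMap R D))) := hs
  rw [ringKrullDim_le_iff_isMaximal_height_le]
  intro M hM
  obtain ⟨b, δ, hb, hD, -⟩ := CMChart.localDim_primeSpectrum (k := p.ResidueField)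
    (⟨M, hM.isPrime⟩ : PrimeSpectrum (p.Fiber D))
  have h1 := SyntLib.fibreDimAt_eq_localDim p (⟨M, hM.isPrime⟩ : PrimeSpectrum (p.Fiber D))
  rw [LocalDimBC.fibreDimAt_of_smoothOfRelativeDimension n, hD] at h1
  rw [← IsLocalization.AtPrime.ringKrullDim_eq_height M (Localization.AtPrime M), hb]
  have h2 : n = b + δ := by exact_mod_cast h1
  exact_mod_cast (show b ≤ n by omega)

/-- a proper closed subset of a finite dimensional domain has smaller dimension -/
theorem supportDim_lt {E X : Type u} [CommRing E] [IsDomain E] [AddCommGroup X] [Module E X] [Module.Finite E X]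
    {n : ℕ} (hn : ringKrullDim E ≤ (n : WithBot ℕ∞)) {a : E} (ha : a ≠ 0) (haX : a ∈ Module.annihilator E X) :
    Module.supportDim E X < (n : WithBot ℕ∞) := by
  rw [Module.supportDim_eq_ringKrullDim_quotient_annihilator]
  have h1 : ringKrullDim (E ⧸ Module.annihilator E X) ≤ ringKrullDim (E ⧸ Ideal.span {a}) :=
    ringKrullDim_le_of_surjective (Ideal.Quotient.factor (Ideal.span_le.2 (by simpa using haX)))
      (Ideal.Quotient.factor_surjective _)
  have h2 := (add_le_add_left h1 1).trans ((ringKrullDim_quotient_succ_le_of_nonZeroDivisor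
    (mem_nonZeroDivisors_of_ne_zero ha)).trans hn)
  revert h2
  generalize ringKrullDim (E ⧸ Module.annihilator E X) = d
  intro h2
  rcases d with _ | _ | k
  · exact WithBot.bot_lt_coe _
  · exact absurd h2 (by intro h; exact absurd h (not_le.2 (WithBot.coe_lt_coe.2 (WithTop.coe_lt_top _))))
  · have h3 : (((k + 1 : ℕ) : ℕ∞) : WithBot ℕ∞) ≤ ((n : ℕ∞) : WithBot ℕ∞) := by
      push_cast
      exact h2
    have h4 : k + 1 ≤ n := ENat.coe_le_coe.1 (WithBot.coe_le_coe.1 h3)
    exact WithBot.coe_lt_coe.2 (ENat.coe_lt_coe.2 (by omega : k < n))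

variable {R S C : Type u} [CommRing R] [CommRing S] [CommRing C] [Algebra R S] [Algebra S C] [Algebra R C]
  [IsScalarTower R S C]

attribute [local instance] Algebra.TensorProduct.rightAlgebra in
/-- the fibre modules over a finite map have supports of the same dimension -/
theorem supportDim_fiberMod_finite [Module.Finite S C] (p : Ideal R) [p.IsPrime] (G : Type u) [AddCommGroup G]
    [Module C G] [Module S G] [IsScalarTower S C G] [Module.Finite C G] :
    Module.supportDim (p.Fiber S) (FlatCA.fiberMod p S G) = Module.supportDim (p.Fiber C) (FlatCA.fiberMod p C G) := by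
  obtain ⟨_, _, _, _, _, hp⟩ := exists_pushout_tower (A := R) (B := S) (C := C) (A' := p.ResidueField)
    (B' := p.Fiber S) (C' := p.Fiber C)
  haveI := hp
  haveI : Algebra.IsPushout S (p.Fiber S) C (p.Fiber C) := Algebra.IsPushout.symm inferInstance
  haveI : Module.Finite (p.Fiber S) (p.Fiber C) :=
    Module.Finite.equiv (Algebra.IsPushout.equiv S (p.Fiber S) C (p.Fiber C)).toLinearEquiv
  let XC := p.Fiber C ⊗[C] G
  let e : XC ≃ₗ[p.Fiber S] p.Fiber S ⊗[S] G := Algebra.IsPushout.cancelBaseChange S (p.Fiber S) C (p.Fiber C) G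
  haveI : Module.Finite (p.Fiber C) XC := inferInstance
  exact (Module.supportDim_eq_of_equiv e).symm.trans (supportDim_restrict (A := p.Fiber S) (B := p.Fiber C) (X := XC))

omit [CommRing S] [CommRing C] [Algebra R S] [Algebra S C] [Algebra R C] [IsScalarTower R S C] in
attribute [local instance] Algebra.TensorProduct.rightAlgebra in
/-- an element off a prime over `p` is nonzero in the fibre ring -/
theorem one_tmul_ne_zero {D : Type u} [CommRing D] [Algebra R D] (p : Ideal R) [p.IsPrime] (ξ : Ideal D) [ξ.IsPrime]
    (hξ : ξ.comap (algebraMap R D) = p) {d : D} (hd : d ∉ ξ) : ((1 : p.ResidueField) ⊗ₜ[R] d : p.Fiber D) ≠ 0 := by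
  haveI : ξ.LiesOver p := ⟨hξ.symm⟩
  haveI : (⊥ : Ideal p.ResidueField).LiesOver p :=
    ⟨(Ideal.ext fun x => by rw [Ideal.mem_comap, Ideal.mem_bot, Ideal.algebraMap_residueField_eq_zero]).symm⟩
  obtain ⟨s, hs, hsD, -⟩ := RG.Pure.exists_prime_both p ξ (⊥ : Ideal p.ResidueField)
  intro h2
  apply hd
  rw [← hsD, Ideal.mem_comap]
  have h3 : algebraMap D (D ⊗[R] p.ResidueField) d = 0 := by
    have := congrArg (Algebra.TensorProduct.comm R p.ResidueField D) h2
    rw [map_zero, Algebra.TensorProduct.comm_tmul] at this
    exact this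
  rw [h3]
  exact zero_mem _

omit [CommRing S] [CommRing C] [Algebra R S] [Algebra S C] [Algebra R C] [IsScalarTower R S C] in
attribute [local instance] Algebra.TensorProduct.rightAlgebra in
theorem mem_annihilator_fiberMod {D : Type u} [CommRing D] [Algebra R D] (p : Ideal R) [p.IsPrime]
    (X : Type u) [AddCommGroup X] [Module D X] {d : D} (hd : d ∈ Module.annihilator D X) :
    ((1 : p.ResidueField) ⊗ₜ[R] d : p.Fiber D) ∈ Module.annihilator (p.Fiber D) (p.Fiber D ⊗[D] X) := by
  rw [Module.mem_annihilator]
  intro z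
  induction z using TensorProduct.induction_on with
  | zero => exact smul_zero _
  | tmul t x =>
    rw [TensorProduct.smul_tmul', show ((1 : p.ResidueField) ⊗ₜ[R] d : p.Fiber D) • t = d • t from
      (Algebra.smul_def d t).symm, TensorProduct.smul_tmul, (Module.mem_annihilator.1 hd x), TensorProduct.tmul_zero]
  | add a b ha hb => rw [smul_add, ha, hb, add_zero]

omit [CommRing S] [CommRing C] [Algebra R S] [Algebra S C] [Algebra R C] [IsScalarTower R S C] in
attribute [local instance] Algebra.TensorProduct.rightAlgebra in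
/-- a module missing the generic point of an irreducible fibre has smaller fibre dimension -/
theorem supportDim_fiberMod_lt {D : Type u} [CommRing D] [Algebra R D] [Algebra.FiniteType R D] {n : ℕ}
    (hs : FlatCA.SmoothRelDim n R D) (p : Ideal R) [p.IsPrime] [IsDomain (p.Fiber D)] (ξ : Ideal D) [ξ.IsPrime]
    (hξ : ξ.comap (algebraMap R D) = p) (X : Type u) [AddCommGroup X] [Module D X] [Module.Finite D X]
    (h0 : Subsingleton (ξ.ResidueField ⊗[D] X)) :
    Module.supportDim (p.Fiber D) (FlatCA.fiberMod p D X) < (n : WithBot ℕ∞) := by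
  have h1 : (⟨ξ, inferInstance⟩ : PrimeSpectrum D) ∉ Module.support D X := fun hm =>
    not_nontrivial_iff_subsingleton.2 h0 ((Module.mem_support_iff_nontrivial_residueField_tensorProduct _).1 hm)
  rw [Module.mem_support_iff_of_finite] at h1
  obtain ⟨d, hd, hdξ⟩ := SetLike.not_le_iff_exists.1 h1
  exact supportDim_lt (X := p.Fiber D ⊗[D] X) (ringKrullDim_fiber_le hs p) (one_tmul_ne_zero p ξ hξ hdξ)
    (mem_annihilator_fiberMod p X hd)

end Groth.Agent.RG.Dev
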