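import Mathlib
import Groth.Prelude

/-!
# One step of a complete dévissage at a point
-/

set_option autoImplicit false

universe u

open scoped TensorProduct

namespace Groth.Agent.RG.Dev

/-- One step of a complete dévissage at a point. -/
structure Step1 (R S : Type u) [CommRing R] [CommRing S] [Algebra R S] (N : Type u)
    [AddCommGroup N] [Module S N] (p : Ideal R) [p.IsPrime] (q : Ideal S) [q.IsPrime] : Type (u + 1) where
  A : Type u
  B : Type u
  M : Type u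
  r : ℕ
  [cA : CommRing A] [cB : CommRing B]
  [aRA : Algebra R A] [aRB : Algebra R B]
  [aBA : Algebra B A] [tRBA : IsScalarTower R B A]
  [aSA : Algebra S A] [tRSA : IsScalarTower R S A]
  [gM : AddCommGroup M] [mAM : Module A M] [mBM : Module B M] [tBAM : IsScalarTower B A M]
  [mRM : Module R M] [tRBM : IsScalarTower R B M]
  [mSM : Module S M] [tSAM : IsScalarTower S A M]
  [hp : (p.map (algebraMap R B)).IsPrime]
  α : (Fin r → B) →ₗ[B] M
  surjSA : Function.Surjective (algebraMap S A)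
  fpSA : Algebra.FinitePresentation S A
  finiteBA : Module.Finite B A
  smooth : Algebra.Smooth R B
  geomIrred : FlatCA.GeomIrredFibres R B
  finiteM : Module.Finite A M
  isoN : N ≃ₗ[S] M
  fibreIso : Function.Bijective (α.baseChange (p.map (algebraMap R B)).ResidueField)
  qB : Ideal B
  qA : Ideal A
  [hqB : qB.IsPrime] [hqA : qA.IsPrime]
  [overB : qB.LiesOver p] [overA : qA.LiesOver qB]
  pureTrans : FlatCA.PurelyTranscendental p qB
  uniq : ∀ (Q : Ideal A) [Q.IsPrime], Q.LiesOver qB → Q = qA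
  q0 : qA.comap (algebraMap S A) = q
  d : ℕ
  relDim : FlatCA.SmoothRelDim d R B
  locDim : ∃ (x : PrimeSpectrum (p.Fiber B)) (hx : x ∈ Module.support (p.Fiber B) (FlatCA.fiberMod p B M)),
    x.asIdeal = FlatCA.fiberIdeal p qB ∧
    FlatMor.localDim (Module.support (p.Fiber B) (FlatCA.fiberMod p B M)) ⟨x, hx⟩ = d

attribute [instance] Step1.cA Step1.cB Step1.aRA Step1.aRB Step1.aBA Step1.tRBA Step1.aSA Step1.tRSA
  Step1.gM Step1.mAM Step1.mBM Step1.tBAM Step1.mRM Step1.tRBM Step1.mSM Step1.tSAM Step1.hp Step1.hqB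
  Step1.hqA Step1.overB Step1.overA

variable {R S : Type u} [CommRing R] [CommRing S] [Algebra R S] {N : Type u}
  [AddCommGroup N] [Module S N] {p : Ideal R} [p.IsPrime] {q : Ideal S} [q.IsPrime]

/-- A complete dévissage at a point with given number of steps. -/
def HasDevN (R S : Type u) [CommRing R] [CommRing S] [Algebra R S] (N : Type u)
    [AddCommGroup N] [Module S N] (p : Ideal R) [p.IsPrime] (q : Ideal S) [q.IsPrime] (n : ℕ) : Prop :=
  ∃ D : FlatCA.CompleteDevissage R S N p, D.n = n ∧ Nonempty (FlatCA.CompleteDevissageAt R S N p q D)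

/-- A step with surjective map is a complete dévissage. -/
theorem hasDev_single (s : Step1 R S N p q) (h : Function.Surjective s.α) :
    FlatCA.HasCompleteDevissageAt R S N p q := by
  let D : FlatCA.CompleteDevissage R S N p :=
    { n := 1, pos := one_pos, A := fun _ => s.A, B := fun _ => s.B, M := fun _ => s.M, r := fun _ => s.r
      cA := fun _ => s.cA, cB := fun _ => s.cB, aRA := fun _ => s.aRA, aRB := fun _ => s.aRB
      aBA := fun _ => s.aBA, tRBA := fun _ => s.tRBA, aSA := s.aSA, tRSA := s.tRSA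
      aBA' := fun _ => s.aBA, tRBA' := fun _ => s.tRBA, gM := fun _ => s.gM, mAM := fun _ => s.mAM
      mBM := fun _ => s.mBM, tBAM := fun _ => s.tBAM, mRM := fun _ => s.mRM, tRBM := fun _ => s.tRBM
      mSM := s.mSM, tSAM := s.tSAM, mB'M := fun _ => s.mBM, tB'AM := fun _ => s.tBAM, hp := fun _ => s.hp
      α := fun _ => s.α, surjSA := s.surjSA, fpSA := s.fpSA
      surjBA' := fun i hi => absurd hi (by omega), fpBA' := fun i hi => absurd hi (by omega)
      finiteBA := fun _ _ => s.finiteBA, smooth := fun _ _ => s.smooth, geomIrred := fun _ _ => s.geomIrred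
      finiteM := fun _ _ => s.finiteM, isoN := s.isoN, isoCoker := fun i hi => absurd hi (by omega)
      fibreIso := fun _ _ => s.fibreIso, cokerLast := h }
  exact ⟨D, ⟨{ qB := fun _ => s.qB, qA := fun _ => s.qA, hqB := fun _ => s.hqB, hqA := fun _ => s.hqA
               overB := fun _ => s.overB, overA := fun _ => s.overA, pureTrans := fun _ _ => s.pureTrans
               uniq := fun _ _ => s.uniq, q0 := s.q0, qStep := fun i hi => absurd hi (show ¬ i + 1 < 1 by omega)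
               d := fun _ => s.d, relDim := fun _ _ => s.relDim, locDim := fun _ _ => s.locDim }⟩⟩

/-- A step followed by a complete dévissage of its cokernel is a complete dévissage. -/
theorem hasDev_prepend (s : Step1 R S N p q) (N₁ : Type u) [AddCommGroup N₁] [Module s.B N₁]
    (e : (s.M ⧸ LinearMap.range s.α) ≃ₗ[s.B] N₁) (h : FlatCA.HasCompleteDevissageAt R s.B N₁ p s.qB) :
    FlatCA.HasCompleteDevissageAt R S N p q := by
  obtain ⟨𝒟, ⟨𝒜⟩⟩ := h
  let A' : ℕ → Type u := fun | 0 => s.A | i + 1 => 𝒟.A i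
  let B' : ℕ → Type u := fun | 0 => s.B | i + 1 => 𝒟.B i
  let M' : ℕ → Type u := fun | 0 => s.M | i + 1 => 𝒟.M i
  let r' : ℕ → ℕ := fun | 0 => s.r | i + 1 => 𝒟.r i
  letI cA : ∀ i, CommRing (A' i) := fun | 0 => s.cA | i + 1 => 𝒟.cA i
  letI cB : ∀ i, CommRing (B' i) := fun | 0 => s.cB | i + 1 => 𝒟.cB i
  letI aRA : ∀ i, Algebra R (A' i) := fun | 0 => s.aRA | i + 1 => 𝒟.aRA i
  letI aRB : ∀ i, Algebra R (B' i) := fun | 0 => s.aRB | i + 1 => 𝒟.aRB i
  letI aBA : ∀ i, Algebra (B' i) (A' i) := fun | 0 => s.aBA | i + 1 => 𝒟.aBA i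
  haveI tRBA : ∀ i, IsScalarTower R (B' i) (A' i) := fun | 0 => s.tRBA | i + 1 => 𝒟.tRBA i
  letI aBA' : ∀ i, Algebra (B' i) (A' (i + 1)) := fun | 0 => 𝒟.aSA | i + 1 => 𝒟.aBA' i
  haveI tRBA' : ∀ i, IsScalarTower R (B' i) (A' (i + 1)) := fun | 0 => 𝒟.tRSA | i + 1 => 𝒟.tRBA' i
  letI gM : ∀ i, AddCommGroup (M' i) := fun | 0 => s.gM | i + 1 => 𝒟.gM i
  letI mAM : ∀ i, Module (A' i) (M' i) := fun | 0 => s.mAM | i + 1 => 𝒟.mAM i
  letI mBM : ∀ i, Module (B' i) (M' i) := fun | 0 => s.mBM | i + 1 => 𝒟.mBM i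
  haveI tBAM : ∀ i, IsScalarTower (B' i) (A' i) (M' i) := fun | 0 => s.tBAM | i + 1 => 𝒟.tBAM i
  letI mRM : ∀ i, Module R (M' i) := fun | 0 => s.mRM | i + 1 => 𝒟.mRM i
  haveI tRBM : ∀ i, IsScalarTower R (B' i) (M' i) := fun | 0 => s.tRBM | i + 1 => 𝒟.tRBM i
  letI mB'M : ∀ i, Module (B' i) (M' (i + 1)) := fun | 0 => 𝒟.mSM | i + 1 => 𝒟.mB'M i
  haveI tB'AM : ∀ i, IsScalarTower (B' i) (A' (i + 1)) (M' (i + 1)) := fun | 0 => 𝒟.tSAM | i + 1 => 𝒟.tB'AM i
  haveI hp : ∀ i, (p.map (algebraMap R (B' i))).IsPrime := fun | 0 => s.hp | i + 1 => 𝒟.hp i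
  let α' : ∀ i, (Fin (r' i) → B' i) →ₗ[B' i] M' i := fun | 0 => s.α | i + 1 => 𝒟.α i
  have hlast : ∀ j, j = 𝒟.n → Function.Surjective (α' j) := fun
    | 0 => fun h0 => absurd 𝒟.pos (by omega)
    | k + 1 => fun hk => by
      obtain rfl : k = 𝒟.n - 1 := by omega
      exact 𝒟.cokerLast
  let D : FlatCA.CompleteDevissage R S N p :=
    { n := 𝒟.n + 1, pos := Nat.succ_pos _, A := A', B := B', M := M', r := r'
      cA := cA, cB := cB, aRA := aRA, aRB := aRB, aBA := aBA, tRBA := tRBA, aSA := s.aSA, tRSA := s.tRSA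
      aBA' := aBA', tRBA' := tRBA', gM := gM, mAM := mAM, mBM := mBM, tBAM := tBAM, mRM := mRM, tRBM := tRBM
      mSM := s.mSM, tSAM := s.tSAM, mB'M := mB'M, tB'AM := tB'AM, hp := hp
      α := α', surjSA := s.surjSA, fpSA := s.fpSA
      surjBA' := fun | 0 => fun _ => 𝒟.surjSA | i + 1 => fun hi => 𝒟.surjBA' i (by omega)
      fpBA' := fun | 0 => fun _ => 𝒟.fpSA | i + 1 => fun hi => 𝒟.fpBA' i (by omega)
      finiteBA := fun | 0 => fun _ => s.finiteBA | i + 1 => fun hi => 𝒟.finiteBA i (by omega)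
      smooth := fun | 0 => fun _ => s.smooth | i + 1 => fun hi => 𝒟.smooth i (by omega)
      geomIrred := fun | 0 => fun _ => s.geomIrred | i + 1 => fun hi => 𝒟.geomIrred i (by omega)
      finiteM := fun | 0 => fun _ => s.finiteM | i + 1 => fun hi => 𝒟.finiteM i (by omega)
      isoN := s.isoN
      isoCoker := fun | 0 => fun _ => e.trans 𝒟.isoN | i + 1 => fun hi => 𝒟.isoCoker i (by omega)
      fibreIso := fun | 0 => fun _ => s.fibreIso | i + 1 => fun hi => 𝒟.fibreIso i (by omega)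
      cokerLast := hlast (𝒟.n + 1 - 1) (by omega) }
  exact ⟨D, ⟨
    { qB := fun | 0 => s.qB | i + 1 => 𝒜.qB i
      qA := fun | 0 => s.qA | i + 1 => 𝒜.qA i
      hqB := fun | 0 => s.hqB | i + 1 => 𝒜.hqB i
      hqA := fun | 0 => s.hqA | i + 1 => 𝒜.hqA i
      overB := fun | 0 => s.overB | i + 1 => 𝒜.overB i
      overA := fun | 0 => s.overA | i + 1 => 𝒜.overA i
      pureTrans := fun | 0 => fun _ => s.pureTrans | i + 1 => fun hi => 𝒜.pureTrans i (by simp only [D] at hi; omega)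
      uniq := fun | 0 => fun _ => s.uniq | i + 1 => fun hi => 𝒜.uniq i (by simp only [D] at hi; omega)
      q0 := s.q0
      qStep := fun | 0 => fun _ => 𝒜.q0 | i + 1 => fun hi => 𝒜.qStep i (by simp only [D] at hi; omega)
      d := fun | 0 => s.d | i + 1 => 𝒜.d i
      relDim := fun | 0 => fun _ => s.relDim | i + 1 => fun hi => 𝒜.relDim i (by simp only [D] at hi; omega)
      locDim := fun | 0 => fun _ => s.locDim | i + 1 => fun hi => 𝒜.locDim i (by simp only [D] at hi; omega) }⟩⟩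

/-- A complete dévissage is a step followed by a shorter complete dévissage of the cokernel. -/
theorem exists_step1 {n : ℕ} (h : HasDevN R S N p q n) :
    ∃ s : Step1 R S N p q, (n = 1 → Function.Surjective s.α) ∧
      (1 < n → HasDevN R s.B (s.M ⧸ LinearMap.range s.α) p s.qB (n - 1)) := by
  obtain ⟨𝒟, rfl, ⟨𝒜⟩⟩ := h
  haveI := 𝒜.hqB
  haveI := 𝒜.hqA
  haveI := 𝒜.overB
  haveI := 𝒜.overA
  refine ⟨{ A := 𝒟.A 0, B := 𝒟.B 0, M := 𝒟.M 0, r := 𝒟.r 0, α := 𝒟.α 0, surjSA := 𝒟.surjSA, fpSA := 𝒟.fpSA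
            finiteBA := 𝒟.finiteBA 0 𝒟.pos, smooth := 𝒟.smooth 0 𝒟.pos, geomIrred := 𝒟.geomIrred 0 𝒟.pos
            finiteM := 𝒟.finiteM 0 𝒟.pos, isoN := 𝒟.isoN, fibreIso := 𝒟.fibreIso 0 𝒟.pos
            qB := 𝒜.qB 0, qA := 𝒜.qA 0, pureTrans := 𝒜.pureTrans 0 𝒟.pos, uniq := 𝒜.uniq 0 𝒟.pos
            q0 := 𝒜.q0, d := 𝒜.d 0, relDim := 𝒜.relDim 0 𝒟.pos, locDim := 𝒜.locDim 0 𝒟.pos },
    fun hn => ?_, fun hn => ?_⟩
  · have : ∀ j, j = 𝒟.n - 1 → Function.Surjective (𝒟.α j) := by rintro j rfl; exact 𝒟.cokerLast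
    exact this 0 (by omega)
  · let E : FlatCA.CompleteDevissage R (𝒟.B 0) (𝒟.M 0 ⧸ LinearMap.range (𝒟.α 0)) p :=
      { n := 𝒟.n - 1, pos := by omega, A := fun i => 𝒟.A (i + 1), B := fun i => 𝒟.B (i + 1)
        M := fun i => 𝒟.M (i + 1), r := fun i => 𝒟.r (i + 1)
        cA := fun i => 𝒟.cA (i + 1), cB := fun i => 𝒟.cB (i + 1), aRA := fun i => 𝒟.aRA (i + 1)
        aRB := fun i => 𝒟.aRB (i + 1), aBA := fun i => 𝒟.aBA (i + 1), tRBA := fun i => 𝒟.tRBA (i + 1)
        aSA := 𝒟.aBA' 0, tRSA := 𝒟.tRBA' 0, aBA' := fun i => 𝒟.aBA' (i + 1)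
        tRBA' := fun i => 𝒟.tRBA' (i + 1), gM := fun i => 𝒟.gM (i + 1), mAM := fun i => 𝒟.mAM (i + 1)
        mBM := fun i => 𝒟.mBM (i + 1), tBAM := fun i => 𝒟.tBAM (i + 1), mRM := fun i => 𝒟.mRM (i + 1)
        tRBM := fun i => 𝒟.tRBM (i + 1), mSM := 𝒟.mB'M 0, tSAM := 𝒟.tB'AM 0
        mB'M := fun i => 𝒟.mB'M (i + 1), tB'AM := fun i => 𝒟.tB'AM (i + 1), hp := fun i => 𝒟.hp (i + 1)
        α := fun i => 𝒟.α (i + 1), surjSA := 𝒟.surjBA' 0 (by omega), fpSA := 𝒟.fpBA' 0 (by omega)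
        surjBA' := fun i hi => 𝒟.surjBA' (i + 1) (by omega), fpBA' := fun i hi => 𝒟.fpBA' (i + 1) (by omega)
        finiteBA := fun i hi => 𝒟.finiteBA (i + 1) (by omega), smooth := fun i hi => 𝒟.smooth (i + 1) (by omega)
        geomIrred := fun i hi => 𝒟.geomIrred (i + 1) (by omega), finiteM := fun i hi => 𝒟.finiteM (i + 1) (by omega)
        isoN := 𝒟.isoCoker 0 (by omega), isoCoker := fun i hi => 𝒟.isoCoker (i + 1) (by omega)
        fibreIso := fun i hi => 𝒟.fibreIso (i + 1) (by omega)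
        cokerLast := by
          have : ∀ j, j = 𝒟.n - 1 → Function.Surjective (𝒟.α j) := by rintro j rfl; exact 𝒟.cokerLast
          exact this (𝒟.n - 1 - 1 + 1) (by omega) }
    exact ⟨E, rfl, ⟨
      { qB := fun i => 𝒜.qB (i + 1), qA := fun i => 𝒜.qA (i + 1)
        hqB := fun i => 𝒜.hqB (i + 1), hqA := fun i => 𝒜.hqA (i + 1)
        overB := fun i => 𝒜.overB (i + 1), overA := fun i => 𝒜.overA (i + 1)
        pureTrans := fun i hi => 𝒜.pureTrans (i + 1) (by simp only [E] at hi; omega)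
        uniq := fun i hi => 𝒜.uniq (i + 1) (by simp only [E] at hi; omega)
        q0 := 𝒜.qStep 0 (by omega), qStep := fun i hi => 𝒜.qStep (i + 1) (by simp only [E] at hi; omega)
        d := fun i => 𝒜.d (i + 1), relDim := fun i hi => 𝒜.relDim (i + 1) (by simp only [E] at hi; omega)
        locDim := fun i hi => 𝒜.locDim (i + 1) (by simp only [E] at hi; omega) }⟩⟩

/-- Complete dévissages are carried along isomorphisms of modules. -/
theorem hasDev_equiv {N' : Type u} [AddCommGroup N'] [Module S N'] (e : N' ≃ₗ[S] N)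
    (h : FlatCA.HasCompleteDevissageAt R S N p q) : FlatCA.HasCompleteDevissageAt R S N' p q := by
  obtain ⟨𝒟, ⟨𝒜⟩⟩ := h
  exact ⟨{ 𝒟 with isoN := e.trans 𝒟.isoN },
    ⟨{ qB := 𝒜.qB, qA := 𝒜.qA, hqB := 𝒜.hqB, hqA := 𝒜.hqA, overB := 𝒜.overB, overA := 𝒜.overA
       pureTrans := 𝒜.pureTrans, uniq := 𝒜.uniq, q0 := 𝒜.q0, qStep := 𝒜.qStep, d := 𝒜.d
       relDim := 𝒜.relDim, locDim := 𝒜.locDim }⟩⟩

end Groth.Agent.RG.Dev
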