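import Groth.Agent.RG.Dev.LocalStructure
import Groth.Agent.RG.Dev.StepData
import Groth.Agent.RG.Dev.EtaleMaps
import Groth.Agent.RG.Dev.FibreSupport
import Groth.Agent.RG.Dev.DevBC

/-!
# Tools for the existence of complete dévissages
-/

set_option autoImplicit false

universe u

open CategoryTheory AlgebraicGeometry Limits Topology
open scoped TensorProduct
open Groth.Agent

namespace Groth.Agent.RG.Dev.DevTools

/-- Base change along a closed immersion. -/
theorem isPushout_of_surjective {S C T C' : Type u} [CommRing S] [CommRing C] [CommRing T] [CommRing C'] [Algebra S C]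
    [Algebra S T] [Algebra C C'] [Algebra T C'] [Algebra S C'] [IsScalarTower S C C'] [IsScalarTower S T C']
    (hC : Function.Surjective (algebraMap S C)) (hT : Function.Surjective (algebraMap T C'))
    (hker : RingHom.ker (algebraMap T C') ≤ (RingHom.ker (algebraMap S C)).map (algebraMap S T)) :
    Algebra.IsPushout S C T C' := by
  let ψ : T →ₐ[S] C ⊗[S] T := Algebra.TensorProduct.includeRight
  let Φ : C ⊗[S] T →ₐ[C] C' :=
    Algebra.TensorProduct.lift (Algebra.ofId C C') (IsScalarTower.toAlgHom S T C') fun _ _ => Commute.all _ _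
  have hψ : Function.Surjective ψ := fun z => by
    induction z using TensorProduct.induction_on with
    | zero => exact ⟨0, map_zero ψ⟩
    | tmul c t =>
      obtain ⟨a, rfl⟩ := hC c
      exact ⟨a • t, by rw [map_smul]; simp [ψ, TensorProduct.smul_tmul', Algebra.algebraMap_eq_smul_one]⟩
    | add z w hz hw =>
      obtain ⟨a, rfl⟩ := hz
      obtain ⟨b, rfl⟩ := hw
      exact ⟨a + b, map_add ψ a b⟩
  have hΦψ : ∀ t, Φ (ψ t) = algebraMap T C' t := fun t => by
    show Φ ((1 : C) ⊗ₜ[S] t) = _
    simp [Φ]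
  have hJ : (RingHom.ker (algebraMap S C)).map (algebraMap S T) ≤ RingHom.ker ψ.toRingHom := by
    rw [Ideal.map_le_iff_le_comap]
    intro a ha
    show ψ (algebraMap S T a) = 0
    rw [AlgHom.commutes, IsScalarTower.algebraMap_apply S C (C ⊗[S] T), RingHom.mem_ker.1 ha, map_zero]
  have hbij : Function.Bijective Φ := by
    refine ⟨(injective_iff_map_eq_zero Φ).2 fun z hz => ?_, fun w => ?_⟩
    · obtain ⟨t, rfl⟩ := hψ z
      rw [hΦψ] at hz
      exact hJ (hker hz)
    · obtain ⟨t, rfl⟩ := hT w
      exact ⟨ψ t, hΦψ t⟩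
  letI : Algebra T (C ⊗[S] T) := Algebra.TensorProduct.rightAlgebra
  exact Algebra.IsPushout.of_equiv (R := S) (R' := C) (S := T) (S' := C ⊗[S] T) (AlgEquiv.ofBijective Φ hbij)
    (RingHom.ext fun t => hΦψ t)

/-- A surjection does not change residue fields. -/
theorem residue_bijective_of_surjective {A B : Type u} [CommRing A] [CommRing B] [Algebra A B]
    (h : Function.Surjective (algebraMap A B)) (a : Ideal A) [a.IsPrime] (b : Ideal B) [b.IsPrime]
    (hab : a = b.comap (algebraMap A B)) :
    Function.Bijective (Ideal.ResidueField.map a b (algebraMap A B) hab) := by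
  set m := Ideal.ResidueField.map a b (algebraMap A B) hab
  have key : ∀ x : B, algebraMap B b.ResidueField x ∈ m.fieldRange := fun x => by
    obtain ⟨y, rfl⟩ := h x
    exact ⟨algebraMap A a.ResidueField y, Ideal.ResidueField.map_algebraMap ..⟩
  refine ⟨m.injective, fun y => ?_⟩
  obtain ⟨c, d, hd, rfl⟩ := IsFractionRing.div_surjective (B ⧸ b) y
  obtain ⟨c, rfl⟩ := Ideal.Quotient.mk_surjective c
  obtain ⟨d, rfl⟩ := Ideal.Quotient.mk_surjective d
  exact div_mem (key c) (key d)

/-- Replace the module to be tensored by a base change of it. -/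
noncomputable def cancelEquiv {A B C : Type u} [CommRing A] [CommRing B] [CommRing C] [Algebra A B] [Algebra B C]
    [Algebra A C] [IsScalarTower A B C] {M M' : Type u} [AddCommGroup M] [Module A M] [AddCommGroup M'] [Module B M']
    [Module A M'] [IsScalarTower A B M'] {f : M →ₗ[A] M'} (hf : IsBaseChange B f) :
    C ⊗[A] M ≃ₗ[C] C ⊗[B] M' :=
  (TensorProduct.AlgebraTensorModule.cancelBaseChange A B C C M).symm ≪≫ₗ
    TensorProduct.AlgebraTensorModule.congr (LinearEquiv.refl C C) hf.equiv

/-- The support of a fibre module has finite local dimension. -/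
theorem exists_localDim_eq {R S : Type u} [CommRing R] [CommRing S] [Algebra R S] [Algebra.FiniteType R S]
    (N : Type u) [AddCommGroup N] [Module S N] [Module.Finite S N] (p : Ideal R) [p.IsPrime] (q : Ideal S) [q.IsPrime]
    [q.LiesOver p] (x : PrimeSpectrum (p.Fiber S)) (hxq : x.asIdeal = FlatCA.fiberIdeal p q)
    (hx : x ∈ Module.support (p.Fiber S) (FlatCA.fiberMod p S N)) :
    ∃ n : ℕ, FlatMor.localDim (Module.support (p.Fiber S) (FlatCA.fiberMod p S N)) ⟨x, hx⟩ = n := by
  obtain ⟨J, -, hJann, hJ⟩ := ElemDev.exists_ideal (R := R) (S := S) N p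
  obtain ⟨X, q₀, _, _, -, -, hXn⟩ := ElemDev.exists_point N p q J hJann hJ _ x hxq hx rfl
  obtain ⟨b, δ, -, hD, -⟩ := CMChart.localDim_primeSpectrum (k := p.ResidueField) X
  exact ⟨b + δ, hXn.symm.trans hD⟩

/-- The point of a fibre defined by a prime. -/
theorem exists_fibre_point {R S : Type u} [CommRing R] [CommRing S] [Algebra R S] (p : Ideal R) [p.IsPrime]
    (q : Ideal S) [q.IsPrime] [q.LiesOver p] :
    ∃ x : PrimeSpectrum (p.Fiber S), x.asIdeal = FlatCA.fiberIdeal p q ∧ Shrink.proj S p x = ⟨q, ‹_›⟩ := by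
  obtain ⟨X, hX⟩ := FibreBij.exists_fiber_point p q
  exact ⟨X, by rw [← Shrink.fiberIdeal_eq p X, hX], PrimeSpectrum.ext hX⟩

/-- The local dimension of the support of the fibre module is unchanged by étale neighbourhoods. -/
theorem localDim_support_etale {R S R' S' : Type u} [CommRing R] [CommRing S] [CommRing R'] [CommRing S'] [Algebra R S]
    [Algebra.FiniteType R S] [Algebra R R'] [Algebra S S'] [Algebra R' S'] [Algebra R S'] [IsScalarTower R R' S']
    [IsScalarTower R S S'] [Algebra.Etale R R'] [Algebra.Etale S S']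
    (N : Type u) [AddCommGroup N] [Module S N] [Module.Finite S N]
    (N' : Type u) [AddCommGroup N'] [Module S' N'] [Module S N'] [IsScalarTower S S' N'] (f : N →ₗ[S] N')
    (hf : IsBaseChange S' f) (p : Ideal R) [p.IsPrime] (q : Ideal S) [q.IsPrime] [q.LiesOver p]
    (p' : Ideal R') [p'.IsPrime] [p'.LiesOver p] (q' : Ideal S') [q'.IsPrime] [q'.LiesOver p'] [q'.LiesOver q]
    (x : PrimeSpectrum (p.Fiber S)) (hxq : x.asIdeal = FlatCA.fiberIdeal p q)
    (hx : x ∈ Module.support (p.Fiber S) (FlatCA.fiberMod p S N)) :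
    ∃ (x' : PrimeSpectrum (p'.Fiber S')) (hx' : x' ∈ Module.support (p'.Fiber S') (FlatCA.fiberMod p' S' N')),
      x'.asIdeal = FlatCA.fiberIdeal p' q' ∧
      FlatMor.localDim (Module.support (p'.Fiber S') (FlatCA.fiberMod p' S' N')) ⟨x', hx'⟩ =
        FlatMor.localDim (Module.support (p.Fiber S) (FlatCA.fiberMod p S N)) ⟨x, hx⟩ := by
  haveI : Algebra.FiniteType R S' := Algebra.FiniteType.trans (S := S) inferInstance inferInstance
  haveI : Algebra.FiniteType R' S' := Algebra.FiniteType.of_restrictScalars_finiteType R R' S'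
  haveI : Module.Finite S' N' := Module.Finite.equiv hf.equiv
  have hN' : Module.support S' N' = PrimeSpectrum.comap (algebraMap S S') ⁻¹' Module.support S N := by
    rw [← hf.equiv.support_eq]; exact S6284.result N
  obtain ⟨J, -, hJann, hJ⟩ := ElemDev.exists_ideal (R := R) (S := S) N p
  let J' : Ideal S' := J.map (algebraMap S S')
  have hJann' : J' ≤ Module.annihilator S' N' := by
    rw [Ideal.map_le_iff_le_comap]
    intro s hs
    rw [Ideal.mem_comap, Module.mem_annihilator]
    intro w
    obtain ⟨w, rfl⟩ := hf.equiv.surjective w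
    rw [← map_smul, map_eq_zero_iff _ hf.equiv.injective, algebraMap_smul]
    induction w using TensorProduct.induction_on with
    | zero => rw [smul_zero]
    | tmul a b => rw [← TensorProduct.tmul_smul, Module.mem_annihilator.1 (hJann hs) b, TensorProduct.tmul_zero]
    | add a b ha hb => rw [smul_add, ha, hb, add_zero]
  have hJ' : ∀ Q : PrimeSpectrum S', Q.asIdeal.comap (algebraMap R' S') = p' → J' ≤ Q.asIdeal →
      Q ∈ Module.support S' N' := fun Q hQp hQJ => by
    rw [hN']
    refine hJ _ ?_ (Ideal.map_le_iff_le_comap.1 hQJ)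
    show (Q.asIdeal.comap (algebraMap S S')).comap (algebraMap R S) = p
    rw [Ideal.comap_comap, ← IsScalarTower.algebraMap_eq, IsScalarTower.algebraMap_eq R R' S', ← Ideal.comap_comap,
      hQp]
    exact (p'.over_def p).symm
  obtain ⟨X, q₀, _, _, hq₀q, hXq, hXn⟩ := ElemDev.exists_point N p q J hJann hJ _ x hxq hx rfl
  obtain ⟨x', hx'q, hx'p⟩ := exists_fibre_point p' q'
  have hqN : (⟨q, ‹_›⟩ : PrimeSpectrum S) ∈ Module.support S N := by
    obtain ⟨x₀, hx₀, hx₀p⟩ := exists_fibre_point p q
    obtain rfl : x₀ = x := PrimeSpectrum.ext (hx₀.trans hxq.symm)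
    rw [← hx₀p]
    rwa [Shrink.support_fiberMod] at hx
  have hx' : x' ∈ Module.support (p'.Fiber S') (FlatCA.fiberMod p' S' N') := by
    rw [Shrink.support_fiberMod, Set.mem_preimage, hx'p, hN']
    show PrimeSpectrum.comap (algebraMap S S') ⟨q', ‹_›⟩ ∈ Module.support S N
    rwa [show PrimeSpectrum.comap (algebraMap S S') ⟨q', ‹_›⟩ = ⟨q, ‹_›⟩ from PrimeSpectrum.ext (q'.over_def q).symm]
  refine ⟨x', hx', hx'q, ?_⟩
  obtain ⟨X', q₀', _, _, hq₀'q, hX'q, hX'n⟩ := ElemDev.exists_point N' p' q' J' hJann' hJ' _ x' hx'q hx' rfl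
  rw [← hXn, ← hX'n, ← SyntLib.fibreDimAt_eq_localDim p X, ← SyntLib.fibreDimAt_eq_localDim p' X']
  let a := Spec.map (CommRingCat.ofHom (algebraMap R (S ⧸ J)))
  let a' := Spec.map (CommRingCat.ofHom (algebraMap R' (S' ⧸ J')))
  let e := Spec.map (CommRingCat.ofHom (algebraMap R R'))
  let m := Spec.map (CommRingCat.ofHom (algebraMap (S ⧸ J) (S' ⧸ J')))
  haveI : LocallyOfFiniteType a :=
    (HasRingHomProperty.Spec_iff (P := @LocallyOfFiniteType)).2 (RingHom.finiteType_algebraMap.2 inferInstance)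
  haveI : LocallyOfFiniteType a' :=
    (HasRingHomProperty.Spec_iff (P := @LocallyOfFiniteType)).2 (RingHom.finiteType_algebraMap.2 inferInstance)
  haveI : Algebra.Etale (S ⧸ J) (S' ⧸ J') := Algebra.Etale.of_equiv
    (AlgEquiv.ofRingEquiv (f := (Algebra.TensorProduct.quotIdealMapEquivQuotTensor S' J).symm.toRingEquiv)
      (fun r => (Algebra.TensorProduct.quotIdealMapEquivQuotTensor S' J).symm.commutes r))
  haveI : Etale e := (HasRingHomProperty.Spec_iff (P := @Etale)).2 (RingHom.etale_algebraMap.2 inferInstance)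
  haveI : Etale m := (HasRingHomProperty.Spec_iff (P := @Etale)).2 (RingHom.etale_algebraMap.2 inferInstance)
  let w' : Spec (CommRingCat.of (S' ⧸ J')) :=
    PrimeSpectrum.comap (Algebra.TensorProduct.includeRight : (S' ⧸ J') →ₐ[R'] p'.Fiber (S' ⧸ J')).toRingHom X'
  let w : Spec (CommRingCat.of (S ⧸ J)) :=
    PrimeSpectrum.comap (Algebra.TensorProduct.includeRight : (S ⧸ J) →ₐ[R] p.Fiber (S ⧸ J)).toRingHom X
  have hsq : a' ≫ e = m ≫ a := by
    rw [← Spec.map_comp, ← Spec.map_comp, ← CommRingCat.ofHom_comp, ← CommRingCat.ofHom_comp]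
    congr 2
    ext r
    show Ideal.Quotient.mk J' (algebraMap R' S' (algebraMap R R' r)) =
      Ideal.Quotient.mk J' (algebraMap S S' (algebraMap R S r))
    rw [← IsScalarTower.algebraMap_apply, ← IsScalarTower.algebraMap_apply]
  have hw : m w' = w := by
    refine (PrimeSpectrum.isClosedEmbedding_comap_of_surjective (S ⧸ J) (Ideal.Quotient.mk J)
      Ideal.Quotient.mk_surjective).injective (PrimeSpectrum.ext ?_)
    show (Ideal.comap (algebraMap (S ⧸ J) (S' ⧸ J'))
      (PrimeSpectrum.asIdeal (R := S' ⧸ J') w')).comap (Ideal.Quotient.mk J) =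
      (PrimeSpectrum.asIdeal (R := S ⧸ J) w).comap (Ideal.Quotient.mk J)
    rw [show PrimeSpectrum.asIdeal (R := S ⧸ J) w = q₀ from hXq, hq₀q,
      show PrimeSpectrum.asIdeal (R := S' ⧸ J') w' = q₀' from hX'q, Ideal.comap_comap]
    rw [show (algebraMap (S ⧸ J) (S' ⧸ J')).comp (Ideal.Quotient.mk J) =
      (Ideal.Quotient.mk J').comp (algebraMap S S') from RingHom.ext fun s => rfl, ← Ideal.comap_comap, hq₀'q]
    exact (q'.over_def q).symm
  show FlatMor.fibreDimAt a' w' = FlatMor.fibreDimAt a w
  rw [← SpRelDim.fibreDimAt_comp_etale a' e, hsq, SpRelDim.fibreDimAt_etale_comp m a, hw]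

/-- The local dimension of the whole fibre of a smooth algebra. -/
theorem localDim_support_eq_of_generic {R D : Type u} [CommRing R] [CommRing D] [Algebra R D] {n : ℕ}
    (hs : FlatCA.SmoothRelDim n R D) (p : Ideal R) [p.IsPrime] (G : Type u) [AddCommGroup G] [Module D G]
    [Module.Finite D G] [(p.map (algebraMap R D)).IsPrime]
    (hG : Nontrivial ((p.map (algebraMap R D)).ResidueField ⊗[D] G)) (y : Ideal D) [y.IsPrime] [y.LiesOver p] :
    ∃ (x : PrimeSpectrum (p.Fiber D)) (hx : x ∈ Module.support (p.Fiber D) (FlatCA.fiberMod p D G)),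
      x.asIdeal = FlatCA.fiberIdeal p y ∧
      FlatMor.localDim (Module.support (p.Fiber D) (FlatCA.fiberMod p D G)) ⟨x, hx⟩ = n := by
  haveI : Algebra.Smooth R D := Shrink.smooth_of_smoothRelDim hs
  have hξ : (⟨p.map (algebraMap R D), inferInstance⟩ : PrimeSpectrum D) ∈ Module.support D G :=
    (Module.mem_support_iff_nontrivial_residueField_tensorProduct _).2 hG
  have huniv : Module.support (p.Fiber D) (FlatCA.fiberMod p D G) = Set.univ := by
    refine Set.eq_univ_of_forall fun P => ?_
    rw [Shrink.support_fiberMod, Set.mem_preimage]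
    have hP : Shrink.proj D p P ∈ Set.range (Shrink.proj D p) := ⟨P, rfl⟩
    rw [Shrink.range_proj] at hP
    rw [Module.support_eq_zeroLocus, PrimeSpectrum.mem_zeroLocus] at hξ ⊢
    refine hξ.trans ?_
    show p.map (algebraMap R D) ≤ (Shrink.proj D p P).asIdeal
    rw [Ideal.map_le_iff_le_comap]
    exact (congrArg PrimeSpectrum.asIdeal hP).ge
  obtain ⟨x, hxq, -⟩ := exists_fibre_point p y
  refine ⟨x, huniv ▸ Set.mem_univ x, hxq, ?_⟩
  rw [← FibreBij.localDim_homeo ((Homeomorph.setCongr huniv).trans (Homeomorph.Set.univ _))]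
  show FlatMor.localDim (PrimeSpectrum (p.Fiber D)) x = n
  rw [← SyntLib.fibreDimAt_eq_localDim p x]
  haveI : SmoothOfRelativeDimension n (Spec.map (CommRingCat.ofHom (algebraMap R D))) := hs
  exact LocalDimBC.fibreDimAt_of_smoothOfRelativeDimension n _ _

/-- A module of small support dimension has small local dimension. -/
theorem localDim_le_supportDim {R S : Type u} [CommRing R] [CommRing S] [Algebra R S]
    (N : Type u) [AddCommGroup N] [Module S N] [Module.Finite S N] (p : Ideal R) [p.IsPrime]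
    (x : ↥(Module.support (p.Fiber S) (FlatCA.fiberMod p S N))) :
    FlatMor.localDim (Module.support (p.Fiber S) (FlatCA.fiberMod p S N)) x ≤
      Module.supportDim (p.Fiber S) (FlatCA.fiberMod p S N) := by
  haveI := Shrink.finite_fiberMod (S := S) p N
  rw [Shrink.supportDim_eq_topological]
  exact (iInf_le _ ⟨⊤, trivial⟩).trans IsInducing.subtypeVal.topologicalKrullDim_le

end Groth.Agent.RG.Dev.DevTools
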