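import Mathlib
import Groth.Agent.S9436

/-!
# Lifting étale algebras over a quotient, compatibly with an étale algebra over the base
-/

set_option autoImplicit false

universe u
open TensorProduct

namespace Groth.Agent.RG.Dev.EtaleLift

/-- An étale algebra over a finitely presented quotient `S ⧸ J` receiving an étale `R`-algebra `R₁` is the
quotient by `J` of an étale `S`-algebra which is an `R₁`-algebra. -/
theorem exists_lift {R S R₁ C : Type u} [CommRing R] [CommRing S] [Algebra R S] [CommRing R₁] [Algebra R R₁]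
    [Algebra.Etale R R₁] (J : Ideal S) (hJ : J.FG) [CommRing C] [Algebra (S ⧸ J) C] [Algebra.Etale (S ⧸ J) C]
    [Algebra R₁ C] (hc : ∀ r : R, algebraMap R₁ C (algebraMap R R₁ r) =
      algebraMap (S ⧸ J) C (Ideal.Quotient.mk J (algebraMap R S r))) :
    ∃ (S' : Type u) (_ : CommRing S') (_ : Algebra S S') (_ : Algebra R₁ S') (_ : Algebra R S')
      (_ : IsScalarTower R S S') (_ : IsScalarTower R R₁ S') (π : S' →+* C),
      Algebra.Etale S S' ∧ Function.Surjective π ∧
      (∀ s, π (algebraMap S S' s) = algebraMap (S ⧸ J) C (Ideal.Quotient.mk J s)) ∧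
      (∀ r, π (algebraMap R₁ S' r) = algebraMap R₁ C r) ∧ RingHom.ker π = J.map (algebraMap S S') := by
  obtain ⟨S₀, _, _, hS₀, ⟨e₀⟩⟩ := S9436.result S J C
  letI : Algebra R S₀ := ((algebraMap S S₀).comp (algebraMap R S)).toAlgebra
  haveI : IsScalarTower R S S₀ := IsScalarTower.of_algebraMap_eq fun _ ↦ rfl
  letI : Algebra S C := ((algebraMap (S ⧸ J) C).comp (Ideal.Quotient.mk J)).toAlgebra
  haveI : IsScalarTower S (S ⧸ J) C := IsScalarTower.of_algebraMap_eq fun _ ↦ rfl
  letI : Algebra R C := ((algebraMap R₁ C).comp (algebraMap R R₁)).toAlgebra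
  haveI : IsScalarTower R S C := IsScalarTower.of_algebraMap_eq fun r ↦ hc r
  -- the surjection of the first lift
  let π₀ : S₀ →ₐ[S] C :=
    (e₀.toAlgHom.restrictScalars S).comp (Algebra.TensorProduct.includeRight (R := S) (A := S ⧸ J))
  have hπ₀surj : Function.Surjective π₀ := fun z ↦ by
    obtain ⟨q, hq⟩ := (Algebra.TensorProduct.quotIdealMapEquivQuotTensor S₀ J).surjective (e₀.symm z)
    obtain ⟨b, rfl⟩ := Ideal.Quotient.mk_surjective q
    refine ⟨b, ?_⟩
    show e₀ (1 ⊗ₜ[S] b) = z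
    rw [← Algebra.TensorProduct.quotIdealMapEquivQuotTensor_mk, hq, e₀.apply_symm_apply]
  have hπ₀ker : ∀ b, π₀ b = 0 → b ∈ J.map (algebraMap S S₀) := fun b hb ↦ by
    have h : e₀ ((1 : S ⧸ J) ⊗ₜ[S] b) = 0 := hb
    rw [map_eq_zero_iff _ e₀.injective, ← Algebra.TensorProduct.quotIdealMapEquivQuotTensor_mk,
      map_eq_zero_iff _ (Algebra.TensorProduct.quotIdealMapEquivQuotTensor S₀ J).injective] at h
    exact Ideal.Quotient.eq_zero_iff_mem.1 h
  -- adjoin the algebra over the base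
  let B := S₀ ⊗[R] R₁
  haveI : Algebra.Etale S₀ B := inferInstance
  haveI : Algebra.Etale S B := Algebra.Etale.comp S S₀ B
  let j : R₁ →ₐ[R] C := { algebraMap R₁ C with commutes' := fun _ ↦ rfl }
  let π₁ : B →ₐ[S] C := Algebra.TensorProduct.lift π₀ j fun _ _ ↦ .all _ _
  have hπ₁ : ∀ b, π₁ (b ⊗ₜ 1) = π₀ b := fun b ↦ by
    show Algebra.TensorProduct.lift _ _ _ (b ⊗ₜ[R] 1) = _
    rw [Algebra.TensorProduct.lift_tmul, map_one, mul_one]
  have hπ₁surj : Function.Surjective π₁ := fun z ↦ by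
    obtain ⟨b, rfl⟩ := hπ₀surj z
    exact ⟨b ⊗ₜ 1, hπ₁ b⟩
  let I : Ideal B := RingHom.ker π₁.toRingHom
  let JB : Ideal B := J.map (algebraMap S B)
  have hJI : JB ≤ I := Ideal.map_le_iff_le_comap.2 fun s hs ↦ by
    show π₁ (algebraMap S B s) = 0
    rw [π₁.commutes, IsScalarTower.algebraMap_apply S (S ⧸ J) C, Ideal.Quotient.algebraMap_eq,
      Ideal.Quotient.eq_zero_iff_mem.2 hs, map_zero]
  -- the kernel is idempotent modulo `J`
  let Q := B ⧸ (JB ⊔ I * I)
  let fQ : S ⧸ J →+* Q := Ideal.Quotient.lift J ((Ideal.Quotient.mk (JB ⊔ I * I)).comp (algebraMap S B))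
    fun s hs ↦ Ideal.Quotient.eq_zero_iff_mem.2 (Ideal.mem_sup_left (Ideal.mem_map_of_mem _ hs))
  letI : Algebra (S ⧸ J) Q := fQ.toAlgebra
  haveI : IsScalarTower S (S ⧸ J) Q := IsScalarTower.of_algebraMap_eq fun _ ↦ rfl
  let mkQ : B →ₐ[S] Q := Ideal.Quotient.mkₐ S _
  let πQ : Q →ₐ[S] C := Ideal.Quotient.liftₐ _ π₁ fun b hb ↦
    (sup_le hJI Ideal.mul_le_left : JB ⊔ I * I ≤ I) hb
  have hπQ : ∀ b, πQ (mkQ b) = π₁ b := fun b ↦ rfl
  have hQsurj : Function.Surjective πQ := fun z ↦ by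
    obtain ⟨b, rfl⟩ := hπ₁surj z
    exact ⟨mkQ b, rfl⟩
  let πQ' : Q →ₐ[S ⧸ J] C := AlgHom.extendScalarsOfSurjective Ideal.Quotient.mk_surjective πQ
  have hnil : IsNilpotent (RingHom.ker πQ.toRingHom) := by
    refine ⟨2, ?_⟩
    rw [Submodule.pow_succ, Submodule.pow_one, Submodule.zero_eq_bot, eq_bot_iff, Ideal.mul_le]
    intro x hx y hy
    obtain ⟨a, rfl⟩ := Ideal.Quotient.mk_surjective x
    obtain ⟨b, rfl⟩ := Ideal.Quotient.mk_surjective y
    rw [Submodule.mem_bot, ← map_mul, Ideal.Quotient.eq_zero_iff_mem]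
    exact Ideal.mem_sup_right (Ideal.mul_mem_mul hx hy)
  obtain ⟨σ, hσ⟩ : ∃ σ : C →ₐ[S ⧸ J] Q, ∀ c, πQ (σ c) = c :=
    ⟨Algebra.FormallySmooth.liftOfSurjective (AlgHom.id _ _) πQ' (fun z ↦ hQsurj z) hnil,
      fun c ↦ Algebra.FormallySmooth.liftOfSurjective_apply (AlgHom.id _ _) πQ' (fun z ↦ hQsurj z) hnil c⟩
  have hmk : (σ.restrictScalars S).comp π₁ = mkQ :=
    Algebra.FormallyUnramified.ext' (R := S) πQ.toRingHom hnil _ _ fun b ↦ (hσ _).trans (hπQ b).symm
  have hIle : I ≤ JB ⊔ I * I := fun b hb ↦ by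
    refine Ideal.Quotient.eq_zero_iff_mem.1 ((DFunLike.congr_fun hmk b).symm.trans ?_)
    show σ (π₁ b) = 0
    rw [show π₁ b = 0 from hb, map_zero]
  -- finite generation and the idempotent
  haveI : Algebra.FinitePresentation S (S ⧸ J) := Algebra.FinitePresentation.quotient hJ
  haveI : Algebra.FinitePresentation S C := Algebra.FinitePresentation.trans S (S ⧸ J) C
  have hIfg : I.FG := Algebra.FinitePresentation.ker_fG_of_surjective π₁ hπ₁surj
  let I' : Ideal (B ⧸ JB) := I.map (Ideal.Quotient.mk JB)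
  have hidem : IsIdempotentElem I' := by
    refine le_antisymm Ideal.mul_le_left ?_
    rw [← Ideal.map_mul]
    refine (Ideal.map_mono hIle).trans ?_
    rw [Ideal.map_sup, Ideal.map_quotient_self, bot_sup_eq]
  obtain ⟨e, he, heI⟩ := (Ideal.isIdempotentElem_iff_of_fg I' (hIfg.map _)).1 hidem
  obtain ⟨e', he'I, rfl⟩ := (Ideal.mem_map_iff_of_surjective _ Ideal.Quotient.mk_surjective).1
    (show e ∈ I' from heI ▸ Ideal.mem_span_singleton_self e)
  let g : B := 1 - e'
  let S' := Localization.Away g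
  haveI : Algebra.Etale B S' := Algebra.Etale.of_isLocalizationAway g
  haveI : Algebra.Etale S S' := Algebra.Etale.comp S B S'
  letI : Algebra R₁ B := (Algebra.TensorProduct.includeRight (R := R) (A := S₀) (B := R₁)).toRingHom.toAlgebra
  letI : Algebra R₁ S' := ((algebraMap B S').comp (algebraMap R₁ B)).toAlgebra
  have hgu : IsUnit (π₁.toRingHom g) := by
    have : π₁.toRingHom g = 1 := by
      show π₁ (1 - e') = 1
      rw [map_sub, map_one, show π₁ e' = 0 from he'I, sub_zero]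
    rw [this]; exact isUnit_one
  let π : S' →+* C := IsLocalization.Away.lift g hgu
  have hπ : ∀ b, π (algebraMap B S' b) = π₁ b := fun b ↦ IsLocalization.Away.lift_eq g hgu b
  refine ⟨S', inferInstance, inferInstance, inferInstance, inferInstance, inferInstance,
    IsScalarTower.of_algebraMap_eq fun r ↦ ?_, π, inferInstance, fun z ↦ ?_, fun s ↦ ?_, fun r ↦ ?_, ?_⟩
  · show _ = algebraMap B S' ((1 : S₀) ⊗ₜ[R] algebraMap R R₁ r)
    rw [IsScalarTower.algebraMap_apply R B S']
    congr 1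
    rw [Algebra.TensorProduct.algebraMap_apply, Algebra.algebraMap_eq_smul_one r,
      Algebra.algebraMap_eq_smul_one r, TensorProduct.smul_tmul]
  · obtain ⟨b, rfl⟩ := hπ₁surj z
    exact ⟨algebraMap B S' b, hπ b⟩
  · rw [IsScalarTower.algebraMap_apply S B S', hπ, π₁.commutes]
    rfl
  · show π (algebraMap B S' ((1 : S₀) ⊗ₜ[R] r)) = _
    rw [hπ]
    show Algebra.TensorProduct.lift _ _ _ ((1 : S₀) ⊗ₜ[R] r) = _
    rw [Algebra.TensorProduct.lift_tmul, map_one, one_mul]
    rfl
  · refine le_antisymm (fun z hz ↦ ?_) (Ideal.map_le_iff_le_comap.2 fun s hs ↦ ?_)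
    · obtain ⟨b, m, rfl⟩ := IsLocalization.exists_mk'_eq (Submonoid.powers g) z
      rw [RingHom.mem_ker] at hz
      have hb : b ∈ I := by
        have h := congrArg π (IsLocalization.mk'_spec S' b m)
        rw [map_mul, hz, zero_mul, hπ] at h
        exact h.symm
      rw [IsLocalization.mk'_eq_mul_mk'_one]
      refine Ideal.mul_mem_right _ _ ?_
      rw [IsScalarTower.algebraMap_eq S B S', ← Ideal.map_map]
      -- the idempotent lies in `J` after localisation
      have hge : g * e' ∈ JB := by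
        refine Ideal.Quotient.eq_zero_iff_mem.1 ?_
        rw [map_mul, map_sub, map_one, sub_mul, one_mul, he.eq, sub_self]
      have he' : algebraMap B S' e' ∈ JB.map (algebraMap B S') := by
        have h := Ideal.mem_map_of_mem (algebraMap B S') hge
        rw [map_mul] at h
        exact (Ideal.unit_mul_mem_iff_mem _ (IsLocalization.Away.algebraMap_isUnit g)).1 h
      have hb' : Ideal.Quotient.mk JB b ∈ Ideal.span {Ideal.Quotient.mk JB e'} :=
        heI.le (Ideal.mem_map_of_mem _ hb)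
      obtain ⟨c, hc'⟩ := Ideal.mem_span_singleton'.1 hb'
      obtain ⟨c, rfl⟩ := Ideal.Quotient.mk_surjective c
      rw [← map_mul, Ideal.Quotient.eq] at hc'
      rw [show b = c * e' - (c * e' - b) by ring, map_sub, map_mul]
      exact sub_mem (Ideal.mul_mem_left _ _ he') (Ideal.mem_map_of_mem _ hc')
    · show π (algebraMap S S' s) = 0
      rw [IsScalarTower.algebraMap_apply S B S', hπ]
      exact hJI (Ideal.mem_map_of_mem _ hs)

end Groth.Agent.RG.Dev.EtaleLift
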