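import Groth.Agent.RG.Dev.Coords
import Groth.Agent.RG.Dev.EtaleLift
import Groth.Agent.RG.Dev.SmoothNbhd

/-!
# Existence of elementary dévissages
-/

set_option autoImplicit false

universe u

open scoped TensorProduct
open Groth.Agent

namespace Groth.Agent.RG.Dev.ElemDev

open Topology

/-- A closed subscheme of finite presentation of `Spec S` killing nothing of the fibre support. -/
theorem exists_ideal {R S : Type u} [CommRing R] [CommRing S] [Algebra R S] [Algebra.FiniteType R S]
    (N : Type u) [AddCommGroup N] [Module S N] [Module.Finite S N] (p : Ideal R) [p.IsPrime] :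
    ∃ J : Ideal S, J.FG ∧ J ≤ Module.annihilator S N ∧ ∀ Q : PrimeSpectrum S,
      Q.asIdeal.comap (algebraMap R S) = p → J ≤ Q.asIdeal → Q ∈ Module.support S N := by
  classical
  haveI : IsNoetherianRing (p.Fiber S) := Algebra.FiniteType.isNoetherianRing p.ResidueField _
  let inc : S →+* p.Fiber S := (Algebra.TensorProduct.includeRight (R := R) (A := p.ResidueField) (B := S)).toRingHom
  let A := (Module.annihilator S N : Set S)
  have hfg : (Submodule.span (p.Fiber S) (inc '' A)).FG := IsNoetherian.noetherian _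
  obtain ⟨t, htA, ht⟩ := (Submodule.fg_span_iff_fg_span_finset_subset _).1 hfg
  choose g hgA hg using fun a : t => htA a.2
  refine ⟨Ideal.span (Set.range g), Submodule.fg_span (Set.finite_range g), Ideal.span_le.2 ?_, fun Q hQp hJQ => ?_⟩
  · rintro _ ⟨a, rfl⟩; exact hgA a
  · haveI : Q.asIdeal.LiesOver p := ⟨hQp.symm⟩
    obtain ⟨X, hX⟩ := FibreBij.exists_fiber_point p Q.asIdeal
    rw [Module.support_eq_zeroLocus, PrimeSpectrum.mem_zeroLocus]
    intro a ha
    show a ∈ Q.asIdeal
    rw [← hX, Ideal.mem_comap]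
    have h1 : inc a ∈ Submodule.span (p.Fiber S) (t : Set (p.Fiber S)) := ht.le (Submodule.subset_span ⟨a, ha, rfl⟩)
    refine (Submodule.span_le.2 ?_ : Submodule.span (p.Fiber S) (t : Set (p.Fiber S)) ≤ X.asIdeal) h1
    intro b hb
    have h2 : g ⟨b, hb⟩ ∈ Q.asIdeal := hJQ (Ideal.subset_span ⟨⟨b, hb⟩, rfl⟩)
    rw [← hX, Ideal.mem_comap] at h2
    show (⟨b, hb⟩ : t).1 ∈ X.asIdeal
    rw [← hg ⟨b, hb⟩]
    exact h2

/-- The point, and its local dimension, on the fibre of the closed subscheme. -/
theorem exists_point {R S : Type u} [CommRing R] [CommRing S] [Algebra R S]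
    (N : Type u) [AddCommGroup N] [Module S N] [Module.Finite S N] (p : Ideal R) [p.IsPrime] (q : Ideal S) [q.IsPrime]
    [q.LiesOver p] (J : Ideal S) (hJann : J ≤ Module.annihilator S N)
    (hJ : ∀ Q : PrimeSpectrum S, Q.asIdeal.comap (algebraMap R S) = p → J ≤ Q.asIdeal → Q ∈ Module.support S N)
    (n : WithBot ℕ∞) (x : PrimeSpectrum (p.Fiber S)) (hxq : x.asIdeal = FlatCA.fiberIdeal p q)
    (hx : x ∈ Module.support (p.Fiber S) (FlatCA.fiberMod p S N))
    (hn : FlatMor.localDim (Module.support (p.Fiber S) (FlatCA.fiberMod p S N)) ⟨x, hx⟩ = n) :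
    ∃ (X : PrimeSpectrum (p.Fiber (S ⧸ J))) (q₀ : Ideal (S ⧸ J)) (_ : q₀.IsPrime) (_ : q₀.LiesOver p),
      q₀.comap (Ideal.Quotient.mk J) = q ∧
      X.asIdeal.comap (Algebra.TensorProduct.includeRight (R := R) (A := p.ResidueField) (B := S ⧸ J)).toRingHom = q₀ ∧
      FlatMor.localDim (PrimeSpectrum (p.Fiber (S ⧸ J))) X = n := by
  let g : PrimeSpectrum (p.Fiber (S ⧸ J)) → PrimeSpectrum S :=
    PrimeSpectrum.comap (Ideal.Quotient.mk J) ∘ Shrink.proj (S ⧸ J) p
  have hemb : IsEmbedding g :=
    (PrimeSpectrum.isClosedEmbedding_comap_of_surjective (S ⧸ J) (Ideal.Quotient.mk J)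
      Ideal.Quotient.mk_surjective).isEmbedding.comp (Shrink.proj_isEmbedding p)
  have hrange : Set.range g = PrimeSpectrum.comap (algebraMap R S) ⁻¹' {⟨p, ‹_›⟩} ∩ Module.support S N := by
    rw [Set.range_comp, Shrink.range_proj]
    refine Set.ext fun Q => ⟨?_, fun ⟨hQp, hQN⟩ => ?_⟩
    · rintro ⟨Q', hQ', rfl⟩
      refine ⟨?_, hJ _ ?_ ?_⟩
      · exact hQ'
      · exact congrArg PrimeSpectrum.asIdeal hQ'
      · intro a ha
        show Ideal.Quotient.mk J a ∈ Q'.asIdeal
        rw [Ideal.Quotient.eq_zero_iff_mem.2 ha]; exact zero_mem _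
    · rw [Module.support_eq_zeroLocus, PrimeSpectrum.mem_zeroLocus] at hQN
      obtain ⟨Q', rfl⟩ : Q ∈ Set.range (PrimeSpectrum.comap (Ideal.Quotient.mk J)) := by
        rw [range_comap_of_surjective _ _ Ideal.Quotient.mk_surjective, Ideal.mk_ker, PrimeSpectrum.mem_zeroLocus]
        exact fun a ha => hQN (hJann ha)
      exact ⟨Q', hQp, rfl⟩
  let e : PrimeSpectrum (p.Fiber (S ⧸ J)) ≃ₜ ↥(Module.support (p.Fiber S) (FlatCA.fiberMod p S N)) :=
    (hemb.toHomeomorph.trans (Homeomorph.setCongr hrange)).trans (Shrink.supportHomeo p N).symm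
  let X := e.symm ⟨x, hx⟩
  have hproj : Shrink.proj S p x = ⟨q, ‹_›⟩ := by
    obtain ⟨X', hX'⟩ := FibreBij.exists_fiber_point p q
    have : x = X' := PrimeSpectrum.ext (by rw [hxq, ← hX', Shrink.fiberIdeal_eq])
    exact PrimeSpectrum.ext (this ▸ hX')
  have hgX : g X = ⟨q, ‹_›⟩ := by
    have h1 : g X = Shrink.proj S p x := by
      show g X = (Shrink.supportHomeo p N ⟨x, hx⟩).1
      simp [X, e]
      exact hemb.toHomeomorph_apply_coe _ ▸ congrArg Subtype.val (hemb.toHomeomorph.apply_symm_apply _)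
    exact h1.trans hproj
  let Q₀ := Shrink.proj (S ⧸ J) p X
  refine ⟨X, Q₀.asIdeal, Q₀.isPrime, ⟨?_⟩, congrArg PrimeSpectrum.asIdeal hgX, rfl, ?_⟩
  · have : Q₀ ∈ Set.range (Shrink.proj (S ⧸ J) p) := ⟨X, rfl⟩
    rw [Shrink.range_proj] at this
    exact (congrArg PrimeSpectrum.asIdeal this).symm
  · rw [← FibreBij.localDim_homeo e X, e.apply_symm_apply]
    exact hn

/-- A finite étale chart over a smooth algebra of relative dimension `n`, at a point with purely transcendental
residue field. -/
theorem exists_finite_chart {R C : Type u} [CommRing R] [CommRing C] [Algebra R C] [Algebra.FiniteType R C]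
    (p : Ideal R) [p.IsPrime] (q : Ideal C) [q.IsPrime] [q.LiesOver p] (n : ℕ)
    (X : PrimeSpectrum (p.Fiber C))
    (hXq : X.asIdeal.comap (Algebra.TensorProduct.includeRight (R := R) (A := p.ResidueField) (B := C)).toRingHom = q)
    (hn : FlatMor.localDim (PrimeSpectrum (p.Fiber C)) X = n) :
    ∃ (P C₁ : Type u) (_ : CommRing P) (_ : CommRing C₁) (_ : Algebra R P) (_ : Algebra C C₁) (_ : Algebra P C₁)
      (_ : Algebra R C₁) (_ : IsScalarTower R C C₁) (_ : IsScalarTower R P C₁)
      (y : Ideal P) (q₁ : Ideal C₁) (_ : y.IsPrime) (_ : q₁.IsPrime) (_ : y.LiesOver p) (_ : q₁.LiesOver y)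
      (hq₁ : q₁.LiesOver q),
      FlatCA.SmoothRelDim n R P ∧ FlatCA.PurelyTranscendental p y ∧ Algebra.Etale C C₁ ∧ Module.Finite P C₁ ∧
      Function.Bijective (Ideal.ResidueField.map q q₁ (algebraMap C C₁) hq₁.over) ∧
      ∀ (z : Ideal C₁) [z.IsPrime], z.LiesOver y → z = q₁ := by
  obtain ⟨φ, hqf, hy₀p, hy₀⟩ := Coords.exists_coords p q n X hXq hn
  let P₀ := MvPolynomial (ULift.{u} (Fin n)) R
  letI : Algebra P₀ C := φ.toRingHom.toAlgebra
  haveI : IsScalarTower R P₀ C := IsScalarTower.of_algebraMap_eq fun r => (φ.commutes r).symm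
  haveI : Algebra.FiniteType P₀ C := Algebra.FiniteType.of_restrictScalars_finiteType R P₀ C
  let y₀ := q.comap (algebraMap P₀ C)
  haveI : q.LiesOver y₀ := ⟨rfl⟩
  haveI : y₀.LiesOver p := hy₀p
  haveI : Algebra.QuasiFiniteAt P₀ q := hqf
  obtain ⟨P, _, _, _, y, _, _, e, he, q', hq'prime, hq'y, hq'q, heq', hbij, hfin, huniq⟩ :=
    Algebra.exists_etale_isIdempotentElem_forall_liesOver_eq y₀ q
  let T := P ⊗[P₀] C
  letI : Algebra C T := Algebra.TensorProduct.rightAlgebra
  haveI : Algebra.IsPushout P₀ P C T := inferInstance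
  let C₁ := Localization.Away e
  letI : Algebra R P := ((algebraMap P₀ P).comp (algebraMap R P₀)).toAlgebra
  haveI : IsScalarTower R P₀ P := IsScalarTower.of_algebraMap_eq fun _ => rfl
  haveI : SMulCommClass P₀ R P := inferInstance
  haveI : IsScalarTower R P₀ T := IsScalarTower.of_algebraMap_eq fun r => rfl
  haveI : IsScalarTower R C T := IsScalarTower.of_algebraMap_eq fun r => by
    rw [IsScalarTower.algebraMap_apply R P₀ T, IsScalarTower.algebraMap_apply R P₀ C,
      ← IsScalarTower.algebraMap_apply P₀ C T]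
  haveI : IsScalarTower R P T := IsScalarTower.of_algebraMap_eq fun r => by
    rw [IsScalarTower.algebraMap_apply R P₀ T, IsScalarTower.algebraMap_apply R P₀ P,
      ← IsScalarTower.algebraMap_apply P₀ P T]
  have hde : Disjoint (Submonoid.powers e : Set T) q' := by
    rwa [Ideal.disjoint_powers_iff_notMem_of_isPrime]
  let q₁ := q'.map (algebraMap T C₁)
  haveI hq₁prime : q₁.IsPrime := IsLocalization.isPrime_of_isPrime_disjoint (Submonoid.powers e) C₁ _ hq'prime hde
  have hq₁' : q' = q₁.comap (algebraMap T C₁) :=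
    (IsLocalization.comap_map_of_isPrime_disjoint (Submonoid.powers e) C₁ hq'prime hde).symm
  haveI hq₁y : q₁.LiesOver y := ⟨by
    rw [Ideal.under, IsScalarTower.algebraMap_eq P T C₁, ← Ideal.comap_comap, ← hq₁']; exact hq'y.over⟩
  haveI hq'q' : q'.LiesOver q := ⟨hq'q.symm⟩
  haveI hq₁q : q₁.LiesOver q := ⟨by
    rw [Ideal.under, IsScalarTower.algebraMap_eq C T C₁, ← Ideal.comap_comap, ← hq₁']; exact hq'q'.over⟩
  haveI hyp : y.LiesOver p := Ideal.LiesOver.trans y y₀ p
  haveI : Algebra.Etale C T := Algebra.Etale.of_equiv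
    (AlgEquiv.ofRingEquiv (f := (Algebra.TensorProduct.comm P₀ C P).toRingEquiv)
      (fun r => by simp [Algebra.TensorProduct.right_algebraMap_apply]; rfl))
  haveI : Algebra.Etale T C₁ := Algebra.Etale.of_isLocalizationAway e
  refine ⟨P, C₁, inferInstance, inferInstance, inferInstance, inferInstance, inferInstance, inferInstance,
    inferInstance, inferInstance, y, q₁, inferInstance, hq₁prime, hyp, hq₁y, hq₁q, ?_, ?_, Algebra.Etale.comp C T C₁,
    hfin, ?_, fun z _ hz => ?_⟩
  · show AlgebraicGeometry.SmoothOfRelativeDimension n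
      (AlgebraicGeometry.Spec.map (CommRingCat.ofHom (algebraMap R P)))
    rw [AlgebraicGeometry.HasRingHomProperty.Spec_iff (P := @AlgebraicGeometry.SmoothOfRelativeDimension n)]
    refine RingHom.locally_of RingHom.isStandardSmoothOfRelativeDimension_respectsIso _ ?_
    rw [CommRingCat.hom_ofHom, RingHom.isStandardSmoothOfRelativeDimension_algebraMap]
    haveI := RGDev.smoothRelDim_mvPolynomial R n
    haveI : Algebra.IsStandardSmoothOfRelativeDimension 0 P₀ P :=
      Algebra.Etale.iff_isStandardSmoothOfRelativeDimension_zero.1 inferInstance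
    simpa using Algebra.IsStandardSmoothOfRelativeDimension.trans n 0 R P₀ P
  · refine Shrink.purelyTranscendental_of_bijective (R := R) (R' := R) p y₀ p y ?_ (y.over_def y₀) ?_ hbij hy₀
    · simp
    · have : Ideal.ResidueField.map p p (algebraMap R R) (by simp) = RingHom.id _ := by
        refine Ideal.ResidueField.ringHom_ext (RingHom.ext fun r => ?_)
        simp
      rw [this]; exact Function.bijective_id
  · have h0 := FibreBij.residue_bijective (S := C) (S' := T) y₀ y hbij q q'
    have h1 := Shrink.residue_bijective (Submonoid.powers e) q' q₁ hq₁'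
    have h2 : Ideal.ResidueField.map q q₁ (algebraMap C C₁) hq₁q.over =
        (Ideal.ResidueField.map q' q₁ (algebraMap T C₁) hq₁').comp
          (Ideal.ResidueField.map q q' (algebraMap C T) hq'q'.over) := by
      refine Ideal.ResidueField.ringHom_ext (RingHom.ext fun a => ?_)
      simp only [RingHom.comp_apply, Ideal.ResidueField.map_algebraMap]
      rw [← IsScalarTower.algebraMap_apply C T C₁]
    rw [h2]
    exact h1.comp h0
  · have hd : Disjoint (Submonoid.powers e : Set T) (z.comap (algebraMap T C₁)) :=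
      (IsLocalization.isPrime_iff_isPrime_disjoint (Submonoid.powers e) C₁ z).1 inferInstance |>.2
    have hze : e ∉ z.comap (algebraMap T C₁) := by
      rwa [← Ideal.disjoint_powers_iff_notMem_of_isPrime]
    have h := huniq (z.comap (algebraMap T C₁)) inferInstance ⟨by
      rw [Ideal.under, Ideal.comap_comap, ← IsScalarTower.algebraMap_eq]; exact hz.over⟩ hze
    rw [← IsLocalization.map_comap (Submonoid.powers e) C₁ z, Ideal.under, h]

/-- The module structure over a quotient by an ideal killing the module. -/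
theorem exists_module_of_surjective {A B : Type u} [CommRing A] [CommRing B] {N : Type u} [AddCommGroup N] [Module A N]
    (π : A →+* B) (hπ : Function.Surjective π) (h : RingHom.ker π ≤ Module.annihilator A N) :
    ∃ m : Module B N, ∀ (a : A) (w : N), letI := m; π a • w = a • w := by
  let act : B →+* AddMonoid.End N := π.liftOfSurjective hπ ⟨Module.toAddMonoidEnd A N, fun a ha =>
    AddMonoidHom.ext fun w => Module.mem_annihilator.1 (h ha) w⟩
  refine ⟨Module.compHom N act, fun a w => ?_⟩
  show act (π a) w = a • w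
  rw [show act (π a) = Module.toAddMonoidEnd A N a from RingHom.liftOfRightInverse_comp_apply _ _ _ _ a]
  rfl

/-- A finitely generated module admits an elementary dévissage at every point of its fibre support. -/
theorem exists_elemDevissage {R S : Type u} [CommRing R] [CommRing S] [Algebra R S] [Algebra.FiniteType R S]
    (N : Type u) [AddCommGroup N] [Module S N] [Module.Finite S N]
    (p : Ideal R) [p.IsPrime] (q : Ideal S) [q.IsPrime] [q.LiesOver p] (n : ℕ) (x : PrimeSpectrum (p.Fiber S))
    (hxq : x.asIdeal = FlatCA.fiberIdeal p q)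
    (hx : x ∈ Module.support (p.Fiber S) (FlatCA.fiberMod p S N))
    (hn : FlatMor.localDim (Module.support (p.Fiber S) (FlatCA.fiberMod p S N)) ⟨x, hx⟩ = n) :
    Nonempty (FlatCA.ElemDevissage R S N p q n) := by
  obtain ⟨J, hJfg, hJann, hJ⟩ := exists_ideal (R := R) (S := S) N p
  obtain ⟨X, q₀, hq₀, hq₀p, hq₀q, hXq, hXn⟩ := exists_point N p q J hJann hJ n x hxq hx hn
  obtain ⟨P, C₁, _, _, _, _, _, _, _, _, y, q₁, _, _, _, _, hq₁q, hsm, hpt, hetC₁, hfin, hres₁, huniq₁⟩ :=
    exists_finite_chart p q₀ n X hXq hXn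
  obtain ⟨R', _, _, p', _, D, _, _, _, _, _, _, y', _, hy'p, hy'y, hR', hDet, hresD, hptD, hsmD, hgi⟩ :=
    SmoothNbhd.exists_integral_nbhd hsm p y hpt
  haveI : Algebra.Etale R R' := hR'.1
  -- the finite chart over the shrunken algebra
  let C := D ⊗[P] C₁
  letI : Algebra C₁ C := Algebra.TensorProduct.rightAlgebra
  haveI : Algebra.IsPushout P D C₁ C := inferInstance
  obtain ⟨z, hz, hzy, hzq₁⟩ := FibreBij.exists_liesOver (S := C₁) (S' := C) y y' hresD q₁
  haveI := hz
  haveI := hzy
  haveI := hzq₁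
  haveI : Algebra.Etale C₁ C := Algebra.Etale.of_equiv
    (AlgEquiv.ofRingEquiv (f := (Algebra.TensorProduct.comm P C₁ D).toRingEquiv)
      (fun r => by simp [Algebra.TensorProduct.right_algebraMap_apply]; rfl))
  letI : Algebra (S ⧸ J) C := ((algebraMap C₁ C).comp (algebraMap (S ⧸ J) C₁)).toAlgebra
  haveI : IsScalarTower (S ⧸ J) C₁ C := IsScalarTower.of_algebraMap_eq fun _ => rfl
  haveI : Algebra.Etale (S ⧸ J) C := Algebra.Etale.comp (S ⧸ J) C₁ C
  haveI : IsScalarTower R' D C := IsScalarTower.of_algebraMap_eq fun r => rfl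
  have hc : ∀ r : R, algebraMap R' C (algebraMap R R' r) =
      algebraMap (S ⧸ J) C (Ideal.Quotient.mk J (algebraMap R S r)) := fun r => by
    show algebraMap D C (algebraMap R' D (algebraMap R R' r)) =
      algebraMap C₁ C (algebraMap (S ⧸ J) C₁ (algebraMap R (S ⧸ J) r))
    rw [← IsScalarTower.algebraMap_apply R R' D, IsScalarTower.algebraMap_apply R P D,
      ← IsScalarTower.algebraMap_apply R (S ⧸ J) C₁, IsScalarTower.algebraMap_apply R P C₁,
      ← IsScalarTower.algebraMap_apply P D C, ← IsScalarTower.algebraMap_apply P C₁ C]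
  obtain ⟨S', _, _, _, _, _, _, π, hetS, hπsurj, hπS, hπR, hker⟩ := EtaleLift.exists_lift J hJfg hc
  letI : Algebra S' C := π.toAlgebra
  haveI : IsScalarTower R' S' C := IsScalarTower.of_algebraMap_eq fun r => (hπR r).symm
  let q' := z.comap (algebraMap S' C)
  haveI hzq' : z.LiesOver q' := ⟨rfl⟩
  have hzq₀ : q₀ = z.comap (algebraMap (S ⧸ J) C) := by
    rw [IsScalarTower.algebraMap_eq (S ⧸ J) C₁ C, ← Ideal.comap_comap]
    exact (hq₁q.over).trans (congrArg (Ideal.comap _) hzq₁.over)
  haveI hq'q : q'.LiesOver q := ⟨by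
    rw [Ideal.under, Ideal.comap_comap, show (algebraMap S' C).comp (algebraMap S S') =
      (algebraMap (S ⧸ J) C).comp (Ideal.Quotient.mk J) from RingHom.ext hπS, ← Ideal.comap_comap, ← hzq₀, hq₀q]⟩
  haveI hq'p : q'.LiesOver p' := ⟨by
    rw [Ideal.under, Ideal.comap_comap, ← IsScalarTower.algebraMap_eq, IsScalarTower.algebraMap_eq R' D C,
      ← Ideal.comap_comap]
    exact hy'p.over.trans (congrArg (Ideal.comap _) hzy.over)⟩
  have hS' : FlatCA.IsEtaleNhd S S' q q' := by
    refine ⟨hetS, hq'q, RingHom.injective _, fun w => ?_⟩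
    let Z := Ideal.ResidueField.map q' z (algebraMap S' C) rfl
    obtain ⟨a, ha⟩ : ∃ a, Ideal.ResidueField.map q₁ z (algebraMap C₁ C) hzq₁.over a = Z w :=
      (FibreBij.residue_bijective (S := C₁) (S' := C) y y' hresD q₁ z).2 _
    obtain ⟨b, hb⟩ := hres₁.2 a
    obtain ⟨c, d, hd, hz'⟩ := Coords.residueField_fractions q₀ b
    obtain ⟨c, rfl⟩ := Ideal.Quotient.mk_surjective c
    obtain ⟨d, rfl⟩ := Ideal.Quotient.mk_surjective d
    have hd' : algebraMap S q.ResidueField d ≠ 0 := fun h => hd (by
      rw [Ideal.algebraMap_residueField_eq_zero] at h ⊢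
      exact hq₀q.symm.le h)
    refine ⟨algebraMap S q.ResidueField c / algebraMap S q.ResidueField d, RingHom.injective Z ?_⟩
    let m₀ := (Ideal.ResidueField.map q₁ z (algebraMap C₁ C) hzq₁.over).comp
      (Ideal.ResidueField.map q₀ q₁ (algebraMap (S ⧸ J) C₁) hq₁q.over)
    have key : ∀ s : S, Z (Ideal.ResidueField.mapₐ q q' (Algebra.ofId S S') hq'q.over
        (algebraMap S q.ResidueField s)) = m₀ (algebraMap (S ⧸ J) q₀.ResidueField (Ideal.Quotient.mk J s)) := fun s => by
      rw [AlgHom.commutes, IsScalarTower.algebraMap_apply S S' q'.ResidueField]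
      simp only [Z, m₀, RingHom.comp_apply, Ideal.ResidueField.map_algebraMap]
      rw [← IsScalarTower.algebraMap_apply (S ⧸ J) C₁ C]
      exact congrArg (algebraMap C z.ResidueField) (hπS s)
    have h1 := congrArg m₀ hz'
    rw [map_mul, show m₀ b = Z w by rw [← ha, ← hb]; rfl] at h1
    rw [map_div₀, map_div₀, key, key, div_eq_iff, mul_comm]
    · exact h1.symm
    · exact (map_ne_zero m₀).2 hd
  -- the module
  let N' := S' ⊗[S] N
  have hJN : RingHom.ker π ≤ Module.annihilator S' N' := by
    rw [hker, Ideal.map_le_iff_le_comap]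
    intro s hs
    rw [Ideal.mem_comap, Module.mem_annihilator]
    intro w
    rw [algebraMap_smul]
    induction w using TensorProduct.induction_on with
    | zero => rw [smul_zero]
    | tmul a b =>
      rw [← TensorProduct.tmul_smul, Module.mem_annihilator.1 (hJann hs) b, TensorProduct.tmul_zero]
    | add a b ha hb => rw [smul_add, ha, hb, add_zero]
  obtain ⟨mCN, hmCN⟩ := exists_module_of_surjective π hπsurj hJN
  letI := mCN
  haveI : IsScalarTower S' C N' := IsScalarTower.of_algebraMap_smul fun a w => hmCN a w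
  letI : Module D N' := Module.compHom N' (algebraMap D C)
  haveI : IsScalarTower D C N' := IsScalarTower.of_algebraMap_smul fun _ _ => rfl
  haveI : IsScalarTower R' C N' := IsScalarTower.of_algebraMap_smul fun r w => by
    rw [← hπR r, hmCN, algebraMap_smul]
  haveI : IsScalarTower R' D N' := IsScalarTower.of_algebraMap_smul fun r w => by
    show algebraMap D C (algebraMap R' D r) • w = r • w
    rw [← IsScalarTower.algebraMap_apply R' D C, algebraMap_smul]
  haveI : Module.Finite C N' := Module.Finite.of_restrictScalars_finite S' C N'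
  haveI : Algebra.Etale S S' := hetS
  have hfpC : Algebra.FinitePresentation S' C :=
    Algebra.FinitePresentation.of_surjective (f := Algebra.ofId S' C) hπsurj (by
      show (RingHom.ker π).FG
      rw [hker]; exact hJfg.map _)
  have hfinDC : Module.Finite D C := inferInstance
  exact ⟨{ R' := R', S' := S', C := C, D := D, N' := N', G := N', p' := p', q' := q', z := z, y := y'
           etaleR := hR', etaleS := hS', f := TensorProduct.mk S S' N 1
           isBaseChange := TensorProduct.isBaseChange S N S', surjC := hπsurj, fpC := hfpC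
           iso := LinearEquiv.refl S' N', finiteDC := hfinDC, finiteG := inferInstance
           uniq := fun z₁ _ hz₁ => by
             haveI := hz₁
             let w := z₁.comap (algebraMap C₁ C)
             have hw : w.LiesOver y := ⟨by
               rw [Ideal.under, Ideal.comap_comap, ← IsScalarTower.algebraMap_eq, IsScalarTower.algebraMap_eq P D C,
                 ← Ideal.comap_comap]
               exact hy'y.over.trans (congrArg (Ideal.comap _) hz₁.over)⟩
             exact FibreBij.eq_of_liesOver (S := C₁) (S' := C) y y' hresD q₁ z₁ z ⟨(huniq₁ w hw).symm⟩ hzq₁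
           pureTrans := hptD, smooth := hsmD, geomInt := hgi }⟩

end Groth.Agent.RG.Dev.ElemDev
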