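import Mathlib
import Groth.Prelude
import Groth.Agent.DimField.Ring
import Groth.Agent.S6284

universe u
open TensorProduct

namespace Groth.Agent.RG.Dev

/-- support dimension of the base change of a finite module to a base change of the algebra to a field -/
theorem supportDim_pushout_field (R K S A : Type u) [CommRing R] [Field K] [Algebra R K] [CommRing S] [Algebra R S]
    [CommRing A] [Algebra K A] [Algebra S A] [Algebra R A] [IsScalarTower R K A] [IsScalarTower R S A]
    [Algebra.IsPushout R K S A] (N : Type u) [AddCommGroup N] [Module S N] [Module.Finite S N] :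
    Module.supportDim A (A ⊗[S] N) = ringKrullDim (K ⊗[R] (S ⧸ Module.annihilator S N)) := by
  set I := Module.annihilator S N
  have hsupp : Module.support A (A ⊗[S] N) = PrimeSpectrum.zeroLocus (I.map (algebraMap S A) : Set A) := by
    rw [S6284.result, Module.support_eq_zeroLocus, PrimeSpectrum.preimage_comap_zeroLocus, Ideal.map,
      PrimeSpectrum.zeroLocus_span]
  have h1 : Module.supportDim A (A ⊗[S] N) = ringKrullDim (A ⧸ I.map (algebraMap S A)) := by
    rw [ringKrullDim_quotient, Module.supportDim, hsupp]
  rw [h1]
  let e : K ⊗[R] S ≃ₐ[K] A := Algebra.IsPushout.equiv R K S A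
  have he : (I.map (algebraMap S A)) = (I.map (Algebra.TensorProduct.includeRight : S →ₐ[R] K ⊗[R] S)).map (e.toRingEquiv : K ⊗[R] S →+* A) := by
    rw [← Ideal.map_coe (Algebra.TensorProduct.includeRight : S →ₐ[R] K ⊗[R] S), Ideal.map_map]
    congr 1
    ext s
    exact ((Algebra.IsPushout.equiv_tmul ..).trans (by simp)).symm
  rw [← RingEquiv.ringKrullDim (Ideal.quotientEquiv _ _ e.toRingEquiv he)]
  exact (RingEquiv.ringKrullDim (Algebra.TensorProduct.tensorQuotientEquiv (R := R) R S K I).toRingEquiv).symm

/-- the dimension is unchanged when the field is enlarged -/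
theorem supportDim_pushout_field_extension (R K L S A B : Type u) [CommRing R] [Field K] [Field L] [Algebra R K]
    [Algebra R L] [Algebra K L] [IsScalarTower R K L] [CommRing S] [Algebra R S] [Algebra.FiniteType R S]
    [CommRing A] [Algebra K A] [Algebra S A] [Algebra R A] [IsScalarTower R K A] [IsScalarTower R S A]
    [Algebra.IsPushout R K S A]
    [CommRing B] [Algebra L B] [Algebra S B] [Algebra R B] [IsScalarTower R L B] [IsScalarTower R S B]
    [Algebra.IsPushout R L S B]
    (N : Type u) [AddCommGroup N] [Module S N] [Module.Finite S N] :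
    Module.supportDim B (B ⊗[S] N) = Module.supportDim A (A ⊗[S] N) := by
  rw [supportDim_pushout_field R L S B N, supportDim_pushout_field R K S A N,
    ← DimField.ringKrullDim_tensor K L (K ⊗[R] (S ⧸ Module.annihilator S N))]
  exact (RingEquiv.ringKrullDim (Algebra.TensorProduct.cancelBaseChange R K K L (S ⧸ Module.annihilator S N)).toRingEquiv).symm

end Groth.Agent.RG.Dev
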