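import Groth.Agent.RG.Dev.Transfer

/-!
Equivalences of flatness across an elementary dévissage.
-/

set_option autoImplicit false
set_option backward.isDefEq.respectTransparency false

universe u

namespace Groth.Agent.RG.Dev

open TensorProduct

variable {R R' S S' C D N G : Type u} [CommRing R] [CommRing R'] [CommRing S] [CommRing S'] [CommRing C] [CommRing D]
  [Algebra R R'] [Algebra R S] [Algebra R S'] [Algebra S S'] [IsScalarTower R S S']
  [Algebra R' C] [Algebra R C] [Algebra S' C] [IsScalarTower R R' C] [IsScalarTower R S' C]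
  [Algebra R' D] [Algebra D C] [IsScalarTower R' D C]
  [AddCommGroup N] [Module S N] [Module R N] [IsScalarTower R S N]
  [AddCommGroup G] [Module C G] [Module S' G] [IsScalarTower S' C G] [Module S G] [IsScalarTower S S' G]
  [Module R G] [IsScalarTower R C G] [Module R' G] [IsScalarTower R' C G] [Module D G] [IsScalarTower D C G]
  [IsScalarTower R' D G] [IsScalarTower R R' G]

omit [Algebra R' C] [IsScalarTower R R' C] [Algebra R' D] [Algebra D C] [IsScalarTower R' D C]
  [Module R' G] [IsScalarTower R' C G] [Module D G] [IsScalarTower D C G] [IsScalarTower R' D G]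
  [IsScalarTower R R' G] [Algebra R R'] in
theorem flat_point_iff [Module.Flat S S'] (g : N →ₗ[S] G) (hg : IsBaseChange S' g)
    (hC : Function.Surjective (algebraMap S' C)) (q : Ideal S) [q.IsPrime] (q' : Ideal S') [q'.IsPrime]
    (z : Ideal C) [z.IsPrime] (hq' : q'.comap (algebraMap S S') = q) (hz : z.comap (algebraMap S' C) = q') :
    Module.Flat R (LocalizedModule q.primeCompl N) ↔ Module.Flat R (LocalizedModule z.primeCompl G) := by
  let L := Localization.AtPrime q'
  haveI : Module.Flat S' L := IsLocalization.flat L q'.primeCompl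
  haveI : Module.Flat S L := Module.Flat.trans S S' L
  have hzU : Algebra.algebraMapSubmonoid C q'.primeCompl = z.primeCompl := by
    ext c
    obtain ⟨s, rfl⟩ := hC c
    constructor
    · rintro ⟨t, ht, hts⟩ hmem
      rw [← hts] at hmem
      exact ht (hz ▸ hmem)
    · intro hs
      exact ⟨s, fun h => hs (by rw [← hz] at h; exact h), rfl⟩
  have key : Module.Flat R (L ⊗[S] N) ↔ Module.Flat R (LocalizedModule z.primeCompl G) := by
    rw [← hzU]
    exact flat_tensor_iff g hg q'.primeCompl
  have hL : (IsLocalRing.maximalIdeal L).comap (algebraMap S L) = q := by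
    rw [IsScalarTower.algebraMap_eq S S' L, ← Ideal.comap_comap]
    change Ideal.comap (algebraMap S S') ((IsLocalRing.maximalIdeal L).under S') = q
    rw [Localization.AtPrime.under_maximalIdeal, hq']
  refine ⟨fun h => key.1 ?_, fun h => ?_⟩
  · refine flat_tensor_localized q.primeCompl (fun s => ?_) h
    by_contra hs
    exact s.2 (hL ▸ ((IsLocalRing.mem_maximalIdeal _).2 hs : algebraMap S L s ∈ IsLocalRing.maximalIdeal L))
  · refine flat_localized_of_tensor (W := L) q.primeCompl (fun s => ?_) (fun P hP hd => ?_) (key.2 h)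
    · by_contra hs
      exact s.2 (hL ▸ ((IsLocalRing.mem_maximalIdeal _).2 hs : algebraMap S L s ∈ IsLocalRing.maximalIdeal L))
    · have hPq : P ≤ (IsLocalRing.maximalIdeal L).under S := by
        rw [Ideal.under, hL]
        exact fun x hx => not_not.1 fun h' => Set.disjoint_left.1 hd h' hx
      haveI := hP
      haveI : (IsLocalRing.maximalIdeal L).LiesOver ((IsLocalRing.maximalIdeal L).under S) := ⟨rfl⟩
      obtain ⟨Q, -, hQ, hQP⟩ := Ideal.exists_ideal_le_liesOver_of_le (p := P) (IsLocalRing.maximalIdeal L) hPq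
      exact ⟨Q, hQ, hQP.over.symm⟩

omit [Algebra R' C] [IsScalarTower R R' C] [Algebra R' D] [Algebra D C] [IsScalarTower R' D C]
  [Module R' G] [IsScalarTower R' C G] [Module D G] [IsScalarTower D C G] [IsScalarTower R' D G]
  [IsScalarTower R R' G] [Algebra R R'] in
theorem flat_open_iff [Module.Flat S S'] [Algebra.FinitePresentation S S'] (g : N →ₗ[S] G) (hg : IsBaseChange S' g)
    (hC : Function.Surjective (algebraMap S' C)) (q : Ideal S) [q.IsPrime] (q' : Ideal S') [q'.IsPrime]
    (z : Ideal C) [z.IsPrime] (hq' : q'.comap (algebraMap S S') = q) (hz : z.comap (algebraMap S' C) = q') :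
    (∃ s : S, s ∉ q ∧ Module.Flat R (LocalizedModule (Submonoid.powers s) N)) ↔
      ∃ c : C, c ∉ z ∧ Module.Flat R (LocalizedModule (Submonoid.powers c) G) := by
  have hpow : ∀ t : S', Algebra.algebraMapSubmonoid C (Submonoid.powers t) = Submonoid.powers (algebraMap S' C t) :=
    fun t => Submonoid.map_powers _ _
  constructor
  · rintro ⟨s, hs, hflat⟩
    refine ⟨algebraMap S' C (algebraMap S S' s), fun h => hs ?_, ?_⟩
    · rw [← hq', ← hz]; exact h
    let L := Localization.Away (algebraMap S S' s)
    haveI : Module.Flat S' L := IsLocalization.flat L (Submonoid.powers (algebraMap S S' s))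
    haveI : Module.Flat S L := Module.Flat.trans S S' L
    rw [← hpow]
    refine (flat_tensor_iff g hg _).1 (flat_tensor_localized (Submonoid.powers s) (fun x => ?_) hflat)
    obtain ⟨_, k, rfl⟩ := x
    rw [map_pow, IsScalarTower.algebraMap_apply S S' L]
    exact (IsLocalization.Away.algebraMap_isUnit (algebraMap S S' s)).pow k
  · rintro ⟨c, hc, hflat⟩
    obtain ⟨t, rfl⟩ := hC c
    have ht : t ∉ q' := fun h => hc (by rw [← hz] at h; exact h)
    have hopen : IsOpenMap (PrimeSpectrum.comap (algebraMap S S')) :=
      PrimeSpectrum.isOpenMap_comap_of_hasGoingDown_of_finitePresentation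
    have himg := hopen _ (PrimeSpectrum.basicOpen t).isOpen
    obtain ⟨_, ⟨_, ⟨s, rfl⟩, rfl⟩, hqs, hsub⟩ := PrimeSpectrum.isBasis_basic_opens.exists_subset_of_mem_open
      (show (⟨q, ‹_›⟩ : PrimeSpectrum S) ∈ PrimeSpectrum.comap (algebraMap S S') '' (PrimeSpectrum.basicOpen t : Set _)
        from ⟨⟨q', ‹_›⟩, ht, PrimeSpectrum.ext hq'⟩) himg
    refine ⟨s, hqs, ?_⟩
    let U : Submonoid S' := Submonoid.powers t ⊔ Submonoid.powers (algebraMap S S' s)
    let L := Localization U
    haveI : Module.Flat S' L := IsLocalization.flat L U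
    haveI : Module.Flat S L := Module.Flat.trans S S' L
    have hUC : Module.Flat R (LocalizedModule (Algebra.algebraMapSubmonoid C U) G) := by
      have hle : Submonoid.powers (algebraMap S' C t) ≤ Algebra.algebraMapSubmonoid C U := by
        rw [← hpow]; exact Submonoid.monotone_map le_sup_left
      haveI := hflat
      exact InjFibre.flat_localized (Algebra.algebraMapSubmonoid C U)
        (IsLocalizedModule.liftOfLE _ _ hle (LocalizedModule.mkLinearMap (Submonoid.powers (algebraMap S' C t)) G)
          (LocalizedModule.mkLinearMap (Algebra.algebraMapSubmonoid C U) G))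
    refine flat_localized_of_tensor (W := L) (Submonoid.powers s) (fun x => ?_) (fun P hP hd => ?_)
      ((flat_tensor_iff g hg U).2 hUC)
    · obtain ⟨_, k, rfl⟩ := x
      rw [map_pow, IsScalarTower.algebraMap_apply S S' L]
      exact (IsLocalization.map_units L (⟨_, le_sup_right (a := Submonoid.powers t) (Submonoid.mem_powers _)⟩ : U)).pow k
    · have hsP : s ∉ P := fun h => Set.disjoint_left.1 hd (Submonoid.mem_powers s) h
      obtain ⟨Q, htQ, hQ⟩ := hsub (show (⟨P, hP⟩ : PrimeSpectrum S) ∈ (PrimeSpectrum.basicOpen s : Set _) from hsP)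
      have hQP : Q.asIdeal.comap (algebraMap S S') = P := congrArg PrimeSpectrum.asIdeal hQ
      have hdis : Disjoint (U : Set S') (Q.asIdeal : Set S') := by
        have hle : U ≤ Q.asIdeal.primeCompl := sup_le (Submonoid.powers_le.2 htQ)
          (Submonoid.powers_le.2 (fun h => hsP (hQP ▸ h)))
        exact Set.disjoint_left.2 fun x hx hx' => hle hx hx'
      refine ⟨Q.asIdeal.map (algebraMap S' L), IsLocalization.isPrime_of_isPrime_disjoint U L _ Q.isPrime hdis, ?_⟩
      rw [IsScalarTower.algebraMap_eq S S' L, ← Ideal.comap_comap,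
        show Ideal.comap (algebraMap S' L) (Q.asIdeal.map (algebraMap S' L)) = Q.asIdeal from
          IsLocalization.under_map_of_isPrime_disjoint U L Q.isPrime hdis, hQP]

omit [Algebra R R'] [Algebra R C] [Algebra S' C] [IsScalarTower R R' C] [IsScalarTower R S' C] [Module S' G]
  [IsScalarTower S' C G] [Module R G] [IsScalarTower R C G] [IsScalarTower R R' G] [Module S G]
  [IsScalarTower S S' G] in
theorem flat_point_unique_iff [Module.Finite D C] (y : Ideal D) [y.IsPrime] (z : Ideal C) [z.IsPrime]
    (hzy : z.comap (algebraMap D C) = y)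
    (huniq : ∀ Q : Ideal C, Q.IsPrime → Q.comap (algebraMap D C) = y → Q = z) :
    Module.Flat R' (LocalizedModule z.primeCompl G) ↔ Module.Flat R' (LocalizedModule y.primeCompl G) :=
  ⟨fun h => RG.Loc.flat_unique_prime y z hzy huniq G h,
    fun h => (InjFibre.flat_localized_comap_iff (A := R') (C := C) y.primeCompl).1 h ⟨z, ‹_›⟩
      fun s hs hmem => hs (hzy ▸ hmem)⟩

omit [Algebra R R'] [Algebra R C] [Algebra S' C] [IsScalarTower R R' C] [IsScalarTower R S' C] [Module S' G]
  [IsScalarTower S' C G] [Module R G] [IsScalarTower R C G] [IsScalarTower R R' G] [Module S G]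
  [IsScalarTower S S' G] in
theorem flat_open_unique_iff [Module.Finite D C] (y : Ideal D) [y.IsPrime] (z : Ideal C) [z.IsPrime]
    (hzy : z.comap (algebraMap D C) = y)
    (huniq : ∀ Q : Ideal C, Q.IsPrime → Q.comap (algebraMap D C) = y → Q = z) :
    (∃ c : C, c ∉ z ∧ Module.Flat R' (LocalizedModule (Submonoid.powers c) G)) ↔
      ∃ d : D, d ∉ y ∧ Module.Flat R' (LocalizedModule (Submonoid.powers d) G) := by
  have hd : ∀ d : D, Nonempty (LocalizedModule (Submonoid.powers d) G ≃ₗ[R']
      LocalizedModule (Submonoid.powers (algebraMap D C d)) G) := fun d => by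
    have hpow : Algebra.algebraMapSubmonoid C (Submonoid.powers d) = Submonoid.powers (algebraMap D C d) :=
      Submonoid.map_powers _ _
    rw [← hpow]
    let gB : G →ₗ[D] LocalizedModule (Algebra.algebraMapSubmonoid C (Submonoid.powers d)) G :=
      (LocalizedModule.mkLinearMap (Algebra.algebraMapSubmonoid C (Submonoid.powers d)) G).restrictScalars D
    haveI : IsLocalizedModule (Submonoid.powers d) gB := IsLocalizedModule.restrictScalars _ _
    exact ⟨(IsLocalizedModule.iso (Submonoid.powers d) gB).restrictScalars R'⟩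
  constructor
  · rintro ⟨c, hc, hflat⟩
    have hle : ¬ (Ideal.span {c}).comap (algebraMap D C) ≤ y := fun hle => by
      obtain ⟨Q, hQc, hQ, hQy⟩ := Ideal.exists_ideal_over_prime_of_isIntegral y (Ideal.span {c}) hle
      exact hc (huniq Q hQ hQy ▸ hQc (Ideal.mem_span_singleton_self c))
    obtain ⟨d, hdc, hdy⟩ := SetLike.not_le_iff_exists.1 hle
    obtain ⟨e⟩ := hd d
    refine ⟨d, hdy, ?_⟩
    haveI : Module.Flat R' (LocalizedModule (Submonoid.powers (algebraMap D C d)) G) := by
      obtain ⟨x, hx⟩ := Ideal.mem_span_singleton'.1 (Ideal.mem_comap.1 hdc)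
      let L := Localization.Away (algebraMap D C d)
      haveI : Module.Flat C L := IsLocalization.flat L (Submonoid.powers (algebraMap D C d))
      haveI : Module.Flat R' (L ⊗[C] G) := by
        refine flat_tensor_localized (Submonoid.powers c) (fun s => ?_) hflat
        obtain ⟨_, k, rfl⟩ := s
        have h1 := IsLocalization.Away.algebraMap_isUnit (S := L) (algebraMap D C d)
        have h2 := congrArg (algebraMap C L) hx
        rw [map_mul] at h2
        rw [← h2] at h1
        rw [map_pow]
        exact (isUnit_of_mul_isUnit_right h1).pow k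
      exact Module.Flat.of_linearEquiv
        ((LocalizedModule.equivTensorProduct (Submonoid.powers (algebraMap D C d)) G).restrictScalars R')
    exact Module.Flat.of_linearEquiv e
  · rintro ⟨d, hdy, hflat⟩
    obtain ⟨e⟩ := hd d
    refine ⟨algebraMap D C d, fun h => hdy (hzy ▸ h), ?_⟩
    haveI := hflat
    exact Module.Flat.of_linearEquiv e.symm

end Groth.Agent.RG.Dev
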