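import Groth.Agent.RG.Dev.FpIff

/-!
Equivalences of finite presentation at points and near points of an elementary dévissage.
-/

set_option autoImplicit false
set_option backward.isDefEq.respectTransparency false

universe u

namespace Groth.Agent.RG.Dev

open TensorProduct

variable {S S' C D N G : Type u} [CommRing S] [CommRing S'] [CommRing C] [CommRing D]
  [Algebra S S'] [Algebra S' C] [Algebra D C] [AddCommGroup N] [Module S N]
  [AddCommGroup G] [Module C G] [Module S' G] [IsScalarTower S' C G] [Module S G] [IsScalarTower S S' G]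
  [Module D G] [IsScalarTower D C G]

theorem isUnit_algebraMapSubmonoid {A B : Type u} [CommRing A] [CommRing B] [Algebra A B] (U : Submonoid A)
    {a : A} (ha : a ∈ U) : IsUnit (algebraMap B (Localization (Algebra.algebraMapSubmonoid B U)) (algebraMap A B a)) :=
  IsLocalization.map_units (Localization (Algebra.algebraMapSubmonoid B U))
    (⟨_, ⟨a, ha, rfl⟩⟩ : Algebra.algebraMapSubmonoid B U)

omit [Algebra D C] [Module D G] [IsScalarTower D C G] in
theorem fp_point_iff [Module.Flat S S'] [Module.Finite S N] [Module.FinitePresentation S' C] (g : N →ₗ[S] G)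
    (hg : IsBaseChange S' g) (hC : Function.Surjective (algebraMap S' C)) (q : Ideal S) [q.IsPrime]
    (q' : Ideal S') [q'.IsPrime] (z : Ideal C) [z.IsPrime] (hq' : q'.comap (algebraMap S S') = q)
    (hz : z.comap (algebraMap S' C) = q') :
    Module.FinitePresentation (Localization q.primeCompl) (LocalizedModule q.primeCompl N) ↔
      Module.FinitePresentation (Localization z.primeCompl) (LocalizedModule z.primeCompl G) := by
  let UC := Algebra.algebraMapSubmonoid C q'.primeCompl
  let L := Localization.AtPrime q'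
  haveI : Module.Flat S' L := IsLocalization.flat L q'.primeCompl
  haveI : Module.Flat S L := Module.Flat.trans S S' L
  have h1 : ∀ c : z.primeCompl, IsUnit (algebraMap C (Localization UC) c) := fun c => by
    obtain ⟨s, hs⟩ := hC c
    rw [← hs]
    exact isUnit_algebraMapSubmonoid q'.primeCompl (fun h => c.2 (hs ▸ (hz ▸ h : s ∈ z.comap (algebraMap S' C))))
  have h2 : ∀ c : UC, IsUnit (algebraMap C (Localization z.primeCompl) c) := fun c => by
    obtain ⟨_, s, hs, rfl⟩ := c
    exact IsLocalization.map_units (Localization z.primeCompl)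
      (⟨algebraMap S' C s, fun h => hs (hz ▸ h)⟩ : z.primeCompl)
  have hL : (IsLocalRing.maximalIdeal L).comap (algebraMap S L) = q := by
    rw [IsScalarTower.algebraMap_eq S S' L, ← Ideal.comap_comap]
    change Ideal.comap (algebraMap S S') ((IsLocalRing.maximalIdeal L).under S') = q
    rw [Localization.AtPrime.under_maximalIdeal, hq']
  have hu : ∀ s : q.primeCompl, IsUnit (algebraMap S L s) := fun s => by
    by_contra hs
    exact s.2 (hL ▸ ((IsLocalRing.mem_maximalIdeal _).2 hs : algebraMap S L s ∈ IsLocalRing.maximalIdeal L))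
  have hsurj : ∀ P : Ideal S, P.IsPrime → Disjoint (q.primeCompl : Set S) P →
      ∃ Q : Ideal L, Q.IsPrime ∧ Q.comap (algebraMap S L) = P := fun P hP hd => by
    have hPq : P ≤ (IsLocalRing.maximalIdeal L).under S := by
      rw [Ideal.under, hL]
      exact fun x hx => not_not.1 fun h' => Set.disjoint_left.1 hd h' hx
    haveI := hP
    haveI : (IsLocalRing.maximalIdeal L).LiesOver ((IsLocalRing.maximalIdeal L).under S) := ⟨rfl⟩
    obtain ⟨Q, -, hQ, hQP⟩ := Ideal.exists_ideal_le_liesOver_of_le (p := P) (IsLocalRing.maximalIdeal L) hPq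
    exact ⟨Q, hQ, hQP.over.symm⟩
  calc Module.FinitePresentation (Localization q.primeCompl) (LocalizedModule q.primeCompl N)
      ↔ Module.FinitePresentation L (L ⊗[S] N) :=
        ⟨fp_tensor_localized q.primeCompl hu, fp_localized_of_tensor q.primeCompl hu hsurj⟩
    _ ↔ Module.FinitePresentation (Localization UC) (LocalizedModule UC G) := fp_tensor_iff g hg q'.primeCompl
    _ ↔ _ := ⟨fp_of_units UC z.primeCompl h2, fp_of_units z.primeCompl UC h1⟩

omit [Algebra D C] [Module D G] [IsScalarTower D C G] in
theorem fp_open_iff [Module.Flat S S'] [Algebra.FinitePresentation S S'] [Module.Finite S N]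
    [Module.FinitePresentation S' C] (g : N →ₗ[S] G) (hg : IsBaseChange S' g)
    (hC : Function.Surjective (algebraMap S' C)) (q : Ideal S) [q.IsPrime]
    (q' : Ideal S') [q'.IsPrime] (z : Ideal C) [z.IsPrime] (hq' : q'.comap (algebraMap S S') = q)
    (hz : z.comap (algebraMap S' C) = q') :
    (∃ s : S, s ∉ q ∧ Module.FinitePresentation (Localization.Away s) (LocalizedModule (Submonoid.powers s) N)) ↔
      ∃ c : C, c ∉ z ∧ Module.FinitePresentation (Localization.Away c) (LocalizedModule (Submonoid.powers c) G) := by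
  constructor
  · rintro ⟨s, hs, hfp⟩
    refine ⟨algebraMap S' C (algebraMap S S' s), fun h => hs (by rw [← hq', ← hz]; exact h), ?_⟩
    let U := Submonoid.powers (algebraMap S S' s)
    have h1 := fp_tensor_localized (W := Localization U) (Submonoid.powers s) (fun x => by
      obtain ⟨_, k, rfl⟩ := x
      rw [map_pow, IsScalarTower.algebraMap_apply S S' (Localization U)]
      exact (IsLocalization.map_units (Localization U) (⟨_, Submonoid.mem_powers _⟩ : U)).pow k) hfp
    refine fp_of_units _ _ (fun x => ?_) ((fp_tensor_iff g hg U).1 h1)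
    obtain ⟨_, _, ⟨k, rfl⟩, rfl⟩ := x
    change IsUnit (algebraMap C _ (algebraMap S' C (algebraMap S S' s ^ k)))
    rw [map_pow, map_pow]
    exact (IsLocalization.Away.algebraMap_isUnit (algebraMap S' C (algebraMap S S' s))).pow k
  · rintro ⟨c, hc, hfp⟩
    obtain ⟨t, rfl⟩ := hC c
    have ht : t ∉ q' := fun h => hc (by rw [← hz] at h; exact h)
    have hopen : IsOpenMap (PrimeSpectrum.comap (algebraMap S S')) :=
      PrimeSpectrum.isOpenMap_comap_of_hasGoingDown_of_finitePresentation
    have himg := hopen _ (PrimeSpectrum.basicOpen t).isOpen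
    obtain ⟨_, ⟨_, ⟨s, rfl⟩, rfl⟩, hqs, hsub⟩ := PrimeSpectrum.isBasis_basic_opens.exists_subset_of_mem_open
      (show (⟨q, ‹_›⟩ : PrimeSpectrum S) ∈ PrimeSpectrum.comap (algebraMap S S') '' (PrimeSpectrum.basicOpen t : Set _)
        from ⟨⟨q', ‹_›⟩, ht, PrimeSpectrum.ext hq'⟩) himg
    refine ⟨s, hqs, ?_⟩
    let U : Submonoid S' := Submonoid.powers t ⊔ Submonoid.powers (algebraMap S S' s)
    let L := Localization U
    haveI : Module.Flat S' L := IsLocalization.flat L U
    haveI : Module.Flat S L := Module.Flat.trans S S' L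
    have hUC : Module.FinitePresentation (Localization (Algebra.algebraMapSubmonoid C U))
        (LocalizedModule (Algebra.algebraMapSubmonoid C U) G) := fp_of_units _ _ (fun x => by
      obtain ⟨_, k, rfl⟩ := x
      rw [map_pow]
      exact (isUnit_algebraMapSubmonoid U (le_sup_left (b := Submonoid.powers (algebraMap S S' s))
        (Submonoid.mem_powers t))).pow k) hfp
    refine fp_localized_of_tensor (W := L) (Submonoid.powers s) (fun x => ?_) (fun P hP hd => ?_)
      ((fp_tensor_iff g hg U).2 hUC)
    · obtain ⟨_, k, rfl⟩ := x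
      rw [map_pow, IsScalarTower.algebraMap_apply S S' L]
      exact (IsLocalization.map_units L (⟨_, le_sup_right (a := Submonoid.powers t) (Submonoid.mem_powers _)⟩ : U)).pow k
    · have hsP : s ∉ P := fun h => Set.disjoint_left.1 hd (Submonoid.mem_powers s) h
      obtain ⟨Q, htQ, hQ⟩ := hsub (show (⟨P, hP⟩ : PrimeSpectrum S) ∈ (PrimeSpectrum.basicOpen s : Set _) from hsP)
      have hQP : Q.asIdeal.comap (algebraMap S S') = P := congrArg PrimeSpectrum.asIdeal hQ
      have hdis : Disjoint (U : Set S') (Q.asIdeal : Set S') := by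
        have hle : U ≤ Q.asIdeal.primeCompl := sup_le (Submonoid.powers_le.2 htQ)
          (Submonoid.powers_le.2 (fun h => hsP (hQP ▸ h)))
        exact Set.disjoint_left.2 fun x hx hx' => hle hx hx'
      refine ⟨Q.asIdeal.map (algebraMap S' L), IsLocalization.isPrime_of_isPrime_disjoint U L _ Q.isPrime hdis, ?_⟩
      rw [IsScalarTower.algebraMap_eq S S' L, ← Ideal.comap_comap,
        show Ideal.comap (algebraMap S' L) (Q.asIdeal.map (algebraMap S' L)) = Q.asIdeal from
          IsLocalization.under_map_of_isPrime_disjoint U L Q.isPrime hdis, hQP]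

omit [Algebra S S'] [Algebra S' C] [Module S' G] [IsScalarTower S' C G] [Module S G] [IsScalarTower S S' G] in
theorem exists_dvd_image [Module.Finite D C] (y : Ideal D) [y.IsPrime] (z : Ideal C) [z.IsPrime]
    (huniq : ∀ Q : Ideal C, Q.IsPrime → Q.comap (algebraMap D C) = y → Q = z) {c : C} (hc : c ∉ z) :
    ∃ d : D, d ∉ y ∧ c ∣ algebraMap D C d := by
  have hle : ¬ (Ideal.span {c}).comap (algebraMap D C) ≤ y := fun hle => by
    obtain ⟨Q, hQc, hQ, hQy⟩ := Ideal.exists_ideal_over_prime_of_isIntegral y (Ideal.span {c}) hle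
    exact hc (huniq Q hQ hQy ▸ hQc (Ideal.mem_span_singleton_self c))
  obtain ⟨d, hdc, hdy⟩ := SetLike.not_le_iff_exists.1 hle
  exact ⟨d, hdy, Ideal.mem_span_singleton.1 hdc⟩

omit [Algebra S S'] [Algebra S' C] [Module S' G] [IsScalarTower S' C G] [Module S G] [IsScalarTower S S' G] in
theorem fp_point_unique_iff [Module.FinitePresentation D C] (y : Ideal D) [y.IsPrime] (z : Ideal C) [z.IsPrime]
    (hzy : z.comap (algebraMap D C) = y)
    (huniq : ∀ Q : Ideal C, Q.IsPrime → Q.comap (algebraMap D C) = y → Q = z) :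
    Module.FinitePresentation (Localization z.primeCompl) (LocalizedModule z.primeCompl G) ↔
      Module.FinitePresentation (Localization y.primeCompl) (LocalizedModule y.primeCompl G) := by
  refine Iff.trans ⟨fp_of_units _ _ ?_, fp_of_units _ _ ?_⟩ (fp_image_iff y.primeCompl).symm
  · intro c
    obtain ⟨d, hd, hdvd⟩ := exists_dvd_image y z huniq c.2
    exact isUnit_of_dvd_unit (map_dvd _ hdvd) (isUnit_algebraMapSubmonoid y.primeCompl hd)
  · intro c
    obtain ⟨_, d, hd, rfl⟩ := c
    exact IsLocalization.map_units (Localization z.primeCompl)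
      (⟨algebraMap D C d, fun h => hd (hzy ▸ h)⟩ : z.primeCompl)

omit [Algebra S S'] [Algebra S' C] [Module S' G] [IsScalarTower S' C G] [Module S G] [IsScalarTower S S' G] in
theorem fp_open_unique_iff [Module.FinitePresentation D C] (y : Ideal D) [y.IsPrime] (z : Ideal C) [z.IsPrime]
    (hzy : z.comap (algebraMap D C) = y)
    (huniq : ∀ Q : Ideal C, Q.IsPrime → Q.comap (algebraMap D C) = y → Q = z) :
    (∃ c : C, c ∉ z ∧ Module.FinitePresentation (Localization.Away c) (LocalizedModule (Submonoid.powers c) G)) ↔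
      ∃ d : D, d ∉ y ∧ Module.FinitePresentation (Localization.Away d) (LocalizedModule (Submonoid.powers d) G) := by
  constructor
  · rintro ⟨c, hc, hfp⟩
    obtain ⟨d, hd, hdvd⟩ := exists_dvd_image y z huniq hc
    refine ⟨d, hd, (fp_image_iff (Submonoid.powers d)).2 (fp_of_units _ _ (fun x => ?_) hfp)⟩
    obtain ⟨_, k, rfl⟩ := x
    rw [map_pow]
    exact (isUnit_of_dvd_unit (map_dvd _ hdvd)
      (isUnit_algebraMapSubmonoid (Submonoid.powers d) (Submonoid.mem_powers d))).pow k
  · rintro ⟨d, hd, hfp⟩
    refine ⟨algebraMap D C d, fun h => hd (hzy ▸ h), fp_of_units _ _ (fun x => ?_)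
      ((fp_image_iff (Submonoid.powers d)).1 hfp)⟩
    obtain ⟨_, _, ⟨k, rfl⟩, rfl⟩ := x
    change IsUnit (algebraMap C _ (algebraMap D C (d ^ k)))
    rw [map_pow, map_pow]
    exact (IsLocalization.Away.algebraMap_isUnit (algebraMap D C d)).pow k

end Groth.Agent.RG.Dev
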