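import Groth.Agent.RG.Loc.FiniteTools
import Groth.Agent.RG.Dev.FlatIff
import Groth.Agent.RG.Pure.DescentFlat

/-!
Descent of flatness at a point along a base change which is flat at the point of the base.
-/

set_option autoImplicit false
set_option backward.isDefEq.respectTransparency false

universe u

namespace Groth.Agent.RG.Dev

open TensorProduct

/-- A module over a flat localisation, flat over the ring, is flat over the base. -/
theorem flat_trans_localization {R R' X : Type u} [CommRing R] [CommRing R'] [Algebra R R'] (U : Submonoid R')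
    [Module.Flat R (Localization U)] [AddCommGroup X] [Module R' X] [Module R X] [IsScalarTower R R' X]
    [Module.Flat R' X] (hu : ∀ s : U, IsUnit (algebraMap R' (Module.End R' X) s)) : Module.Flat R X := by
  haveI : IsLocalizedModule U (LinearMap.id : X →ₗ[R'] X) :=
    { map_units := hu
      surj := fun z => ⟨(z, 1), by simp⟩
      exists_of_eq := fun h => ⟨1, by simpa using h⟩ }
  haveI : Module.Flat (Localization U) (Localization U ⊗[R'] X) := Module.Flat.baseChange R' (Localization U) X
  haveI : Module.Flat R (Localization U ⊗[R'] X) := Module.Flat.trans R (Localization U) _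
  let e : X ≃ₗ[R'] Localization U ⊗[R'] X := (IsLocalizedModule.iso U (LinearMap.id : X →ₗ[R'] X)).symm.trans
    ((LocalizedModule.equivTensorProduct U X).restrictScalars R')
  exact Module.Flat.of_linearEquiv (e.restrictScalars R)

/-- Flatness at a point descends. -/
theorem flatAt_descent_point {R S R' S' : Type u} [CommRing R] [CommRing S] [CommRing R'] [CommRing S'] [Algebra R S]
    [Algebra R R'] [Algebra S S'] [Algebra R' S'] [Algebra R S'] [IsScalarTower R S S'] [IsScalarTower R R' S']
    [Algebra.IsPushout R S R' S'] {M M' : Type u} [AddCommGroup M] [Module S M] [Module R M] [IsScalarTower R S M]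
    [AddCommGroup M'] [Module S' M'] [Module R' M'] [IsScalarTower R' S' M'] [Module S M'] [IsScalarTower S S' M']
    (f : M →ₗ[S] M') (hf : IsBaseChange S' f) (q : Ideal S) [q.IsPrime] (p' : Ideal R') [p'.IsPrime]
    (Q : Ideal S') [Q.IsPrime] (hQq : Q.comap (algebraMap S S') = q) (hQp : Q.comap (algebraMap R' S') = p')
    (hflat : Module.Flat R (Localization.AtPrime p')) (h : Module.Flat R' (LocalizedModule Q.primeCompl M')) :
    Module.Flat R (LocalizedModule q.primeCompl M) := by
  letI : Module R M' := Module.compHom M' (algebraMap R S')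
  haveI : IsScalarTower R S' M' := IsScalarTower.of_algebraMap_smul fun _ _ => rfl
  haveI : IsScalarTower R R' M' := IsScalarTower.of_algebraMap_smul fun r x => by
    rw [← algebraMap_smul S' (algebraMap R R' r) x, ← IsScalarTower.algebraMap_apply]; rfl
  haveI : IsScalarTower R S M' := IsScalarTower.of_algebraMap_smul fun r x => by
    rw [← algebraMap_smul S' (algebraMap R S r) x, ← IsScalarTower.algebraMap_apply]; rfl
  let W := Localization.AtPrime Q
  let X := LocalizedModule Q.primeCompl M'
  -- `X` is flat over `R`
  haveI : IsScalarTower R R' X := IsScalarTower.of_algebraMap_smul fun r x => by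
    rw [← algebraMap_smul S' (algebraMap R R' r) x, ← IsScalarTower.algebraMap_apply, algebraMap_smul]
  haveI : Module.Flat R X := by
    refine flat_trans_localization (R' := R') p'.primeCompl fun s => ?_
    have h1 := IsLocalizedModule.map_units (LocalizedModule.mkLinearMap Q.primeCompl M')
      (⟨algebraMap R' S' s, fun hs => s.2 (hQp.le hs)⟩ : Q.primeCompl)
    rw [Module.End.isUnit_iff] at h1 ⊢
    have h2 : ⇑(algebraMap R' (Module.End R' X) s) = ⇑(algebraMap S' (Module.End S' X) (algebraMap R' S' s)) :=
      funext fun x => by simp [algebraMap_smul]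
    exact h2 ▸ h1
  -- `W` is flat over `S`
  haveI : Module.Flat S W := by
    haveI : Module.Flat R (LocalizedModule p'.primeCompl R') := hflat
    haveI := RG.Loc.flat_baseChange_point (R := R) (H := S) (S := R') (B := S') p' Q hQp R' inferInstance
    exact Module.Flat.of_linearEquiv
      ((IsLocalizedModule.mapEquiv Q.primeCompl (LocalizedModule.mkLinearMap Q.primeCompl S')
        (LocalizedModule.mkLinearMap Q.primeCompl (S' ⊗[R'] R')) (Localization.AtPrime Q)
        (TensorProduct.AlgebraTensorModule.rid R' S' S').symm).restrictScalars S)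
  have hu : ∀ s : q.primeCompl, IsUnit (algebraMap S W s) := fun s => by
    rw [IsScalarTower.algebraMap_apply S S' W]
    exact IsLocalization.map_units W (⟨algebraMap S S' s, fun hs => s.2 (hQq.le hs)⟩ : Q.primeCompl)
  have hT : Module.Flat R (W ⊗[S] M) := by
    refine (flat_tensor_iff (C := S') f hf Q.primeCompl).2 ?_
    rw [show Algebra.algebraMapSubmonoid S' Q.primeCompl = Q.primeCompl from Submonoid.map_id _]
    exact inferInstanceAs (Module.Flat R X)
  refine flat_localized_of_tensor (W := W) q.primeCompl hu (fun P hP hd => ?_) hT
  haveI := hP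
  have hPq : P ≤ q := fun x hx => not_not.1 fun h' => Set.disjoint_left.1 hd h' hx
  haveI hl : (IsLocalRing.maximalIdeal W).LiesOver q := ⟨by
    rw [Ideal.under_def, IsScalarTower.algebraMap_eq S S' W, ← Ideal.comap_comap,
      show Ideal.comap (algebraMap S' W) (IsLocalRing.maximalIdeal W) = Q from
        Localization.AtPrime.under_maximalIdeal, hQq]⟩
  obtain ⟨Z, -, hZ, hZP⟩ := Ideal.exists_ideal_le_liesOver_of_le (p := P) (IsLocalRing.maximalIdeal W) hPq
  exact ⟨Z, hZ, hZP.over.symm⟩

end Groth.Agent.RG.Dev
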