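import Groth.Agent.RG.Dev.ElemDev
import Groth.Agent.SpRelDim.Scheme

/-!
# Local structure of a morphism of finite type
-/

set_option autoImplicit false

universe u

open CategoryTheory AlgebraicGeometry Limits
open scoped TensorProduct
open Groth.Agent

namespace Groth.Agent.RG.Dev.LocalStructure

theorem etale_specMap (A B : Type u) [CommRing A] [CommRing B] [Algebra A B] [Algebra.Etale A B] :
    Etale (Spec.map (CommRingCat.ofHom (algebraMap A B))) :=
  (HasRingHomProperty.Spec_iff (P := @Etale)).2 (RingHom.etale_algebraMap.2 inferInstance)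

/-- An étale ring neighbourhood gives an étale neighbourhood of a point of a scheme with an affine open. -/
theorem isEtaleNbhd_specMap {X : Scheme.{u}} (A B : Type u) [CommRing A] [CommRing B] [Algebra A B] [Algebra.Etale A B]
    (j : Spec (CommRingCat.of A) ⟶ X) [IsOpenImmersion j] (a : Ideal A) [a.IsPrime] (b : Ideal B) [b.IsPrime]
    [hb : b.LiesOver a] (h : Function.Bijective (Ideal.ResidueField.map a b (algebraMap A B) hb.over))
    (x : X) (hx : j (⟨a, ‹_›⟩ : PrimeSpectrum A) = x) :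
    Hens2.IsEtaleNbhd (Spec.map (CommRingCat.ofHom (algebraMap A B)) ≫ j) (⟨b, ‹_›⟩ : PrimeSpectrum B) x := by
  let g := Spec.map (CommRingCat.ofHom (algebraMap A B))
  let u : Spec (CommRingCat.of B) := (⟨b, ‹_›⟩ : PrimeSpectrum B)
  have hgu : PrimeSpectrum.comap (algebraMap A B) ⟨b, ‹_›⟩ = (⟨a, ‹_›⟩ : PrimeSpectrum A) :=
    PrimeSpectrum.ext hb.over.symm
  haveI : Etale g := etale_specMap A B
  have hgiso : IsIso (g.residueFieldMap u) := by
    refine (EtaPtLib.bijective_residueField_map_iff (algebraMap A B) ⟨b, ‹_›⟩).2 ?_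
    obtain rfl : a = b.comap (algebraMap A B) := hb.over
    exact h
  refine ⟨inferInstance, ?_, ?_⟩
  · show j (g u) = x
    rw [← hx]
    exact congrArg j hgu
  · haveI : IsIso ((g ≫ j).residueFieldMap u) := by
      rw [Scheme.residueFieldMap_comp]
      exact @IsIso.comp_isIso _ _ _ _ _ (j.residueFieldMap (g u)) (g.residueFieldMap u) inferInstance hgiso
    exact ConcreteCategory.bijective_of_isIso ((g ≫ j).residueFieldMap u)

/-- The local dimension of the fibre ring at a point is the fibre dimension of the morphism of spectra. -/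
theorem localDim_fiber {R A : Type u} [CommRing R] [CommRing A] [Algebra R A] (p : Ideal R) [p.IsPrime] (q : Ideal A)
    [q.IsPrime] [hq : q.LiesOver p] :
    ∃ X : PrimeSpectrum (p.Fiber A),
      X.asIdeal.comap (Algebra.TensorProduct.includeRight (R := R) (A := p.ResidueField) (B := A)).toRingHom = q ∧
      FlatMor.localDim (PrimeSpectrum (p.Fiber A)) X =
        FlatMor.fibreDimAt (Spec.map (CommRingCat.ofHom (algebraMap R A))) (⟨q, ‹_›⟩ : PrimeSpectrum A) := by
  obtain ⟨X, hX⟩ := FibreBij.exists_fiber_point p q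
  refine ⟨X, hX, ?_⟩
  let f := Spec.map (CommRingCat.ofHom (algebraMap R A))
  let x : Spec (CommRingCat.of A) := (⟨q, ‹_›⟩ : PrimeSpectrum A)
  have hfx : f x = (⟨p, ‹_›⟩ : PrimeSpectrum R) := PrimeSpectrum.ext hq.over.symm
  let e₁ : PrimeSpectrum (p.Fiber A) ≃ₜ ↥(PrimeSpectrum.comap (algebraMap R A) ⁻¹' {⟨p, ‹_›⟩}) :=
    (Shrink.proj_isEmbedding (S := A) p).toHomeomorph.trans (Homeomorph.setCongr (Shrink.range_proj p))
  let e₂ : ↥(f ⁻¹' {f x}) ≃ₜ ↥(PrimeSpectrum.comap (algebraMap R A) ⁻¹' {⟨p, ‹_›⟩}) :=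
    Homeomorph.setCongr (by rw [hfx]; rfl)
  let e := e₁.trans (e₂.symm.trans (f.fiberHomeo (f x)).symm)
  have he : e X = f.asFiber x := by
    refine congrArg (f.fiberHomeo (f x)).symm (e₂.injective ((e₂.apply_symm_apply _).trans ?_))
    exact Subtype.ext (PrimeSpectrum.ext hX)
  rw [FlatMor.fibreDimAt, ← FibreBij.localDim_homeo e X, he]

/-- A morphism locally of finite type is, étale locally, finite over a smooth morphism with geometrically
integral fibres. -/
theorem exists_localStructure {X S : Scheme.{u}} (f : X ⟶ S) [LocallyOfFiniteType f] (x : X) (n : ℕ)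
    (hn : FlatMor.fibreDimAt f x = n) :
    ∃ (S' Y' X' : Scheme.{u}) (e : S' ⟶ S) (h : Y' ⟶ S') (π : X' ⟶ Y') (g : X' ⟶ X) (s' : S') (x' : X'),
      IsAffine S' ∧ IsAffine Y' ∧ IsAffine X' ∧ Hens2.IsEtaleNbhd e s' (f x) ∧ Hens2.IsEtaleNbhd g x' x ∧
      g ≫ f = π ≫ h ≫ e ∧ SmoothOfRelativeDimension n h ∧ GeometricallyIntegral h ∧ IsFinite π ∧ h (π x') = s' ∧
      ∀ z : X', π z = π x' → z = x' := by
  obtain ⟨U, hU, hxU, -⟩ := exists_isAffineOpen_mem_and_subset (X := S) (x := f x) (U := ⊤) trivial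
  obtain ⟨V, hV, hxV, hVU⟩ := exists_isAffineOpen_mem_and_subset (X := X) (x := x) (U := f ⁻¹ᵁ U) hxU
  have hVU' : V ≤ f ⁻¹ᵁ U := hVU
  let R : Type u := Γ(S, U)
  let A : Type u := Γ(X, V)
  letI : Algebra R A := (f.appLE U V hVU').hom.toAlgebra
  haveI : Algebra.FiniteType R A := LocallyOfFiniteType.finiteType_appLE f hU hV hVU'
  let jR : Spec (CommRingCat.of R) ⟶ S := hU.fromSpec
  let jA : Spec (CommRingCat.of A) ⟶ X := hV.fromSpec
  haveI : IsOpenImmersion jR := IsOpenImmersion.comp _ _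
  haveI : IsOpenImmersion jA := IsOpenImmersion.comp _ _
  obtain ⟨xq, hxq⟩ : x ∈ Set.range jA := by
    show x ∈ Set.range hV.fromSpec
    rw [hV.range_fromSpec]; exact hxV
  have hsq : Spec.map (CommRingCat.ofHom (algebraMap R A)) ≫ jR = jA ≫ f :=
    IsAffineOpen.SpecMap_appLE_fromSpec f hU hV hVU'
  let q : Ideal A := PrimeSpectrum.asIdeal xq
  haveI hqprime : q.IsPrime := PrimeSpectrum.isPrime xq
  let p : Ideal R := q.comap (algebraMap R A)
  haveI : q.LiesOver p := ⟨rfl⟩
  have hp : jR (⟨p, inferInstance⟩ : PrimeSpectrum R) = f x := by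
    rw [← hxq]
    exact congrArg (fun k : Spec (CommRingCat.of A) ⟶ S => k xq) hsq
  haveI : LocallyOfFiniteType (Spec.map (CommRingCat.ofHom (algebraMap R A))) :=
    (HasRingHomProperty.Spec_iff (P := @LocallyOfFiniteType)).2 (RingHom.finiteType_algebraMap.2 inferInstance)
  obtain ⟨Xf, hXf, hXn⟩ := localDim_fiber p q
  have hn' : FlatMor.localDim (PrimeSpectrum (p.Fiber A)) Xf = n := by
    rw [hXn, ← hn, ← hxq, ← SpRelDim.fibreDimAt_etale_comp jA f,
      ← SpRelDim.fibreDimAt_comp_etale (Spec.map (CommRingCat.ofHom (algebraMap R A))) jR]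
    congr 1
  obtain ⟨P, C₁, _, _, _, _, _, _, _, _, y, q₁, _, _, _, _, hq₁q, hsm, hpt, hetC₁, hfin, hres₁, huniq₁⟩ :=
    ElemDev.exists_finite_chart p q n Xf hXf hn'
  obtain ⟨R', _, _, p', _, D, _, _, _, _, _, _, y', _, hy'p, hy'y, hR', hDet, hresD, hptD, hsmD, hgi⟩ :=
    SmoothNbhd.exists_integral_nbhd hsm p y hpt
  obtain ⟨hetR, hp'p, hresR⟩ := hR'
  haveI := hetR
  haveI := hp'p
  let C := D ⊗[P] C₁
  letI : Algebra C₁ C := Algebra.TensorProduct.rightAlgebra
  haveI : Algebra.IsPushout P D C₁ C := inferInstance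
  obtain ⟨z, hz, hzy, hzq₁⟩ := FibreBij.exists_liesOver (S := C₁) (S' := C) y y' hresD q₁
  haveI := hz
  haveI := hzy
  haveI := hzq₁
  haveI : Algebra.Etale C₁ C := Algebra.Etale.of_equiv
    (AlgEquiv.ofRingEquiv (f := (Algebra.TensorProduct.comm P C₁ D).toRingEquiv)
      (fun r => by simp [Algebra.TensorProduct.right_algebraMap_apply]; rfl))
  letI : Algebra A C := ((algebraMap C₁ C).comp (algebraMap A C₁)).toAlgebra
  haveI : IsScalarTower A C₁ C := IsScalarTower.of_algebraMap_eq fun _ => rfl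
  haveI : Algebra.Etale A C := Algebra.Etale.comp A C₁ C
  haveI hzq : z.LiesOver q := ⟨by
    rw [Ideal.under, IsScalarTower.algebraMap_eq A C₁ C, ← Ideal.comap_comap]
    exact hq₁q.over.trans (congrArg (Ideal.comap _) hzq₁.over)⟩
  have hres : Function.Bijective (Ideal.ResidueField.map q z (algebraMap A C) hzq.over) := by
    have h1 := FibreBij.residue_bijective (S := C₁) (S' := C) y y' hresD q₁ z
    have h2 : Ideal.ResidueField.map q z (algebraMap A C) hzq.over =
        (Ideal.ResidueField.map q₁ z (algebraMap C₁ C) hzq₁.over).comp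
          (Ideal.ResidueField.map q q₁ (algebraMap A C₁) hq₁q.over) := by
      refine Ideal.ResidueField.ringHom_ext (RingHom.ext fun a => ?_)
      simp only [RingHom.comp_apply, Ideal.ResidueField.map_algebraMap]
      rw [← IsScalarTower.algebraMap_apply A C₁ C]
    rw [h2]
    exact h1.comp hres₁
  have hresR' : Function.Bijective (Ideal.ResidueField.map p p' (algebraMap R R') hp'p.over) := by
    have h2 : Ideal.ResidueField.map p p' (algebraMap R R') hp'p.over =
        (Ideal.ResidueField.mapₐ p p' (Algebra.ofId R R') hp'p.over).toRingHom := by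
      refine Ideal.ResidueField.ringHom_ext (RingHom.ext fun a => ?_)
      simp [IsScalarTower.algebraMap_apply R R' p'.ResidueField]
    rw [h2]
    exact hresR
  let h := Spec.map (CommRingCat.ofHom (algebraMap R' D))
  let π := Spec.map (CommRingCat.ofHom (algebraMap D C))
  refine ⟨Spec (CommRingCat.of R'), Spec (CommRingCat.of D), Spec (CommRingCat.of C),
    Spec.map (CommRingCat.ofHom (algebraMap R R')) ≫ jR, h, π,
    Spec.map (CommRingCat.ofHom (algebraMap A C)) ≫ jA, (⟨p', ‹_›⟩ : PrimeSpectrum R'), (⟨z, hz⟩ : PrimeSpectrum C),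
    inferInstance, inferInstance, inferInstance, isEtaleNbhd_specMap R R' jR p p' hresR' (f x) hp,
    isEtaleNbhd_specMap A C jA q z hres x hxq, ?_, hsmD, hgi, ?_, ?_, ?_⟩
  · rw [Category.assoc, ← hsq]
    simp only [h, π, ← Spec.map_comp_assoc, ← CommRingCat.ofHom_comp]
    congr 3
    refine RingHom.ext fun r => ?_
    show algebraMap C₁ C (algebraMap A C₁ (algebraMap R A r)) =
      algebraMap D C (algebraMap R' D (algebraMap R R' r))
    rw [← IsScalarTower.algebraMap_apply R A C₁, IsScalarTower.algebraMap_apply R P C₁,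
      ← IsScalarTower.algebraMap_apply R R' D, IsScalarTower.algebraMap_apply R P D,
      ← IsScalarTower.algebraMap_apply P D C, ← IsScalarTower.algebraMap_apply P C₁ C]
  · exact (IsFinite.SpecMap_iff (CommRingCat.ofHom (algebraMap D C))).2 (RingHom.finite_algebraMap.2 inferInstance)
  · refine PrimeSpectrum.ext ?_
    show (z.comap (algebraMap D C)).comap (algebraMap R' D) = p'
    exact (congrArg (Ideal.comap _) hzy.over.symm).trans hy'p.over.symm
  · intro w hw
    let w' : Ideal C := PrimeSpectrum.asIdeal (R := C) w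
    haveI : w'.IsPrime := PrimeSpectrum.isPrime w
    haveI hwy : w'.LiesOver y' := ⟨hzy.over.trans (congrArg PrimeSpectrum.asIdeal hw).symm⟩
    let w₁ := w'.comap (algebraMap C₁ C)
    have hw₁ : w₁.LiesOver y := ⟨by
      rw [Ideal.under, Ideal.comap_comap, ← IsScalarTower.algebraMap_eq, IsScalarTower.algebraMap_eq P D C,
        ← Ideal.comap_comap]
      exact hy'y.over.trans (congrArg (Ideal.comap _) hwy.over)⟩
    exact PrimeSpectrum.ext
      (FibreBij.eq_of_liesOver (S := C₁) (S' := C) y y' hresD q₁ w' z ⟨(huniq₁ w₁ hw₁).symm⟩ hzq₁)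

end Groth.Agent.RG.Dev.LocalStructure
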