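import Groth.Agent.GeomFib.SectionConn
import Groth.Agent.S1327
import Groth.Agent.S9765
import Groth.Agent.ConsSet.Basic
import Groth.Prelude

/-!
# An open with geometrically connected fibres through a finite flat quasi-section
-/

set_option autoImplicit false

universe u

open CategoryTheory AlgebraicGeometry Limits TopologicalSpace
open Groth.Agent

namespace Groth.Agent.RGDev

/-- The fibres of a finite flat quasi-section over nearby points lie in the connected components
which a single one of its points determines. -/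
theorem exists_open_quasiSection {X Y Z : Scheme.{u}} (f : X ⟶ Y) [Flat f] [LocallyOfFinitePresentation f]
    [QuasiCompact f] [QuasiSeparated f] [GeometricallyReduced f] (g : Z ⟶ Y) [IsFinite g] [Flat g]
    [LocallyOfFinitePresentation g] (σ : Z ⟶ X) (hσ : σ ≫ f = g) (y : Y) (hZy : y ∈ Set.range g)
    (hXy : GeometricallyConnected (f.fiberToSpecResidueField y)) :
    ∃ U : X.Opens, IsCompact (U : Set X) ∧ f ⁻¹' {y} ⊆ (U : Set X) ∧
      ∀ y' : Y, (∃ x ∈ U, f x = y') → GeometricallyConnected ((U.ι ≫ f).fiberToSpecResidueField y') := by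
  let fZ : pullback f g ⟶ Z := pullback.snd f g
  let pX : pullback f g ⟶ X := pullback.fst f g
  let s : Z ⟶ pullback f g := pullback.lift σ (𝟙 Z) (by rw [hσ, Category.id_comp])
  have hs : s ≫ fZ = 𝟙 Z := pullback.lift_snd _ _ _
  have hsX : s ≫ pX = σ := pullback.lift_fst _ _ _
  have : GeometricallyReduced fZ := MorphismProperty.pullback_snd _ _ ‹_›
  -- the section components are open
  let W₀ : Set ↥(pullback f g) := MoreMor.sectionComponents fZ s
  have hWopen : IsOpen W₀ := by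
    refine isOpen_iff_mem_nhds.2 fun x hx ↦ mem_interior_iff_mem_nhds.1 ?_
    exact S1327.result fZ s hs (fZ x) (MorphismProperty.pullback_snd _ _ ‹_›) hx
  have hWcons : Topology.IsLocallyConstructible W₀ := GeomFib.isLocallyConstructible_sectionComponents fZ s hs
  -- the two sections over the pairs
  let p₁ : pullback g g ⟶ Z := pullback.fst g g
  let p₂ : pullback g g ⟶ Z := pullback.snd g g
  let fP : pullback fZ p₁ ⟶ pullback g g := pullback.snd fZ p₁
  let e₁ : pullback fZ p₁ ⟶ pullback f g := pullback.fst fZ p₁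
  let t₁ : pullback g g ⟶ pullback fZ p₁ := pullback.lift (p₁ ≫ s) (𝟙 _) (by rw [Category.assoc, hs, Category.comp_id, Category.id_comp])
  let t₂ : pullback g g ⟶ pullback fZ p₁ := pullback.lift (pullback.lift (p₂ ≫ σ) p₁
      (by rw [Category.assoc, hσ]; exact pullback.condition.symm)) (𝟙 _)
    (by rw [Category.id_comp]; exact pullback.lift_snd _ _ _)
  have ht₁ : t₁ ≫ fP = 𝟙 _ := pullback.lift_snd _ _ _
  have ht₂ : t₂ ≫ fP = 𝟙 _ := pullback.lift_snd _ _ _
  have hsq₁ : IsPullback e₁ fP fZ p₁ := IsPullback.of_hasPullback _ _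
  let e₂ : pullback fZ p₁ ⟶ pullback f g := pullback.lift (e₁ ≫ pX) (fP ≫ p₂)
    (by rw [Category.assoc, pullback.condition, Category.assoc, show p₂ ≫ g = p₁ ≫ g from pullback.condition.symm,
      ← Category.assoc, ← Category.assoc, pullback.condition])
  have hsq₂ : IsPullback e₂ fP fZ p₂ := by
    refine IsPullback.of_right ?_ (pullback.lift_snd _ _ _) (IsPullback.of_hasPullback f g)
    rw [show e₂ ≫ pullback.fst f g = e₁ ≫ pX from pullback.lift_fst _ _ _,
      show p₂ ≫ g = p₁ ≫ g from pullback.condition.symm]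
    exact hsq₁.paste_horiz (IsPullback.of_hasPullback f g)
  have he₂X : e₂ ≫ pX = e₁ ≫ pX := pullback.lift_fst _ _ _
  have hge₂ : t₂ ≫ e₂ = p₂ ≫ s := by
    apply pullback.hom_ext
    · rw [Category.assoc, Category.assoc, show e₂ ≫ pullback.fst f g = e₁ ≫ pX from he₂X,
        pullback.lift_fst_assoc, pullback.lift_fst, show s ≫ pullback.fst f g = σ from hsX]
    · rw [Category.assoc, Category.assoc, show e₂ ≫ pullback.snd f g = fP ≫ p₂ from pullback.lift_snd _ _ _,
        ← Category.assoc, ht₂, show s ≫ pullback.snd f g = 𝟙 Z from hs, Category.comp_id, Category.id_comp]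
  have hW₁ : MoreMor.sectionComponents fP t₁ = e₁ ⁻¹' W₀ :=
    GeomFib.sectionComponents_baseChange fZ s hs hsq₁ ht₁ (pullback.lift_fst _ _ _)
  have hW₂ : MoreMor.sectionComponents fP t₂ = e₂ ⁻¹' W₀ :=
    GeomFib.sectionComponents_baseChange fZ s hs hsq₂ ht₂ hge₂
  -- the pairs in one component
  let L : Set ↥(pullback g g) := t₂ ⁻¹' (e₁ ⁻¹' W₀)
  have hLopen : IsOpen L := (hWopen.preimage e₁.continuous).preimage t₂.continuous
  have hconnY : ∀ p : ↥(pullback g g), g (p₁ p) = y → p ∈ L := fun p hp ↦ by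
    have hconn : GeometricallyConnected (fP.fiberToSpecResidueField p) := by
      have h1 := (S9765.result f (p₁ ≫ g) fP (e₁ ≫ pX) (hsq₁.paste_horiz (IsPullback.of_hasPullback f g))).ge
      exact h1 (show GeometricallyConnected (f.fiberToSpecResidueField ((p₁ ≫ g) p)) by
        rw [Scheme.Hom.comp_apply, hp]; exact hXy)
    have : ConnectedSpace ↥(fP.fiber p) :=
      hconn.geometrically_connectedSpace (𝟙 _) (𝟙 _) (fP.fiberToSpecResidueField p) (IsPullback.id_horiz _)
    show t₂ p ∈ e₁ ⁻¹' W₀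
    rw [← hW₁]
    show t₂ p ∈ connectedComponentIn (fP ⁻¹' {fP (t₂ p)}) (t₁ (fP (t₂ p)))
    rw [GeomFib.section_apply fP t₂ ht₂]
    exact (isConnected_iff_connectedSpace.mpr ((fP.fiberHomeo p).connectedSpace_iff.mp ‹_›)).isPreconnected
      |>.subset_connectedComponentIn (GeomFib.section_apply fP t₁ ht₁ p) subset_rfl (GeomFib.section_apply fP t₂ ht₂ p)
  -- an affine neighbourhood of `y`
  have hcl : IsClosed ((p₁ ≫ g) '' Lᶜ) := (p₁ ≫ g).isClosedMap _ hLopen.isClosed_compl
  obtain ⟨V, hV, hyV, hVL⟩ := exists_isAffineOpen_mem_and_subset (X := Y) (U := ⟨_, hcl.isOpen_compl⟩) (x := y)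
    (fun ⟨p, hp, hpy⟩ ↦ hp (hconnY p hpy))
  have hVpair : ∀ p : ↥(pullback g g), g (p₁ p) ∈ V → p ∈ L := fun p hp ↦ by
    by_contra h
    exact hVL hp ⟨p, h, rfl⟩
  -- the open
  let ZV : Z.Opens := g ⁻¹ᵁ V
  let W : Set ↥(pullback f g) := W₀ ∩ fZ ⁻¹' (ZV : Set Z)
  have hWo : IsOpen W := hWopen.inter (ZV.2.preimage fZ.continuous)
  have hWc : IsCompact W := by
    have hc : IsCompact ((fZ ⁻¹ᵁ ZV : (pullback f g).Opens) : Set ↥(pullback f g)) :=
      QuasiCompact.isCompact_preimage (f := fZ) _ ZV.2 (hV.preimage g).isCompact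
    let T := fZ ⁻¹ᵁ ZV
    have : CompactSpace T.toScheme := isCompact_iff_compactSpace.mp hc
    have : IsAffine ZV.toScheme := hV.preimage g
    have : QuasiSeparated (fZ ∣_ ZV) :=
      MorphismProperty.of_isPullback (isPullback_morphismRestrict fZ ZV).flip (MorphismProperty.pullback_snd _ _ ‹_›)
    have : QuasiSeparatedSpace T.toScheme := (quasiSeparated_iff_quasiSeparatedSpace (fZ ∣_ ZV)).mp ‹_›
    have h1 : IsCompact (T.ι ⁻¹' W₀) :=
      (ConsSet.isRetrocompact (hWcons.preimage_of_isOpenEmbedding T.ι.isOpenEmbedding).isConstructible).isCompact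
    have h2 := h1.image T.ι.continuous
    rwa [Set.image_preimage_eq_inter_range, T.range_ι] at h2
  let U : X.Opens := ⟨pX '' W, pX.isOpenMap _ hWo⟩
  refine ⟨U, hWc.image pX.continuous, fun x (hx : f x = y) ↦ ?_, ?_⟩
  · obtain ⟨z, hz⟩ := hZy
    obtain ⟨w, hwx, hwz⟩ := Scheme.Pullback.exists_preimage_pullback (f := f) (g := g) x z (by rw [hx, hz])
    refine ⟨w, ⟨?_, ?_⟩, hwx⟩
    · have hconn : GeometricallyConnected (fZ.fiberToSpecResidueField z) :=
        (S9765.result f g fZ pX (IsPullback.of_hasPullback f g)).ge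
          (show GeometricallyConnected (f.fiberToSpecResidueField (g z)) by rw [hz]; exact hXy)
      have : ConnectedSpace ↥(fZ.fiber z) :=
        hconn.geometrically_connectedSpace (𝟙 _) (𝟙 _) (fZ.fiberToSpecResidueField z) (IsPullback.id_horiz _)
      show w ∈ connectedComponentIn (fZ ⁻¹' {fZ w}) (s (fZ w))
      rw [show fZ w = z from hwz]
      exact (isConnected_iff_connectedSpace.mpr ((fZ.fiberHomeo z).connectedSpace_iff.mp ‹_›)).isPreconnected
        |>.subset_connectedComponentIn (GeomFib.section_apply fZ s hs z) subset_rfl hwz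
    · show fZ w ∈ g ⁻¹ᵁ V
      rw [show fZ w = z from hwz]
      exact show g z ∈ V from hz ▸ hyV
  intro y' hy'
  obtain ⟨x, ⟨w, ⟨hw, hwV⟩, rfl⟩, hxy⟩ := hy'
  let z₀ : Z := fZ w
  have hz₀ : g z₀ = y' := by
    rw [← Scheme.Hom.comp_apply, ← pullback.condition, Scheme.Hom.comp_apply]; exact hxy
  -- the preimage of the open is the union of the components
  have hpre : ∀ u : ↥(pullback f g), fZ u ∈ ZV → (pX u ∈ U ↔ u ∈ W₀) := fun u hu ↦ by
    refine ⟨fun h ↦ ?_, fun h ↦ ⟨u, ⟨h, hu⟩, rfl⟩⟩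
    obtain ⟨w', ⟨hw', hwV'⟩, heq⟩ := h
    have hgg : g (fZ w') = g (fZ u) := by
      rw [← Scheme.Hom.comp_apply, ← Scheme.Hom.comp_apply, ← pullback.condition, Scheme.Hom.comp_apply,
        Scheme.Hom.comp_apply]
      exact congrArg f heq
    obtain ⟨t, hte₁, hte₂⟩ : ∃ t : ↥(pullback fZ p₁), e₁ t = w' ∧ e₂ t = u := by
      have hsq : IsPullback e₁ e₂ pX pX := by
        refine IsPullback.of_bot ?_ he₂X.symm (IsPullback.of_hasPullback f g)
        rw [show e₂ ≫ pullback.snd f g = fP ≫ p₂ from pullback.lift_snd _ _ _, pullback.condition]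
        exact hsq₁.paste_vert (IsPullback.of_hasPullback g g)
      obtain ⟨t, h1, h2⟩ := Scheme.Pullback.exists_preimage_pullback w' u heq
      refine ⟨hsq.isoPullback.inv t, ?_, ?_⟩
      · rw [← Scheme.Hom.comp_apply, hsq.isoPullback_inv_fst]; exact h1
      · rw [← Scheme.Hom.comp_apply, hsq.isoPullback_inv_snd]; exact h2
    have hpL : fP t ∈ L := hVpair _ (by
      rw [show p₁ (fP t) = fZ w' by rw [← hte₁, ← Scheme.Hom.comp_apply, ← pullback.condition, Scheme.Hom.comp_apply]]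
      exact hwV')
    have h1 : t ∈ MoreMor.sectionComponents fP t₁ := by rw [hW₁]; show e₁ t ∈ W₀; rw [hte₁]; exact hw'
    have h2 : t₂ (fP t) ∈ MoreMor.sectionComponents fP t₁ := by rw [hW₁]; exact hpL
    have h3 : t ∈ MoreMor.sectionComponents fP t₂ := by
      rw [GeomFib.mem_sectionComponents_iff] at h1 h2 ⊢
      rw [GeomFib.section_apply fP t₂ ht₂] at h2
      rwa [← connectedComponentIn_eq h2]
    rw [hW₂] at h3
    rw [← hte₂]; exact h3
  -- the base change to the preimage of the neighbourhood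
  let gV : ZV.toScheme ⟶ Y := ZV.ι ≫ g
  let h := pullback.snd (U.ι ≫ f) gV
  have hfac : Set.range (ZV.ι ≫ σ) ⊆ Set.range U.ι := by
    rintro _ ⟨a, rfl⟩
    rw [U.range_ι]
    refine ⟨s (ZV.ι a), ⟨?_, ?_⟩, ?_⟩
    · show s (ZV.ι a) ∈ connectedComponentIn (fZ ⁻¹' {fZ (s (ZV.ι a))}) (s (fZ (s (ZV.ι a))))
      rw [GeomFib.section_apply fZ s hs]
      exact mem_connectedComponentIn (GeomFib.section_apply fZ s hs _)
    · show fZ (s (ZV.ι a)) ∈ ZV
      rw [GeomFib.section_apply fZ s hs]; exact a.2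
    · rw [← Scheme.Hom.comp_apply, hsX, Scheme.Hom.comp_apply]
  let l : ZV.toScheme ⟶ U.toScheme := IsOpenImmersion.lift U.ι (ZV.ι ≫ σ) hfac
  have hl : l ≫ U.ι = ZV.ι ≫ σ := IsOpenImmersion.lift_fac _ _ _
  let sV : ZV.toScheme ⟶ pullback (U.ι ≫ f) gV :=
    pullback.lift l (𝟙 _) (by rw [reassoc_of% hl, hσ, Category.id_comp])
  let j : pullback (U.ι ≫ f) gV ⟶ pullback f g :=
    pullback.map _ _ _ _ U.ι ZV.ι (𝟙 _) (Category.comp_id _) (Category.comp_id _)
  have hjX : j ≫ pX = pullback.fst _ _ ≫ U.ι := pullback.lift_fst _ _ _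
  have hjZ : j ≫ fZ = h ≫ ZV.ι := pullback.lift_snd _ _ _
  let a₀ : ZV.toScheme := ⟨z₀, hwV⟩
  have himg : j '' (h ⁻¹' {a₀}) = connectedComponentIn (fZ ⁻¹' {z₀}) (s z₀) := by
    have hW₀ : ∀ u : ↥(pullback f g), fZ u = z₀ → (u ∈ W₀ ↔ u ∈ connectedComponentIn (fZ ⁻¹' {z₀}) (s z₀)) := fun u hu ↦ by
      rw [← hu]; rfl
    ext u
    constructor
    · rintro ⟨q, hq, rfl⟩
      have hqz : fZ (j q) = z₀ := by
        rw [← Scheme.Hom.comp_apply, hjZ, Scheme.Hom.comp_apply, show h q = a₀ from hq]; rfl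
      refine (hW₀ _ hqz).1 ((hpre _ (by rw [hqz]; exact hwV)).1 ?_)
      rw [← Scheme.Hom.comp_apply, hjX, Scheme.Hom.comp_apply]
      exact (pullback.fst (U.ι ≫ f) gV q).2
    · intro hu
      have huz : fZ u = z₀ := connectedComponentIn_subset (fZ ⁻¹' {z₀}) _ hu
      have huU : pX u ∈ U := (hpre _ (by rw [huz]; exact hwV)).2 ((hW₀ _ huz).2 hu)
      obtain ⟨q, rfl⟩ : u ∈ Set.range j := by
        rw [Scheme.Pullback.range_map]
        exact ⟨by rw [U.range_ι]; exact huU, by rw [ZV.range_ι]; show fZ u ∈ ZV; rw [huz]; exact hwV⟩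
      refine ⟨q, ZV.ι.isOpenEmbedding.injective ?_, rfl⟩
      rw [← Scheme.Hom.comp_apply, ← hjZ, Scheme.Hom.comp_apply]
      exact huz
  have hconn : GeometricallyConnected (h.fiberToSpecResidueField a₀) := by
    rw [GeomFib.geometricallyConnected_fiber_iff]
    refine GeomFib.nGeomConnComp_eq_one h sV (pullback.lift_snd _ _ _) a₀ ⟨⟨sV a₀, GeomFib.section_apply h sV (pullback.lift_snd _ _ _) a₀⟩, ?_⟩
    rw [← j.isEmbedding.isInducing.isPreconnected_image, himg]
    exact isPreconnected_connectedComponentIn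
  have h1 := (S9765.result (U.ι ≫ f) gV h _ (IsPullback.of_hasPullback _ _)).le hconn
  have hgy : gV a₀ = y' := hz₀
  rw [← hgy]
  exact h1

end Groth.Agent.RGDev
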