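import Groth.Prelude
import Groth.Agent.RG.Dev.Shrink

/-!
The standard shrinking of a one-step dévissage at a point.
-/

set_option autoImplicit false
set_option maxHeartbeats 2000000
universe u
open FlatMor TensorProduct CategoryTheory

namespace Groth.Agent.RG.Dev.Shrink

theorem isPullback_id_mono {C : Type*} [Category C] {X Y Z : C} (f : X ⟶ Y) (i : Y ⟶ Z) [Mono i] :
    IsPullback (𝟙 X) f (f ≫ i) i :=
  ⟨⟨by simp⟩, ⟨Limits.PullbackCone.IsLimit.mk _ (fun s => s.fst) (fun s => Category.comp_id _)
    (fun s => by
      rw [← cancel_mono i, Category.assoc]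
      exact s.condition)
    (fun s m h1 _ => by simpa using h1)⟩⟩

attribute [local instance] Algebra.TensorProduct.rightAlgebra in
theorem exists_shrink
    (R S : Type u) [CommRing R] [CommRing S] [Algebra R S] [Algebra.FiniteType R S]
    (N : Type u) [AddCommGroup N] [Module S N] [Module R N] [IsScalarTower R S N] [Module.Finite S N]
    (p : Ideal R) [p.IsPrime] (q : Ideal S) [q.IsPrime] [q.LiesOver p]
    (C D G : Type u) [CommRing C] [CommRing D] [Algebra S C] [Algebra R C] [IsScalarTower R S C]
    [Algebra R D] [Algebra D C] [IsScalarTower R D C] [AddCommGroup G] [Module C G] [Module S G]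
    [IsScalarTower S C G] (n : ℕ)
    (h : FlatCA.IsOneStepDevissage R S N p C D G n)
    (z : Ideal C) [z.IsPrime] (y : Ideal D) [y.IsPrime] [z.LiesOver q] [z.LiesOver y] [y.LiesOver p]
    (h1 : ∃ (ξ : PrimeSpectrum (p.Fiber S)) (hξ : ξ ∈ Module.support (p.Fiber S) (FlatCA.fiberMod p S N)),
      ξ.asIdeal = FlatCA.fiberIdeal p q ∧
      FlatMor.localDim (Module.support (p.Fiber S) (FlatCA.fiberMod p S N)) ⟨ξ, hξ⟩ = n)
    (h3 : ∀ (z₁ : Ideal C) [z₁.IsPrime], z₁.LiesOver y → z₁ = z)
    (h4 : FlatCA.PurelyTranscendental p y)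
    (w : D) (hw : w ∉ y) (s0 : S) (hs0 : algebraMap S C s0 = algebraMap D C w) :
    ∃ (g : R) (hX : S) (hZ : C), g ∉ p ∧ hX ∉ q ∧ hZ ∉ z ∧ IsUnit (algebraMap S (Localization.Away hX) s0) ∧
      ∃ (_ : Algebra (Localization.Away g) (Localization.Away hX)) (_ : IsScalarTower R (Localization.Away g) (Localization.Away hX))
        (_ : Algebra (Localization.Away g) (Localization.Away hZ)) (_ : IsScalarTower R (Localization.Away g) (Localization.Away hZ))
        (_ : Algebra (Localization.Away g) (Localization.Away (w * algebraMap R D g))) (_ : IsScalarTower R (Localization.Away g) (Localization.Away (w * algebraMap R D g)))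
        (_ : Algebra (Localization.Away hX) (Localization.Away hZ)) (_ : IsScalarTower S (Localization.Away hX) (Localization.Away hZ))
        (_ : IsScalarTower (Localization.Away g) (Localization.Away hX) (Localization.Away hZ))
        (_ : Algebra (Localization.Away (w * algebraMap R D g)) (Localization.Away hZ)) (_ : IsScalarTower D (Localization.Away (w * algebraMap R D g)) (Localization.Away hZ))
        (_ : IsScalarTower (Localization.Away g) (Localization.Away (w * algebraMap R D g)) (Localization.Away hZ))
        (_ : Module (Localization.Away g) (LocalizedModule (Submonoid.powers hX) N)) (_ : IsScalarTower (Localization.Away g) (Localization.Away hX) (LocalizedModule (Submonoid.powers hX) N))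
        (_ : Module (Localization.Away hX) (LocalizedModule (Submonoid.powers hZ) G)) (_ : IsScalarTower (Localization.Away hX) (Localization.Away hZ) (LocalizedModule (Submonoid.powers hZ) G))
        (_ : (Ideal.map (algebraMap R (Localization.Away g)) p).IsPrime) (_ : (Ideal.map (algebraMap D (Localization.Away (w * algebraMap R D g))) y).IsPrime) (_ : (Ideal.map (algebraMap D (Localization.Away (w * algebraMap R D g))) y).LiesOver (Ideal.map (algebraMap R (Localization.Away g)) p)),
        FlatCA.IsOneStepDevissage (Localization.Away g) (Localization.Away hX) (LocalizedModule (Submonoid.powers hX) N) (Ideal.map (algebraMap R (Localization.Away g)) p) (Localization.Away hZ) (Localization.Away (w * algebraMap R D g)) (LocalizedModule (Submonoid.powers hZ) G) n ∧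
        (∃ (ξ : PrimeSpectrum ((Ideal.map (algebraMap R (Localization.Away g)) p).Fiber (Localization.Away hX)))
            (hξ : ξ ∈ Module.support ((Ideal.map (algebraMap R (Localization.Away g)) p).Fiber (Localization.Away hX)) (FlatCA.fiberMod (Ideal.map (algebraMap R (Localization.Away g)) p) (Localization.Away hX) (LocalizedModule (Submonoid.powers hX) N))),
          ξ.asIdeal = FlatCA.fiberIdeal (Ideal.map (algebraMap R (Localization.Away g)) p) (Ideal.map (algebraMap S (Localization.Away hX)) q) ∧
          FlatMor.localDim (Module.support ((Ideal.map (algebraMap R (Localization.Away g)) p).Fiber (Localization.Away hX)) (FlatCA.fiberMod (Ideal.map (algebraMap R (Localization.Away g)) p) (Localization.Away hX) (LocalizedModule (Submonoid.powers hX) N))) ⟨ξ, hξ⟩ = n) ∧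
        (Ideal.map (algebraMap C (Localization.Away hZ)) z).LiesOver (Ideal.map (algebraMap S (Localization.Away hX)) q) ∧ (Ideal.map (algebraMap C (Localization.Away hZ)) z).LiesOver (Ideal.map (algebraMap D (Localization.Away (w * algebraMap R D g))) y) ∧
        (∀ (z₂ : Ideal (Localization.Away hZ)) [z₂.IsPrime], z₂.LiesOver (Ideal.map (algebraMap D (Localization.Away (w * algebraMap R D g))) y) → z₂ = Ideal.map (algebraMap C (Localization.Away hZ)) z) ∧
        FlatCA.PurelyTranscendental (Ideal.map (algebraMap R (Localization.Away g)) p) (Ideal.map (algebraMap D (Localization.Away (w * algebraMap R D g))) y) := by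
  classical
  obtain ⟨⟨eN⟩, hsurj, hfpC, hDC, hCG, hsm, hirr, hdim⟩ := h
  haveI := hDC
  haveI := hCG
  haveI := hfpC
  haveI : AlgebraicGeometry.SmoothOfRelativeDimension n
      (AlgebraicGeometry.Spec.map (CommRingCat.ofHom (algebraMap R D))) := hsm
  haveI : AlgebraicGeometry.Smooth (AlgebraicGeometry.Spec.map (CommRingCat.ofHom (algebraMap R D))) :=
    AlgebraicGeometry.SmoothOfRelativeDimension.smooth n _
  haveI : Algebra.Smooth R D := by
    have h1 := (AlgebraicGeometry.HasRingHomProperty.Spec_iff
      (P := @AlgebraicGeometry.Smooth) (φ := CommRingCat.ofHom (algebraMap R D))).1 inferInstance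
    exact RingHom.smooth_algebraMap.1 h1
  obtain ⟨g, hg, himg⟩ := exists_g p y w hw
  let b : D := w * algebraMap R D g
  let hX : S := s0 * algebraMap R S g
  let hZ : C := algebraMap D C b
  have hcompat : algebraMap S C hX = hZ := by
    simp only [hX, hZ, b, map_mul, hs0, ← IsScalarTower.algebraMap_apply]
  have hby : b ∉ y := fun h => (‹y.IsPrime›.mem_or_mem h).elim hw fun h' =>
    hg ((Ideal.LiesOver.over (p := p) (P := y)).symm ▸ (h' : g ∈ y.under R))
  have hZz : hZ ∉ z := fun h => hby ((Ideal.LiesOver.over (p := y) (P := z)).symm ▸ (h : b ∈ z.under D))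
  have hXq : hX ∉ q := fun h => hZz (by
    rw [← hcompat]; exact ((Ideal.LiesOver.over (p := q) (P := z)) ▸ h : hX ∈ z.under S))
  let R' := Localization.Away g
  let S' := Localization.Away hX
  let C' := Localization.Away hZ
  let D' := Localization.Away b
  have hgS : IsUnit (algebraMap R S' g) := by
    rw [IsScalarTower.algebraMap_apply R S S']
    exact isUnit_of_dvd_unit (map_dvd _ (dvd_mul_left _ s0)) (IsLocalization.Away.algebraMap_isUnit (S := S') hX)
  have hgD : IsUnit (algebraMap R D' g) := by
    rw [IsScalarTower.algebraMap_apply R D D']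
    exact isUnit_of_dvd_unit (map_dvd _ (dvd_mul_left _ w)) (IsLocalization.Away.algebraMap_isUnit (S := D') b)
  have hXC : IsUnit (algebraMap S C' hX) := by
    rw [IsScalarTower.algebraMap_apply S C C', hcompat]
    exact IsLocalization.Away.algebraMap_isUnit hZ
  have hbC : IsUnit (algebraMap D C' b) := by
    rw [IsScalarTower.algebraMap_apply D C C']
    exact IsLocalization.Away.algebraMap_isUnit hZ
  have hgC : IsUnit (algebraMap R C' g) := by
    rw [IsScalarTower.algebraMap_apply R D C']
    exact isUnit_of_dvd_unit (map_dvd _ (dvd_mul_left _ w)) hbC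
  letI aRS : Algebra R' S' := (IsLocalization.Away.lift (S := R') g hgS).toAlgebra
  haveI tRS : IsScalarTower R R' S' := IsScalarTower.of_algebraMap_eq fun r => (IsLocalization.Away.lift_eq g hgS r).symm
  letI aRD : Algebra R' D' := (IsLocalization.Away.lift (S := R') g hgD).toAlgebra
  haveI tRD : IsScalarTower R R' D' := IsScalarTower.of_algebraMap_eq fun r => (IsLocalization.Away.lift_eq g hgD r).symm
  letI aRC : Algebra R' C' := (IsLocalization.Away.lift (S := R') g hgC).toAlgebra
  haveI tRC : IsScalarTower R R' C' := IsScalarTower.of_algebraMap_eq fun r => (IsLocalization.Away.lift_eq g hgC r).symm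
  letI aSC : Algebra S' C' := (IsLocalization.Away.lift (S := S') hX hXC).toAlgebra
  haveI tSC : IsScalarTower S S' C' := IsScalarTower.of_algebraMap_eq fun r => (IsLocalization.Away.lift_eq hX hXC r).symm
  letI aDC : Algebra D' C' := (IsLocalization.Away.lift (S := D') b hbC).toAlgebra
  haveI tDC : IsScalarTower D D' C' := IsScalarTower.of_algebraMap_eq fun r => (IsLocalization.Away.lift_eq b hbC r).symm
  haveI : IsScalarTower R S' C' := IsScalarTower.of_algebraMap_eq fun r => by
    rw [IsScalarTower.algebraMap_apply R S S', ← IsScalarTower.algebraMap_apply S S' C',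
      ← IsScalarTower.algebraMap_apply R S C']
  haveI : IsScalarTower R D' C' := IsScalarTower.of_algebraMap_eq fun r => by
    rw [IsScalarTower.algebraMap_apply R D D', ← IsScalarTower.algebraMap_apply D D' C',
      ← IsScalarTower.algebraMap_apply R D C']
  haveI tR'SC : IsScalarTower R' S' C' := IsScalarTower.of_algebraMap_eq' (IsLocalization.ringHom_ext
    (Submonoid.powers g) (by rw [RingHom.comp_assoc, ← IsScalarTower.algebraMap_eq, ← IsScalarTower.algebraMap_eq,
      ← IsScalarTower.algebraMap_eq]))
  haveI tR'DC : IsScalarTower R' D' C' := IsScalarTower.of_algebraMap_eq' (IsLocalization.ringHom_ext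
    (Submonoid.powers g) (by rw [RingHom.comp_assoc, ← IsScalarTower.algebraMap_eq, ← IsScalarTower.algebraMap_eq,
      ← IsScalarTower.algebraMap_eq]))
  haveI : IsLocalization (Algebra.algebraMapSubmonoid C (Submonoid.powers hX)) C' := by
    rw [Algebra.algebraMapSubmonoid_powers, hcompat]
    infer_instance
  haveI : IsLocalization (Algebra.algebraMapSubmonoid C (Submonoid.powers b)) C' := by
    rw [Algebra.algebraMapSubmonoid_powers]
    infer_instance
  haveI : Algebra.IsPushout S C S' C' := Algebra.isPushout_of_isLocalization (Submonoid.powers hX) S' C C'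
  haveI : Algebra.IsPushout S S' C C' := Algebra.IsPushout.symm inferInstance
  haveI : Algebra.IsPushout D C D' C' := Algebra.isPushout_of_isLocalization (Submonoid.powers b) D' C C'
  haveI : Algebra.IsPushout D D' C C' := Algebra.IsPushout.symm inferInstance
  let N' := LocalizedModule (Submonoid.powers hX) N
  let G' := LocalizedModule (Submonoid.powers hZ) G
  have hfN : IsBaseChange S' (LocalizedModule.mkLinearMap (Submonoid.powers hX) N) :=
    IsLocalizedModule.isBaseChange (Submonoid.powers hX) S' _
  have hfG : IsBaseChange C' (LocalizedModule.mkLinearMap (Submonoid.powers hZ) G) :=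
    IsLocalizedModule.isBaseChange (Submonoid.powers hZ) C' _
  letI mRN : Module R' N' := Module.compHom N' (algebraMap R' S')
  haveI tRN : IsScalarTower R' S' N' := IsScalarTower.of_compHom R' S' N'
  letI mSG : Module S' G' := Module.compHom G' (algebraMap S' C')
  haveI tSG : IsScalarTower S' C' G' := IsScalarTower.of_compHom S' C' G'
  let eN' : N' ≃ₗ[S'] G' :=
    hfN.equiv.symm ≪≫ₗ TensorProduct.AlgebraTensorModule.congr (LinearEquiv.refl S' S') eN ≪≫ₗ
      ((Algebra.IsPushout.cancelBaseChange S S' C C' G).symm ≪≫ₗ (hfG.equiv.restrictScalars S'))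
  -- the primes
  have hgp : Disjoint (Submonoid.powers g : Set R) (p : Set R) :=
    (Ideal.disjoint_powers_iff_notMem g ‹p.IsPrime›.isRadical).2 hg
  have hqd : Disjoint (Submonoid.powers hX : Set S) (q : Set S) :=
    (Ideal.disjoint_powers_iff_notMem hX ‹q.IsPrime›.isRadical).2 hXq
  have hzd : Disjoint (Submonoid.powers hZ : Set C) (z : Set C) :=
    (Ideal.disjoint_powers_iff_notMem hZ ‹z.IsPrime›.isRadical).2 hZz
  have hyd : Disjoint (Submonoid.powers b : Set D) (y : Set D) :=
    (Ideal.disjoint_powers_iff_notMem b ‹y.IsPrime›.isRadical).2 hby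
  let p' := Ideal.map (algebraMap R R') p
  let q' := Ideal.map (algebraMap S S') q
  let z' := Ideal.map (algebraMap C C') z
  let y' := Ideal.map (algebraMap D D') y
  haveI hp' : p'.IsPrime := IsLocalization.isPrime_of_isPrime_disjoint (Submonoid.powers g) R' p ‹_› hgp
  haveI hq' : q'.IsPrime := IsLocalization.isPrime_of_isPrime_disjoint (Submonoid.powers hX) S' q ‹_› hqd
  haveI hz' : z'.IsPrime := IsLocalization.isPrime_of_isPrime_disjoint (Submonoid.powers hZ) C' z ‹_› hzd
  haveI hy' : y'.IsPrime := IsLocalization.isPrime_of_isPrime_disjoint (Submonoid.powers b) D' y ‹_› hyd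
  have cp : p'.comap (algebraMap R R') = p := IsLocalization.under_map_of_isPrime_disjoint (Submonoid.powers g) R' ‹_› hgp
  have cq : q'.comap (algebraMap S S') = q := IsLocalization.under_map_of_isPrime_disjoint (Submonoid.powers hX) S' ‹_› hqd
  have cz : z'.comap (algebraMap C C') = z := IsLocalization.under_map_of_isPrime_disjoint (Submonoid.powers hZ) C' ‹_› hzd
  have cy : y'.comap (algebraMap D D') = y := IsLocalization.under_map_of_isPrime_disjoint (Submonoid.powers b) D' ‹_› hyd
  haveI hp'p : p'.LiesOver p := ⟨cp.symm⟩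
  have uniqR : ∀ I : Ideal R', I.comap (algebraMap R R') = p → I = p' := fun I hI => by
    rw [← IsLocalization.map_under (Submonoid.powers g) R' I, Ideal.under, hI]
  have uniqS : ∀ I : Ideal S', I.comap (algebraMap S S') = q → I = q' := fun I hI => by
    rw [← IsLocalization.map_under (Submonoid.powers hX) S' I, Ideal.under, hI]
  have uniqD : ∀ I : Ideal D', I.comap (algebraMap D D') = y → I = y' := fun I hI => by
    rw [← IsLocalization.map_under (Submonoid.powers b) D' I, Ideal.under, hI]
  haveI hy'p : y'.LiesOver p' := ⟨(uniqR _ (by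
    rw [Ideal.comap_comap, ← IsScalarTower.algebraMap_eq, IsScalarTower.algebraMap_eq R D D', ← Ideal.comap_comap, cy]
    exact (Ideal.LiesOver.over (p := p) (P := y)).symm)).symm⟩
  haveI hq'p : q'.LiesOver p' := ⟨(uniqR _ (by
    rw [Ideal.comap_comap, ← IsScalarTower.algebraMap_eq, IsScalarTower.algebraMap_eq R S S', ← Ideal.comap_comap, cq]
    exact (Ideal.LiesOver.over (p := p) (P := q)).symm)).symm⟩
  obtain ⟨hloc, hdim''⟩ := support_shrink (R' := R') (S' := S') p g hX p' N N'
    (LocalizedModule.mkLinearMap (Submonoid.powers hX) N) hfN q q' cq n h1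
  have hdim' := hdim'' hdim
  have hsm' : FlatCA.SmoothRelDim n R' D' := by
    haveI hι : AlgebraicGeometry.IsOpenImmersion (AlgebraicGeometry.Spec.map (CommRingCat.ofHom (algebraMap R R'))) :=
      AlgebraicGeometry.IsOpenImmersion.of_isLocalization g
    haveI hj : AlgebraicGeometry.IsOpenImmersion (AlgebraicGeometry.Spec.map (CommRingCat.ofHom (algebraMap D D'))) :=
      AlgebraicGeometry.IsOpenImmersion.of_isLocalization b
    haveI h2 : AlgebraicGeometry.SmoothOfRelativeDimension n
        (AlgebraicGeometry.Spec.map (CommRingCat.ofHom (algebraMap R' D')) ≫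
          AlgebraicGeometry.Spec.map (CommRingCat.ofHom (algebraMap R R'))) := by
      rw [← AlgebraicGeometry.Spec.map_comp, ← CommRingCat.ofHom_comp, ← IsScalarTower.algebraMap_eq,
        IsScalarTower.algebraMap_eq R D D', CommRingCat.ofHom_comp, AlgebraicGeometry.Spec.map_comp]
      have : AlgebraicGeometry.SmoothOfRelativeDimension (0 + n)
          (AlgebraicGeometry.Spec.map (CommRingCat.ofHom (algebraMap D D')) ≫
            AlgebraicGeometry.Spec.map (CommRingCat.ofHom (algebraMap R D))) :=
        inferInstance
      simpa using this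
    haveI := AlgebraicGeometry.smoothOfRelativeDimension_isStableUnderBaseChange (n := n)
    exact MorphismProperty.of_isPullback (P := @AlgebraicGeometry.SmoothOfRelativeDimension n)
      (isPullback_id_mono _ _) h2
  have hirr' : FlatCA.GeomIrredFibres R' D' := by
    refine geomIrred_shrink g b hirr fun P => ?_
    have hgP : g ∉ P.asIdeal.comap (algebraMap R R') := fun hh => P.isPrime.ne_top
      (Ideal.eq_top_of_isUnit_mem _ hh (IsLocalization.Away.algebraMap_isUnit g))
    obtain ⟨Q, hwQ, hQP⟩ := himg (PrimeSpectrum.comap (algebraMap R R') P) hgP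
    have hgQ : algebraMap R D g ∉ Q.asIdeal := fun hh => hgP (by
      rw [PrimeSpectrum.comap_asIdeal] at hQP; rw [← hQP]; exact hh)
    have hbQ : b ∉ Q.asIdeal := fun hh => (Q.isPrime.mem_or_mem hh).elim hwQ hgQ
    obtain ⟨Q', hQ'⟩ : Q ∈ Set.range (PrimeSpectrum.comap (algebraMap D D')) := by
      rw [PrimeSpectrum.localization_away_comap_range D' b]; exact hbQ
    refine ⟨Q', PrimeSpectrum.localization_comap_injective R' (Submonoid.powers g) (PrimeSpectrum.ext ?_)⟩
    rw [← hQP, ← hQ']
    simp only [PrimeSpectrum.comap_asIdeal]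
    rw [Ideal.comap_comap, Ideal.comap_comap, ← IsScalarTower.algebraMap_eq, ← IsScalarTower.algebraMap_eq]
  haveI hfpC' : Algebra.FinitePresentation S' C' :=
    Algebra.FinitePresentation.equiv (Algebra.IsPushout.equiv S S' C C')
  haveI hDC' : Module.Finite D' C' := Module.Finite.equiv (Algebra.IsPushout.equiv D D' C C').toLinearEquiv
  have hCG' : Module.Finite C' G' := Module.Finite.equiv hfG.equiv
  have hsurj' : Function.Surjective (algebraMap S' C') :=
    @RingHom.surjective_isStableUnderBaseChange S C S' C' _ _ _ _ _ _ _ _ _ _ _ ‹_› hsurj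
  have hone : FlatCA.IsOneStepDevissage R' S' N' p' C' D' G' n :=
    ⟨⟨eN'⟩, hsurj', hfpC', hDC', hCG', hsm', hirr', hdim'⟩
  have hzq : z'.LiesOver q' := ⟨(uniqS _ (by
    rw [Ideal.comap_comap, ← IsScalarTower.algebraMap_eq, IsScalarTower.algebraMap_eq S C C', ← Ideal.comap_comap, cz]
    exact (Ideal.LiesOver.over (p := q) (P := z)).symm)).symm⟩
  have hzy : z'.LiesOver y' := ⟨(uniqD _ (by
    rw [Ideal.comap_comap, ← IsScalarTower.algebraMap_eq, IsScalarTower.algebraMap_eq D C C', ← Ideal.comap_comap, cz]
    exact (Ideal.LiesOver.over (p := y) (P := z)).symm)).symm⟩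
  have huniq : ∀ (z₂ : Ideal C') [z₂.IsPrime], z₂.LiesOver y' → z₂ = z' := by
    intro z₂ _ h2
    have := h3 (z₂.comap (algebraMap C C')) ⟨by
      rw [Ideal.under, Ideal.comap_comap, ← IsScalarTower.algebraMap_eq, IsScalarTower.algebraMap_eq D D' C',
        ← Ideal.comap_comap]
      exact cy.symm.trans (congrArg (Ideal.comap (algebraMap D D')) h2.over)⟩
    rw [← IsLocalization.map_under (Submonoid.powers hZ) C' z₂, Ideal.under, this]
  have hpt : FlatCA.PurelyTranscendental p' y' :=
    purelyTranscendental_of_bijective p y p' y' cp.symm cy.symm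
      (residue_bijective (Submonoid.powers g) p p' cp.symm) (residue_bijective (Submonoid.powers b) y y' cy.symm) h4
  exact ⟨g, hX, hZ, hg, hXq, hZz,
    isUnit_of_dvd_unit (map_dvd _ (dvd_mul_right s0 _)) (IsLocalization.Away.algebraMap_isUnit (S := S') hX),
    aRS, tRS, aRC, tRC, aRD, tRD, aSC, tSC, tR'SC, aDC, tDC, tR'DC, mRN, tRN, mSG, tSG, hp', hy', hy'p,
    hone, hloc, hzq, hzy, huniq, hpt⟩

end Groth.Agent.RG.Dev.Shrink
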