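import Groth.Prelude.Def_FlatCA
import Groth.Agent.RG.Loc.PureCor
import Groth.Agent.RG.Pure.Spread
import Groth.Agent.RG.ClosedFibre
import Groth.Agent.InjFibre.Loc
import Groth.Agent.FlatSpread.Fp
import Groth.Agent.FibDepth.ConsAbs
import Groth.Agent.FibCrit.EssFP

/-!
# Pure spreadouts after a finitely generated quotient of the base
-/

set_option autoImplicit false
set_option linter.style.haveILetI false
set_option backward.isDefEq.respectTransparency false

universe u

open scoped TensorProduct
open IsLocalRing Groth.Agent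

namespace Groth.Agent.RG.Dev.SpreadPure

/-- A map to a ring in which the complement of a prime is invertible and the prime dies factors through the residue
field. -/
theorem exists_algebra_residue {A₀ R : Type u} [CommRing A₀] [CommRing R] [Algebra A₀ R] (q : Ideal A₀) [q.IsPrime]
    (h0 : ∀ a ∈ q, algebraMap A₀ R a = 0) (hu : ∀ a, a ∉ q → IsUnit (algebraMap A₀ R a)) :
    ∃ _ : Algebra q.ResidueField R, IsScalarTower A₀ q.ResidueField R := by
  let f := Ideal.ResidueField.lift q (algebraMap A₀ R) (fun a ha => h0 a ha) fun a ha => hu a ha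
  letI : Algebra q.ResidueField R := f.toAlgebra
  exact ⟨inferInstance, IsScalarTower.of_algebraMap_eq fun a => (Ideal.ResidueField.lift_algebraMap ..).symm⟩

set_option backward.isDefEq.respectTransparency true in
/-- Relations with coefficients in a subring define the module over it. -/
theorem exists_descended (A₀ A : Type u) [CommRing A₀] [CommRing A] [Algebra A₀ A] {n k : ℕ} (N' : Type u)
    [AddCommGroup N'] [Module (MvPolynomial (Fin n) A) N'] [Module A N'] [IsScalarTower A (MvPolynomial (Fin n) A) N']
    (W : Submodule (MvPolynomial (Fin n) A) (Fin k → MvPolynomial (Fin n) A))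
    (e : N' ≃ₗ[MvPolynomial (Fin n) A] (Fin k → MvPolynomial (Fin n) A) ⧸ W)
    (V : Finset (Fin k → MvPolynomial (Fin n) A))
    (hV : Submodule.span (MvPolynomial (Fin n) A) (V : Set (Fin k → MvPolynomial (Fin n) A)) = W)
    (hc : ∀ v ∈ V, ∀ i, ((v i).coeffs : Set A) ⊆ Set.range (algebraMap A₀ A)) :
    ∃ (M₀ : Type u) (_ : AddCommGroup M₀) (_ : Module A₀ M₀), Nonempty (A ⊗[A₀] M₀ ≃ₗ[A] N') := by
  letI : Algebra (MvPolynomial (Fin n) A₀) (MvPolynomial (Fin n) A) := MvPolynomial.algebraMvPolynomial
  letI : Module (MvPolynomial (Fin n) A₀) N' :=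
    Module.compHom N' (algebraMap (MvPolynomial (Fin n) A₀) (MvPolynomial (Fin n) A))
  haveI : IsScalarTower (MvPolynomial (Fin n) A₀) (MvPolynomial (Fin n) A) N' :=
    IsScalarTower.of_algebraMap_smul fun _ _ => rfl
  obtain ⟨M₀, _, _, g, hg, -⟩ := FibDepth.exists_quotient_model (MvPolynomial (Fin n) A₀) (MvPolynomial (Fin n) A) N' W
    e V hV fun v hv i => MvPolynomial.mem_range_map_iff_coeffs_subset.2 (hc v hv i)
  letI : Module A₀ M₀ := Module.compHom M₀ (algebraMap A₀ (MvPolynomial (Fin n) A₀))
  haveI : IsScalarTower A₀ (MvPolynomial (Fin n) A₀) M₀ := IsScalarTower.of_algebraMap_smul fun _ _ => rfl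
  exact ⟨M₀, inferInstance, inferInstance,
    ⟨(Algebra.IsPushout.cancelBaseChange A₀ A (MvPolynomial (Fin n) A₀) (MvPolynomial (Fin n) A) M₀).symm.trans
      (hg.equiv.restrictScalars A)⟩⟩

/-- A finitely presented module comes from a noetherian base. -/
theorem exists_noetherian_base {A C : Type u} [CommRing A] [CommRing C] [Algebra A C]
    [Algebra.FinitePresentation A C] (N' : Type u) [AddCommGroup N'] [Module C N'] [Module A N'] [IsScalarTower A C N']
    [Module.FinitePresentation C N'] :
    ∃ (A₀ : Subalgebra ℤ A) (_ : IsNoetherianRing A₀) (M₀ : Type u) (_ : AddCommGroup M₀) (_ : Module A₀ M₀),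
      Nonempty (A ⊗[A₀] M₀ ≃ₗ[A] N') := by
  classical
  obtain ⟨n, k, π, -, -, W, ⟨V, hV⟩, ⟨e⟩⟩ := FlatSpread.exists_presentation (R := A) (S := C) (M := N')
  letI : Module (MvPolynomial (Fin n) A) N' := Module.compHom N' π.toRingHom
  haveI : IsScalarTower A (MvPolynomial (Fin n) A) N' := IsScalarTower.of_algebraMap_smul fun a x => by
    change π (algebraMap A _ a) • x = a • x
    rw [AlgHom.commutes, algebraMap_smul]
  let G : Finset A := V.biUnion fun v => Finset.univ.biUnion fun i => (v i).coeffs
  let A₀ := Algebra.adjoin ℤ (G : Set A)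
  have hN : IsNoetherianRing A₀ := by
    haveI : Algebra.FiniteType ℤ A₀ := A₀.fg_iff_finiteType.1 ⟨G, rfl⟩
    exact Algebra.FiniteType.isNoetherianRing ℤ A₀
  obtain ⟨M₀, _, _, hM₀⟩ := exists_descended A₀ A N' W e.symm V hV fun v hv i c hc =>
    ⟨⟨c, Algebra.subset_adjoin (Finset.mem_biUnion.2 ⟨v, hv, Finset.mem_biUnion.2 ⟨i, Finset.mem_univ _, hc⟩⟩)⟩, rfl⟩
  exact ⟨A₀, hN, M₀, inferInstance, inferInstance, hM₀⟩

/-- A finitely presented module becomes free over a quotient of the local ring by a finitely generated ideal. -/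
theorem exists_fg_ideal_projective {A C : Type u} [CommRing A] [CommRing C] [Algebra A C]
    [Algebra.FinitePresentation A C] (N' : Type u) [AddCommGroup N'] [Module C N'] [Module A N'] [IsScalarTower A C N']
    [Module.FinitePresentation C N'] (p : Ideal A) [p.IsPrime] :
    ∃ I : Ideal (Localization.AtPrime p), I.FG ∧ I ≤ maximalIdeal (Localization.AtPrime p) ∧
      Module.Projective (Localization.AtPrime p ⧸ I) ((Localization.AtPrime p ⧸ I) ⊗[A] N') := by
  classical
  obtain ⟨A₀, _, M₀, _, _, ⟨eA⟩⟩ := exists_noetherian_base (A := A) (C := C) N'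
  let Ap := Localization.AtPrime p
  let p₀ : Ideal A₀ := p.comap (algebraMap A₀ A)
  let I : Ideal Ap := p₀.map ((algebraMap A Ap).comp (algebraMap A₀ A))
  have hI : I ≤ maximalIdeal Ap := by
    rw [Ideal.map_le_iff_le_comap, ← Ideal.comap_comap]
    intro a ha
    rw [Ideal.mem_comap, Ideal.mem_comap, IsLocalRing.mem_maximalIdeal, mem_nonunits_iff,
      IsLocalization.AtPrime.isUnit_to_map_iff Ap p, Ideal.mem_primeCompl_iff, not_not]
    exact ha
  refine ⟨I, Ideal.FG.map (IsNoetherian.noetherian p₀) _, hI, ?_⟩
  let R := Ap ⧸ I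
  obtain ⟨_, _⟩ := exists_algebra_residue (R := R) p₀
    (fun a ha => by
      rw [IsScalarTower.algebraMap_apply A₀ A R, IsScalarTower.algebraMap_apply A Ap R, Ideal.Quotient.algebraMap_eq,
        Ideal.Quotient.eq_zero_iff_mem]
      exact Ideal.mem_map_of_mem _ ha)
    (fun a ha => by
      rw [IsScalarTower.algebraMap_apply A₀ A R, IsScalarTower.algebraMap_apply A Ap R]
      exact (IsLocalization.map_units Ap (⟨algebraMap A₀ A a, ha⟩ : p.primeCompl)).map _)
  let eR : R ⊗[p₀.ResidueField] (p₀.ResidueField ⊗[A₀] M₀) ≃ₗ[R] R ⊗[A] N' :=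
    (TensorProduct.AlgebraTensorModule.cancelBaseChange A₀ p₀.ResidueField R R M₀).trans
      ((TensorProduct.AlgebraTensorModule.cancelBaseChange A₀ A R R M₀).symm.trans
        (TensorProduct.AlgebraTensorModule.congr (LinearEquiv.refl R R) eA))
  exact Module.Projective.of_equiv eR

/-- A single denominator kills whatever dies in the localisation of a fibre. -/
theorem exists_kill {A B K : Type u} [CommRing A] [CommRing B] [Algebra A B] [Algebra.FiniteType A B] [Field K]
    [Algebra A K] (T : Submonoid B) {N₀ N : Type u} [AddCommGroup N₀] [Module B N₀] [Module A N₀] [IsScalarTower A B N₀]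
    [Module.Finite B N₀] [AddCommGroup N] [Module B N] [Module A N] [IsScalarTower A B N]
    (g₀ : N₀ →ₗ[B] N) [IsLocalizedModule T g₀] :
    ∃ t ∈ T, ∀ z : N₀ ⊗[A] K, TensorProduct.AlgebraTensorModule.rTensor A K g₀ z = 0 → t • z = 0 := by
  let BK := K ⊗[A] B
  letI : Algebra B BK := Algebra.TensorProduct.rightAlgebra
  haveI : Algebra.IsPushout A K B BK := inferInstance
  haveI : IsNoetherianRing BK := Algebra.FiniteType.isNoetherianRing K BK
  let X := BK ⊗[B] N₀
  let e₁ : N₀ ⊗[A] K ≃+ X :=
    ((TensorProduct.comm A N₀ K).toAddEquiv).trans (Algebra.IsPushout.cancelBaseChange A K B BK N₀).symm.toAddEquiv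
  have hmul : ∀ (s : B) (c : BK) (m : N₀), s • (c ⊗ₜ[B] m) = c ⊗ₜ[B] (s • m) := fun s c m => by
    rw [← TensorProduct.smul_tmul, TensorProduct.smul_tmul']
  have hΦ : ∀ (s : B) (z : N₀ ⊗[A] K), e₁ (s • z) = algebraMap B BK s • e₁ z := fun s z => by
    induction z using TensorProduct.induction_on with
    | zero => simp
    | tmul m c =>
      change (Algebra.IsPushout.cancelBaseChange A K B BK N₀).symm (c ⊗ₜ[A] (s • m)) =
        algebraMap B BK s • (Algebra.IsPushout.cancelBaseChange A K B BK N₀).symm (c ⊗ₜ[A] m)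
      rw [Algebra.IsPushout.cancelBaseChange_symm_tmul, Algebra.IsPushout.cancelBaseChange_symm_tmul, algebraMap_smul,
        hmul]
    | add a b ha hb => rw [smul_add, map_add, map_add, smul_add, ha, hb]
  let S : B → Submodule BK X := fun t => LinearMap.ker (LinearMap.lsmul BK X (algebraMap B BK t))
  obtain ⟨_, ⟨t, ht, rfl⟩, hmax⟩ := set_has_maximal_iff_noetherian.2 (inferInstance : IsNoetherian BK X)
    (S '' T) ⟨_, 1, T.one_mem, rfl⟩
  refine ⟨t, ht, fun z hz => ?_⟩
  obtain ⟨⟨t', ht'⟩, htz⟩ := (IsLocalizedModule.eq_zero_iff T (TensorProduct.AlgebraTensorModule.rTensor A K g₀)).1 hz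
  have hle : S t ≤ S (t' * t) := fun x hx => by
    have hx' : algebraMap B BK t • x = 0 := hx
    change algebraMap B BK (t' * t) • x = 0
    rw [map_mul, mul_smul, hx', smul_zero]
  have heq : S t = S (t' * t) := eq_of_le_of_not_lt hle (hmax _ ⟨_, T.mul_mem ht' ht, rfl⟩)
  refine e₁.injective ?_
  rw [hΦ, map_zero]
  have hmem : e₁ z ∈ S (t' * t) := by
    change algebraMap B BK (t' * t) • e₁ z = 0
    rw [← hΦ, mul_comm, mul_smul, show t' • z = 0 from htz, smul_zero, map_zero]
  rw [← heq] at hmem
  exact hmem

/-- After inverting that denominator the fibre embeds into its localisation. -/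
theorem injective_fibre {A B K : Type u} [CommRing A] [CommRing B] [Algebra A B] [CommRing K]
    [Algebra A K] (T : Submonoid B) {N₀ N N' : Type u} [AddCommGroup N₀] [Module B N₀] [Module A N₀] [IsScalarTower A B N₀]
    [AddCommGroup N] [Module B N] [Module A N] [IsScalarTower A B N]
    [AddCommGroup N'] [Module B N'] [Module A N'] [IsScalarTower A B N'] (g₀ : N₀ →ₗ[B] N) (t : B)
    (ht : ∀ z : N₀ ⊗[A] K, TensorProduct.AlgebraTensorModule.rTensor A K g₀ z = 0 → t • z = 0)
    (i : N₀ →ₗ[B] N') [IsLocalizedModule (Submonoid.powers t) i] (g' : N' →ₗ[B] N) (hg' : g'.comp i = g₀) :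
    Function.Injective ((g'.restrictScalars A).lTensor K) := by
  let j := TensorProduct.AlgebraTensorModule.rTensor A K i
  let G := TensorProduct.AlgebraTensorModule.rTensor A K g'
  haveI : IsLocalizedModule (Submonoid.powers t) j :=
    inferInstanceAs (IsLocalizedModule (Submonoid.powers t) (TensorProduct.AlgebraTensorModule.rTensor A K i))
  have hG : ∀ w, G w = 0 → w = 0 := by
    intro w hw
    obtain ⟨⟨z, s⟩, hzs⟩ := IsLocalizedModule.surj (Submonoid.powers t) j w
    have hcomp : ∀ z, G (j z) = TensorProduct.AlgebraTensorModule.rTensor A K g₀ z := fun z => by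
      induction z using TensorProduct.induction_on with
      | zero => simp
      | tmul m c => simp [G, j, ← hg']
      | add a b ha hb => simp only [map_add, ha, hb]
    have h0 : TensorProduct.AlgebraTensorModule.rTensor A K g₀ z = 0 := by
      rw [← hcomp, ← hzs, Submonoid.smul_def, map_smul, hw, smul_zero]
    have hjz : j z = 0 := (IsLocalizedModule.eq_zero_iff (Submonoid.powers t) j).2
      ⟨⟨t, Submonoid.mem_powers t⟩, ht z h0⟩
    rw [hjz] at hzs
    exact ((Module.End.isUnit_iff _).1 (IsLocalizedModule.map_units j s)).1 (hzs.trans (map_zero _).symm)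
  rw [injective_iff_map_eq_zero]
  intro x hx
  have key : ∀ x, G (TensorProduct.comm A K N' x) = TensorProduct.comm A K N ((g'.restrictScalars A).lTensor K x) :=
    fun x => by
      induction x using TensorProduct.induction_on with
      | zero => simp
      | tmul c m => simp [G]
      | add a b ha hb => simp only [map_add, ha, hb]
  exact (TensorProduct.comm A K N').map_eq_zero_iff.1 (hG _ (by rw [key, hx, map_zero]))

/-- A pure spreadout of a base change. -/
theorem hasPureSpreadout_baseChange {A B C R : Type u} [CommRing A] [CommRing B] [CommRing C] [CommRing R]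
    [Algebra A B] [Algebra B C] [Algebra A C] [IsScalarTower A B C] [Algebra A R] [IsLocalRing R] (T : Submonoid B)
    (t : B) (htT : t ∈ T) [IsLocalization.Away t C]
    (N : Type u) [AddCommGroup N] [Module (Localization T) N] [Module B N] [Module A N]
    [IsScalarTower B (Localization T) N] [IsScalarTower A (Localization T) N] [IsScalarTower A B N]
    {N' : Type u} [AddCommGroup N'] [Module C N'] [Module B N'] [Module A N'] [IsScalarTower B C N']
    [IsScalarTower A C N'] [IsScalarTower A B N'] [Module.FinitePresentation C N']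
    [Algebra C (Localization T)] [IsScalarTower B C (Localization T)]
    [Module C N] [IsScalarTower C (Localization T) N] [IsScalarTower A C N] (g' : N' →ₗ[C] N) (hg' : IsBaseChange (Localization T) g')
    (hproj : Module.Projective R (R ⊗[A] N'))
    (hinj : Function.Injective ((g'.restrictScalars A).lTensor (R ⧸ maximalIdeal R)))
    (B₁ N₁ : Type u) [CommRing B₁] [Algebra B B₁] [Algebra R B₁] [Algebra A B₁] [IsScalarTower A B B₁]
    [IsScalarTower A R B₁] [Algebra.IsPushout A B R B₁]
    [AddCommGroup N₁] [Module (Localization (T.map (algebraMap B B₁))) N₁] [Module R N₁]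
    [IsScalarTower R (Localization (T.map (algebraMap B B₁))) N₁]
    [Module B N₁] [IsScalarTower B (Localization (T.map (algebraMap B B₁))) N₁]
    [Module A N₁] [IsScalarTower A R N₁] [IsScalarTower A B N₁]
    (h : N →ₗ[B] N₁) (hh : IsBaseChange R (h.restrictScalars A)) :
    FlatCA.HasPureSpreadout R B₁ (T.map (algebraMap B B₁)) N₁ := by
  let T₁ := T.map (algebraMap B B₁)
  let L := Localization T
  let L₁ := Localization T₁
  let t₁ := algebraMap B B₁ t
  let C₁ := Localization.Away t₁
  haveI : Algebra.IsPushout A R B B₁ := Algebra.IsPushout.symm inferInstance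
  -- the localisations
  have huC : IsUnit (algebraMap B L₁ t) := by
    rw [IsScalarTower.algebraMap_apply B B₁ L₁]
    exact IsLocalization.map_units L₁ (⟨_, t, htT, rfl⟩ : T₁)
  have hu₁ : IsUnit (algebraMap B₁ L₁ t₁) := IsLocalization.map_units L₁ (⟨_, t, htT, rfl⟩ : T₁)
  letI : Algebra C₁ L₁ := (IsLocalization.Away.lift (S := C₁) t₁ hu₁).toAlgebra
  haveI : IsScalarTower B₁ C₁ L₁ :=
    IsScalarTower.of_algebraMap_eq fun a => (IsLocalization.Away.lift_eq t₁ hu₁ a).symm
  have hu₂ : IsUnit (algebraMap B C₁ t) := by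
    rw [IsScalarTower.algebraMap_apply B B₁ C₁]
    exact IsLocalization.Away.algebraMap_isUnit t₁
  letI : Algebra C C₁ := (IsLocalization.Away.lift (S := C) t hu₂).toAlgebra
  haveI : IsScalarTower B C C₁ :=
    IsScalarTower.of_algebraMap_eq fun a => (IsLocalization.Away.lift_eq t hu₂ a).symm
  letI : Algebra C L₁ := ((algebraMap C₁ L₁).comp (algebraMap C C₁)).toAlgebra
  haveI : IsScalarTower C C₁ L₁ := IsScalarTower.of_algebraMap_eq fun _ => rfl
  haveI : IsScalarTower B C L₁ := IsScalarTower.of_algebraMap_eq fun a => by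
    rw [IsScalarTower.algebraMap_apply C C₁ L₁, ← IsScalarTower.algebraMap_apply B C C₁,
      IsScalarTower.algebraMap_apply B B₁ C₁, ← IsScalarTower.algebraMap_apply B₁ C₁ L₁,
      ← IsScalarTower.algebraMap_apply B B₁ L₁]
  have huT : ∀ y : T, IsUnit (algebraMap B L₁ y) := fun y => by
    rw [IsScalarTower.algebraMap_apply B B₁ L₁]
    exact IsLocalization.map_units L₁ (⟨_, y, y.2, rfl⟩ : T₁)
  letI : Algebra L L₁ := (IsLocalization.lift (S := L) huT).toAlgebra
  haveI : IsScalarTower B L L₁ := IsScalarTower.of_algebraMap_eq fun a => (IsLocalization.lift_eq huT a).symm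
  haveI : IsScalarTower C L L₁ := IsScalarTower.of_algebraMap_eq fun c => by
    refine RingHom.congr_fun (IsLocalization.ringHom_ext (Submonoid.powers t)
      (S := C) (j := algebraMap C L₁) (k := (algebraMap L L₁).comp (algebraMap C L)) ?_) c
    ext a
    simp only [RingHom.comp_apply, ← IsScalarTower.algebraMap_apply]
  haveI : IsScalarTower A L L₁ := IsScalarTower.of_algebraMap_eq fun a => by
    rw [IsScalarTower.algebraMap_apply A B L, ← IsScalarTower.algebraMap_apply B L L₁,
      ← IsScalarTower.algebraMap_apply A B L₁]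
  -- the pushouts
  haveI : IsLocalization (Algebra.algebraMapSubmonoid B₁ T) L₁ := inferInstanceAs (IsLocalization T₁ (Localization T₁))
  haveI : Algebra.IsPushout B B₁ L L₁ := Algebra.isPushout_of_isLocalization T L B₁ L₁
  haveI : Algebra.IsPushout B L B₁ L₁ := Algebra.IsPushout.symm inferInstance
  haveI : IsLocalization (Algebra.algebraMapSubmonoid B₁ (Submonoid.powers t)) C₁ := by
    rw [Algebra.algebraMapSubmonoid_powers]; infer_instance
  haveI : Algebra.IsPushout B B₁ C C₁ := Algebra.isPushout_of_isLocalization (Submonoid.powers t) C B₁ C₁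
  haveI : Algebra.IsPushout B C B₁ C₁ := Algebra.IsPushout.symm inferInstance
  haveI : IsScalarTower A C C₁ := IsScalarTower.of_algebraMap_eq fun a => by
    rw [IsScalarTower.algebraMap_apply A B C, ← IsScalarTower.algebraMap_apply B C C₁,
      ← IsScalarTower.algebraMap_apply A B C₁]
  haveI : Algebra.IsPushout A R L L₁ :=
    Algebra.IsPushout.symm ((Algebra.IsPushout.comp_iff A B R B₁ (T := L) (T' := L₁)).2 inferInstance)
  haveI : Algebra.IsPushout A R C C₁ :=
    Algebra.IsPushout.symm ((Algebra.IsPushout.comp_iff A B R B₁ (T := C) (T' := C₁)).2 inferInstance)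
  -- the module structures on the base change
  letI : Module C₁ N₁ := Module.compHom N₁ (algebraMap C₁ L₁)
  haveI : IsScalarTower C₁ L₁ N₁ := IsScalarTower.of_algebraMap_smul fun _ _ => rfl
  letI : Module L N₁ := Module.compHom N₁ (algebraMap L L₁)
  haveI : IsScalarTower L L₁ N₁ := IsScalarTower.of_algebraMap_smul fun _ _ => rfl
  letI : Module C N₁ := Module.compHom N₁ (algebraMap C L₁)
  haveI : IsScalarTower C L₁ N₁ := IsScalarTower.of_algebraMap_smul fun _ _ => rfl
  haveI : IsScalarTower C L N₁ := IsScalarTower.of_algebraMap_smul fun c x => by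
    change algebraMap L L₁ (algebraMap C L c) • x = algebraMap C L₁ c • x
    rw [← IsScalarTower.algebraMap_apply]
  haveI : IsScalarTower C C₁ N₁ := IsScalarTower.of_algebraMap_smul fun c x => by
    change algebraMap C₁ L₁ (algebraMap C C₁ c) • x = algebraMap C L₁ c • x
    rw [← IsScalarTower.algebraMap_apply]
  haveI : IsScalarTower B L N₁ := IsScalarTower.of_algebraMap_smul fun b x => by
    change algebraMap L L₁ (algebraMap B L b) • x = b • x
    rw [← IsScalarTower.algebraMap_apply, algebraMap_smul]
  haveI : IsScalarTower R C₁ N₁ := IsScalarTower.of_algebraMap_smul fun r x => by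
    change algebraMap C₁ L₁ (algebraMap R C₁ r) • x = r • x
    rw [IsScalarTower.algebraMap_apply R B₁ C₁, ← IsScalarTower.algebraMap_apply B₁ C₁ L₁,
      ← IsScalarTower.algebraMap_apply R B₁ L₁, algebraMap_smul]
  haveI : IsScalarTower R C₁ L₁ := IsScalarTower.of_algebraMap_eq fun r => by
    rw [IsScalarTower.algebraMap_apply R B₁ C₁, ← IsScalarTower.algebraMap_apply B₁ C₁ L₁,
      ← IsScalarTower.algebraMap_apply R B₁ L₁]
  let hL : N →ₗ[L] N₁ := LinearMap.extendScalarsOfIsLocalization T L h
  have hLbc : IsBaseChange L₁ hL := by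
    let Φ : L₁ ⊗[L] N →ₗ[L₁] N₁ := hL.liftBaseChange L₁
    have hΦ : Function.Bijective Φ := by
      have hcomp : ∀ z, Φ ((Algebra.IsPushout.cancelBaseChange A R L L₁ N).symm z) = hh.equiv z := fun z => by
        induction z using TensorProduct.induction_on with
        | zero => simp
        | tmul r n =>
          rw [Algebra.IsPushout.cancelBaseChange_symm_tmul, LinearMap.liftBaseChange_tmul, IsBaseChange.equiv_tmul,
            algebraMap_smul]
          rfl
        | add a b ha hb => simp only [map_add, ha, hb]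
      have : ⇑Φ = hh.equiv ∘ (Algebra.IsPushout.cancelBaseChange A R L L₁ N) := funext fun w => by
        rw [Function.comp_apply, ← hcomp, LinearEquiv.symm_apply_apply]
      rw [this]
      exact hh.equiv.bijective.comp (LinearEquiv.bijective _)
    exact IsBaseChange.of_equiv (LinearEquiv.ofBijective Φ hΦ) fun n => by
      simp [Φ]
  let N'' := C₁ ⊗[C] N'
  let gh : N' →ₗ[C] N₁ := (hL.restrictScalars C).comp g'
  have hgh : IsBaseChange L₁ gh := IsBaseChange.comp hg' hLbc
  let g'' : N'' →ₗ[C₁] N₁ := gh.liftBaseChange C₁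
  have hg'' : IsBaseChange L₁ g'' := IsBaseChange.of_comp (TensorProduct.isBaseChange C N' C₁) (by
    convert hgh using 1
    ext m
    simp [g''])
  haveI : IsScalarTower R C₁ N'' := inferInstance
  let E₁ : R ⊗[A] N' ≃ₗ[R] N'' := (Algebra.IsPushout.cancelBaseChange A R C C₁ N').symm
  haveI : Module.Projective R N'' := Module.Projective.of_equiv E₁
  haveI : Module.Flat R N₁ := by
    haveI : Module.Flat B₁ L₁ := IsLocalization.flat L₁ T₁
    haveI : Module.Flat C₁ L₁ := (Module.flat_iff_of_isLocalization C₁ (Submonoid.powers t₁) L₁).2 inferInstance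
    haveI : Module.Flat R (L₁ ⊗[C₁] N'') := RG.flat_tensor
    exact Module.Flat.of_linearEquiv (hg''.equiv.restrictScalars R).symm
  let v : N'' →ₗ[R] N₁ := g''.restrictScalars R
  have hv : FlatCA.UnivInj R v := by
    refine RG.Loc.univInj_of_residue v fun m hm => ?_
    obtain rfl : m = maximalIdeal R := eq_maximalIdeal hm
    have h1 := (RG.Loc.injective_lTensor_baseChange_mod (R' := R) (g'.restrictScalars A)
      (R ⧸ maximalIdeal R)).2 hinj
    have hv' : v = (hh.equiv.toLinearMap.comp ((g'.restrictScalars A).baseChange R)).comp E₁.symm.toLinearMap := by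
      refine LinearMap.ext fun x => ?_
      obtain ⟨z, rfl⟩ := E₁.surjective x
      rw [LinearMap.comp_apply, LinearEquiv.coe_coe, LinearEquiv.symm_apply_apply]
      induction z using TensorProduct.induction_on with
      | zero => simp
      | tmul r m =>
        change g'' ((Algebra.IsPushout.cancelBaseChange A R C C₁ N').symm (r ⊗ₜ[A] m)) = _
        rw [Algebra.IsPushout.cancelBaseChange_symm_tmul, LinearMap.liftBaseChange_tmul, algebraMap_smul,
          LinearMap.comp_apply]
        change r • h (g' m) = hh.equiv (r ⊗ₜ[A] g' m)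
        rw [IsBaseChange.equiv_tmul]
        rfl
      | add a b ha hb => simp only [map_add, ha, hb]
    rw [hv', LinearMap.lTensor_comp, LinearMap.lTensor_comp]
    exact ((hh.equiv.lTensor _).injective.comp h1).comp (E₁.symm.lTensor _).injective
  exact ⟨C₁, inferInstance, inferInstance, inferInstance, inferInstance, inferInstance, inferInstance,
    inferInstance, inferInstance, inferInstance, inferInstance, N'', inferInstance, inferInstance, inferInstance, inferInstance, g'',
    AlgebraicGeometry.IsOpenImmersion.of_isLocalization t₁, inferInstance, hg'', inferInstance, hv⟩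

/-- Pure spreadouts exist after killing a finitely generated ideal. -/
theorem exists_ideal {A B : Type u} [CommRing A] [CommRing B] [Algebra A B] [Algebra.FinitePresentation A B]
    (T : Submonoid B) (N : Type u) [AddCommGroup N] [Module (Localization T) N] [Module B N] [Module A N]
    [IsScalarTower B (Localization T) N] [IsScalarTower A (Localization T) N] [IsScalarTower A B N]
    [Module.FinitePresentation (Localization T) N] (p : Ideal A) [p.IsPrime] :
    ∃ I : Ideal (Localization.AtPrime p), I.FG ∧ I ≤ maximalIdeal (Localization.AtPrime p) ∧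
      ∀ (B₁ N₁ : Type u) [CommRing B₁] [Algebra B B₁] [Algebra (Localization.AtPrime p ⧸ I) B₁] [Algebra A B₁]
        [IsScalarTower A B B₁] [IsScalarTower A (Localization.AtPrime p ⧸ I) B₁]
        [Algebra.IsPushout A B (Localization.AtPrime p ⧸ I) B₁]
        [AddCommGroup N₁] [Module (Localization (T.map (algebraMap B B₁))) N₁] [Module (Localization.AtPrime p ⧸ I) N₁]
        [IsScalarTower (Localization.AtPrime p ⧸ I) (Localization (T.map (algebraMap B B₁))) N₁]
        [Module B N₁] [IsScalarTower B (Localization (T.map (algebraMap B B₁))) N₁]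
        [Module A N₁] [IsScalarTower A (Localization.AtPrime p ⧸ I) N₁] [IsScalarTower A B N₁]
        (h : N →ₗ[B] N₁), IsBaseChange (Localization.AtPrime p ⧸ I) (h.restrictScalars A) →
        FlatCA.HasPureSpreadout (Localization.AtPrime p ⧸ I) B₁ (T.map (algebraMap B B₁)) N₁ := by
  let L := Localization T
  obtain ⟨N₀, _, _, hN₀, ⟨e⟩⟩ := FibCrit.exists_module_model (Q' := L) T (M := N)
  haveI := hN₀
  letI : Module A N₀ := Module.compHom N₀ (algebraMap A B)
  haveI : IsScalarTower A B N₀ := IsScalarTower.of_algebraMap_smul fun _ _ => rfl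
  let g₀ : N₀ →ₗ[B] N := (e.toLinearMap.restrictScalars B).comp (TensorProduct.mk B L N₀ 1)
  have hg₀ : IsBaseChange L g₀ := IsBaseChange.of_equiv e fun _ => rfl
  haveI : IsLocalizedModule T g₀ := (isLocalizedModule_iff_isBaseChange T L g₀).2 hg₀
  obtain ⟨t, htT, ht⟩ := exists_kill (A := A) (K := p.ResidueField) T g₀
  let C := Localization.Away t
  haveI : Algebra.FinitePresentation B C := IsLocalization.Away.finitePresentation t
  haveI : Algebra.FinitePresentation A C := Algebra.FinitePresentation.trans A B C
  let N' := LocalizedModule (Submonoid.powers t) N₀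
  haveI : Module.FinitePresentation C N' := inferInstance
  obtain ⟨I, hIfg, hIm, hproj⟩ := exists_fg_ideal_projective (A := A) (C := C) N' p
  refine ⟨I, hIfg, hIm, ?_⟩
  intro B₁ N₁ _ _ _ _ _ _ _ _ _ _ _ _ _ _ _ _ h hh
  haveI : Nontrivial (Localization.AtPrime p ⧸ I) := Ideal.Quotient.nontrivial_iff.2 fun h =>
    (maximalIdeal.isMaximal _).ne_top (top_le_iff.1 (h ▸ hIm))
  haveI : IsLocalRing (Localization.AtPrime p ⧸ I) := IsLocalRing.of_surjective' _ Ideal.Quotient.mk_surjective
  let R := Localization.AtPrime p ⧸ I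
  have hut : IsUnit (algebraMap B L t) := IsLocalization.map_units L (⟨t, htT⟩ : T)
  letI : Algebra C L := (IsLocalization.Away.lift (S := C) t hut).toAlgebra
  haveI : IsScalarTower B C L := IsScalarTower.of_algebraMap_eq fun a => (IsLocalization.Away.lift_eq t hut a).symm
  letI : Module C N := Module.compHom N (algebraMap C L)
  haveI : IsScalarTower C L N := IsScalarTower.of_algebraMap_smul fun _ _ => rfl
  haveI : IsScalarTower A C L := IsScalarTower.of_algebraMap_eq fun a => by
    rw [IsScalarTower.algebraMap_apply A B C, ← IsScalarTower.algebraMap_apply B C L,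
      ← IsScalarTower.algebraMap_apply A B L]
  haveI : IsScalarTower A C N := IsScalarTower.of_algebraMap_smul fun a x => by
    rw [← algebraMap_smul L (algebraMap A C a) x, ← IsScalarTower.algebraMap_apply, algebraMap_smul]
  haveI : IsScalarTower B C N := IsScalarTower.of_algebraMap_smul fun b x => by
    change algebraMap C L (algebraMap B C b) • x = b • x
    rw [← IsScalarTower.algebraMap_apply, algebraMap_smul]
  let i : N₀ →ₗ[B] N' := LocalizedModule.mkLinearMap (Submonoid.powers t) N₀
  have hle : Submonoid.powers t ≤ T := Submonoid.powers_le.2 htT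
  let g'B : N' →ₗ[B] N := IsLocalizedModule.liftOfLE (Submonoid.powers t) T hle i g₀
  have hg'B : g'B.comp i = g₀ := IsLocalizedModule.liftOfLE_comp ..
  let g' : N' →ₗ[C] N := LinearMap.extendScalarsOfIsLocalization (Submonoid.powers t) C g'B
  have hg' : IsBaseChange L g' := IsBaseChange.of_comp
    ((isLocalizedModule_iff_isBaseChange (Submonoid.powers t) C i).1 inferInstance) (by
      have hcomp : (g'.restrictScalars B).comp i = g₀ := hg'B
      rw [hcomp]; exact hg₀)
  refine hasPureSpreadout_baseChange T t htT N g' hg' hproj ?_ B₁ N₁ h hh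
  letI := Ideal.Quotient.field (maximalIdeal R)
  obtain ⟨_, _⟩ := exists_algebra_residue (R := R ⧸ maximalIdeal R) p
    (fun a ha => by
      rw [IsScalarTower.algebraMap_apply A R (R ⧸ maximalIdeal R), Ideal.Quotient.algebraMap_eq,
        Ideal.Quotient.eq_zero_iff_mem, IsLocalRing.mem_maximalIdeal, mem_nonunits_iff]
      intro hu
      rw [IsScalarTower.algebraMap_apply A (Localization.AtPrime p) R] at hu
      haveI : IsLocalHom (algebraMap (Localization.AtPrime p) R) := IsLocalHom.of_surjective _ Ideal.Quotient.mk_surjective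
      exact ((IsLocalization.AtPrime.isUnit_to_map_iff (Localization.AtPrime p) p a).1
        (isUnit_of_map_unit _ _ hu)) ha)
    (fun a ha => by
      rw [IsScalarTower.algebraMap_apply A (Localization.AtPrime p) (R ⧸ maximalIdeal R)]
      exact (IsLocalization.map_units (Localization.AtPrime p) (⟨a, ha⟩ : p.primeCompl)).map _)
  refine (RG.Pure.injective_lTensor_field_ext (g'.restrictScalars A) p.ResidueField (R ⧸ maximalIdeal R)).2 ?_
  exact injective_fibre T g₀ t ht i g'B hg'B

end Groth.Agent.RG.Dev.SpreadPure
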