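import Groth.Agent.RG.Dev.DevExists

/-!
# Étale change of a one-step dévissage
-/

set_option autoImplicit false

universe u

open CategoryTheory AlgebraicGeometry
open scoped TensorProduct
open Groth.Agent

namespace Groth.Agent.RG.Dev.StepEtale

theorem exists_etale_change
    (R S : Type u) [CommRing R] [CommRing S] [Algebra R S] [Algebra.FiniteType R S]
    (N : Type u) [AddCommGroup N] [Module S N] [Module R N] [IsScalarTower R S N] [Module.Finite S N]
    (p : Ideal R) [p.IsPrime] (q : Ideal S) [q.IsPrime] [q.LiesOver p]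
    (C D G : Type u) [CommRing C] [CommRing D] [Algebra S C] [Algebra R C] [IsScalarTower R S C]
    [Algebra R D] [Algebra D C] [IsScalarTower R D C] [AddCommGroup G] [Module C G] [Module S G]
    [IsScalarTower S C G] (n : ℕ)
    (h : FlatCA.IsOneStepDevissage R S N p C D G n)
    (z : Ideal C) [z.IsPrime] (y : Ideal D) [y.IsPrime] [z.LiesOver q] [z.LiesOver y] [y.LiesOver p]
    (h1 : ∃ (ξ : PrimeSpectrum (p.Fiber S)) (hξ : ξ ∈ Module.support (p.Fiber S) (FlatCA.fiberMod p S N)),
      ξ.asIdeal = FlatCA.fiberIdeal p q ∧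
      FlatMor.localDim (Module.support (p.Fiber S) (FlatCA.fiberMod p S N)) ⟨ξ, hξ⟩ = n)
    (h3 : ∀ (z₁ : Ideal C) [z₁.IsPrime], z₁.LiesOver y → z₁ = z)
    (h4 : FlatCA.PurelyTranscendental p y)
    (R' : Type u) [CommRing R'] [Algebra R R'] (p' : Ideal R') [p'.IsPrime] (hR' : FlatCA.IsEtaleNhd R R' p p')
    (D' : Type u) [CommRing D'] [Algebra D D'] [Algebra R' D'] [Algebra R D'] [IsScalarTower R R' D']
    [IsScalarTower R D D'] (y' : Ideal D') [y'.IsPrime] (hD' : FlatCA.IsEtaleNhd D D' y y') [y'.LiesOver p'] :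
    ∃ (R'' : Type u) (_ : CommRing R'') (_ : Algebra R' R'') (_ : Algebra R R'') (_ : IsScalarTower R R' R'')
      (p'' : Ideal R'') (_ : p''.IsPrime),
      FlatCA.IsEtaleNhd R' R'' p' p'' ∧
    ∃ (T : Type u) (_ : CommRing T) (_ : Algebra R' T) (_ : Algebra R'' T) (_ : Algebra D' T)
      (_ : IsScalarTower R' R'' T) (_ : IsScalarTower R' D' T),
      Algebra.IsPushout R' R'' D' T ∧
    ∃ (D'' : Type u) (_ : CommRing D'') (_ : Algebra T D'') (_ : Algebra D' D'') (_ : Algebra R'' D'')
      (_ : Algebra D D'') (_ : Algebra R D'') (_ : IsScalarTower D' T D'') (_ : IsScalarTower R'' T D'')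
      (_ : IsScalarTower D D' D'') (_ : IsScalarTower R R'' D'') (_ : IsScalarTower R D D'')
      (y'' : Ideal D'') (_ : y''.IsPrime) (_ : y''.LiesOver y') (_ : y''.LiesOver p''),
      IsOpenImmersion (Spec.map (CommRingCat.ofHom (algebraMap T D''))) ∧
    ∃ (C'' : Type u) (_ : CommRing C'') (_ : Algebra C C'') (_ : Algebra D'' C'') (_ : Algebra D C'')
      (_ : Algebra R'' C'') (_ : IsScalarTower D D'' C'') (_ : IsScalarTower D C C'') (_ : IsScalarTower R'' D'' C'')
      (z'' : Ideal C'') (_ : z''.IsPrime) (_ : z''.LiesOver z) (_ : z''.LiesOver y''),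
      Algebra.IsPushout D D'' C C'' ∧
    ∃ (G'' : Type u) (_ : AddCommGroup G'') (_ : Module C'' G'') (_ : Module C G'') (_ : IsScalarTower C C'' G'')
      (gG : G →ₗ[C] G''), IsBaseChange C'' gG ∧
    ∃ (S'' : Type u) (_ : CommRing S'') (_ : Algebra S S'') (_ : Algebra R'' S'') (_ : Algebra R S'')
      (_ : IsScalarTower R S S'') (_ : IsScalarTower R R'' S'') (q'' : Ideal S'') (_ : q''.IsPrime)
      (_ : Algebra S'' C'') (_ : Algebra S C'') (_ : IsScalarTower S S'' C'') (_ : IsScalarTower S C C'')
      (_ : IsScalarTower R'' S'' C'') (_ : Module S'' G'') (_ : IsScalarTower S'' C'' G''),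
      FlatCA.IsEtaleNhd S S'' q q'' ∧ z''.LiesOver q'' ∧
    ∃ (N'' : Type u) (_ : AddCommGroup N'') (_ : Module S'' N'') (_ : Module S N'') (_ : IsScalarTower S S'' N'')
      (_ : Module R'' N'') (_ : IsScalarTower R'' S'' N'') (gN : N →ₗ[S] N''), IsBaseChange S'' gN ∧
      FlatCA.IsOneStepDevissage R'' S'' N'' p'' C'' D'' G'' n ∧
      (∃ (ξ : PrimeSpectrum (p''.Fiber S'')) (hξ : ξ ∈ Module.support (p''.Fiber S'') (FlatCA.fiberMod p'' S'' N'')),
        ξ.asIdeal = FlatCA.fiberIdeal p'' q'' ∧
        FlatMor.localDim (Module.support (p''.Fiber S'') (FlatCA.fiberMod p'' S'' N'')) ⟨ξ, hξ⟩ = n) ∧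
      (∀ (z₂ : Ideal C'') [z₂.IsPrime], z₂.LiesOver y'' → z₂ = z'') ∧
      FlatCA.PurelyTranscendental p'' y'' := by
  obtain ⟨⟨eN⟩, hsurjC, hfpC, hDC, hCG, hsm, -, -⟩ := h
  haveI := hDC
  haveI := hCG
  obtain ⟨eR, lR, bR⟩ := (EtaleMaps.isEtaleNhd_iff p p').1 hR'
  obtain ⟨eD, lD, bD⟩ := (EtaleMaps.isEtaleNhd_iff y y').1 hD'
  haveI := eR
  haveI := eD
  haveI := lR
  haveI := lD
  have hsm' : FlatCA.SmoothRelDim n R' D' := EtaleMaps.smoothRelDim_etale hsm
  have hpt' : FlatCA.PurelyTranscendental p' y' :=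
    Shrink.purelyTranscendental_of_bijective p y p' y' lR.over lD.over bR bD h4
  obtain ⟨R'', _, _, p'', _, D'', _, _, _, _, _, _, y'', _, hy''p, hy''y, hR'', eD'', bD'', hpt'', hsm'', hgi, hopen⟩ :=
    SmoothNbhd.exists_integral_open_nbhd hsm' p' y' hpt'
  haveI := hy''p
  haveI := hy''y
  haveI := eD''
  letI : Algebra R R'' := ((algebraMap R' R'').comp (algebraMap R R')).toAlgebra
  haveI : IsScalarTower R R' R'' := IsScalarTower.of_algebraMap_eq fun _ => rfl
  have hRR'' : FlatCA.IsEtaleNhd R R'' p p'' := EtaleMaps.isEtaleNhd_trans hR' hR''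
  obtain ⟨eRR, lRR, -⟩ := hRR''
  haveI := eRR
  haveI := lRR
  letI : Algebra D D'' := ((algebraMap D' D'').comp (algebraMap D D')).toAlgebra
  haveI : IsScalarTower D D' D'' := IsScalarTower.of_algebraMap_eq fun _ => rfl
  have hDD'' : FlatCA.IsEtaleNhd D D'' y y'' :=
    EtaleMaps.isEtaleNhd_trans hD' ((EtaleMaps.isEtaleNhd_iff y' y'').2 ⟨eD'', hy''y, bD''⟩)
  obtain ⟨eDD, lDD, bDD⟩ := hDD''
  haveI := eDD
  haveI := lDD
  letI : Algebra R D'' := ((algebraMap R'' D'').comp (algebraMap R R'')).toAlgebra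
  haveI : IsScalarTower R R'' D'' := IsScalarTower.of_algebraMap_eq fun _ => rfl
  haveI : IsScalarTower R D D'' := IsScalarTower.of_algebraMap_eq fun a => by
    show algebraMap R'' D'' (algebraMap R' R'' (algebraMap R R' a)) =
      algebraMap D' D'' (algebraMap D D' (algebraMap R D a))
    rw [← IsScalarTower.algebraMap_apply R' R'' D'', ← IsScalarTower.algebraMap_apply R D D',
      IsScalarTower.algebraMap_apply R R' D', ← IsScalarTower.algebraMap_apply R' D' D'']
  let T := R'' ⊗[R'] D'
  let φ := Algebra.TensorProduct.lift (IsScalarTower.toAlgHom R' R'' D'') (IsScalarTower.toAlgHom R' D' D'')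
    fun _ _ => Commute.all _ _
  letI : Algebra D' T := Algebra.TensorProduct.rightAlgebra
  letI : Algebra T D'' := φ.toRingHom.toAlgebra
  haveI : IsScalarTower D' T D'' := IsScalarTower.of_algebraMap_eq fun a => by
    show _ = φ ((1 : R'') ⊗ₜ[R'] a)
    refine ((Algebra.TensorProduct.lift_tmul _ _ _ (1 : R'') a).trans ?_).symm
    rw [map_one, one_mul]; rfl
  haveI : IsScalarTower R'' T D'' := IsScalarTower.of_algebraMap_eq fun a => by
    show _ = φ (a ⊗ₜ[R'] (1 : D'))
    refine ((Algebra.TensorProduct.lift_tmul _ _ _ a (1 : D')).trans ?_).symm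
    rw [map_one, mul_one]; rfl
  -- the finite algebra
  let C'' := D'' ⊗[D] C
  letI : Algebra C C'' := Algebra.TensorProduct.rightAlgebra
  haveI : Algebra.IsPushout D D'' C C'' := inferInstance
  obtain ⟨z'', hz'', hz''y, hz''z⟩ := FibreBij.exists_liesOver (S := C) (S' := C'') y y'' bDD z
  haveI := hz''
  haveI := hz''y
  haveI := hz''z
  haveI : Algebra.IsPushout D C D'' C'' := Algebra.IsPushout.symm inferInstance
  haveI : Algebra.Etale C C'' := Algebra.Etale.of_equiv (Algebra.IsPushout.equiv D C D'' C'')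
  haveI := hfpC
  let J : Ideal S := RingHom.ker (algebraMap S C)
  have hJfg : J.FG := Algebra.FinitePresentation.ker_fG_of_surjective (Algebra.ofId S C) hsurjC
  let e₀ : (S ⧸ J) ≃+* C := RingHom.quotientKerEquivOfSurjective hsurjC
  letI : Algebra (S ⧸ J) C := e₀.toRingHom.toAlgebra
  haveI : Algebra.Etale (S ⧸ J) C := Algebra.Etale.of_equiv (AlgEquiv.ofRingEquiv (f := e₀) fun _ => rfl)
  letI : Algebra (S ⧸ J) C'' := ((algebraMap C C'').comp (algebraMap (S ⧸ J) C)).toAlgebra
  haveI : IsScalarTower (S ⧸ J) C C'' := IsScalarTower.of_algebraMap_eq fun _ => rfl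
  haveI : Algebra.Etale (S ⧸ J) C'' := Algebra.Etale.comp (S ⧸ J) C C''
  letI : Algebra S C'' := ((algebraMap C C'').comp (algebraMap S C)).toAlgebra
  haveI : IsScalarTower S C C'' := IsScalarTower.of_algebraMap_eq fun _ => rfl
  haveI : IsScalarTower R'' D'' C'' := inferInstance
  have hc : ∀ a : R, algebraMap R'' C'' (algebraMap R R'' a) =
      algebraMap (S ⧸ J) C'' (Ideal.Quotient.mk J (algebraMap R S a)) := fun a => by
    show algebraMap R'' C'' (algebraMap R R'' a) = algebraMap C C'' (algebraMap S C (algebraMap R S a))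
    rw [← IsScalarTower.algebraMap_apply R S C, IsScalarTower.algebraMap_apply R D C,
      IsScalarTower.algebraMap_apply R'' D'' C'', ← IsScalarTower.algebraMap_apply R R'' D'',
      IsScalarTower.algebraMap_apply R D D'', ← IsScalarTower.algebraMap_apply D D'' C'',
      ← IsScalarTower.algebraMap_apply D C C'']
  obtain ⟨S'', _, _, _, _, _, _, π, hetS, hπsurj, hπS, hπR, hker⟩ := EtaleLift.exists_lift J hJfg hc
  haveI := hetS
  letI : Algebra S'' C'' := π.toAlgebra
  haveI : IsScalarTower R'' S'' C'' := IsScalarTower.of_algebraMap_eq fun a => (hπR a).symm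
  haveI : IsScalarTower S S'' C'' := IsScalarTower.of_algebraMap_eq fun a => (hπS a).symm
  let q'' := z''.comap (algebraMap S'' C'')
  haveI : z''.LiesOver q'' := ⟨rfl⟩
  haveI : q''.LiesOver p'' := ⟨by
    rw [Ideal.under, Ideal.comap_comap, ← IsScalarTower.algebraMap_eq, IsScalarTower.algebraMap_eq R'' D'' C'',
      ← Ideal.comap_comap]
    exact (y''.over_def p'').trans (congrArg (Ideal.comap _) hz''y.over)⟩
  haveI hq'' : q''.LiesOver q := ⟨by
    rw [Ideal.under, Ideal.comap_comap, ← IsScalarTower.algebraMap_eq, IsScalarTower.algebraMap_eq S C C'',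
      ← Ideal.comap_comap]
    exact (z.over_def q).trans (congrArg (Ideal.comap _) hz''z.over)⟩
  have hbq : Function.Bijective (Ideal.ResidueField.map q q'' (algebraMap S S'') hq''.over) := by
    let m₁ := Ideal.ResidueField.map q q'' (algebraMap S S'') hq''.over
    let m₂ := Ideal.ResidueField.map q'' z'' (algebraMap S'' C'') rfl
    have h1' := DevTools.residue_bijective_of_surjective hsurjC q z (z.over_def q)
    have h2' := FibreBij.residue_bijective (S := C) (S' := C'') y y'' bDD z z''
    have h3' : m₂.comp m₁ = (Ideal.ResidueField.map z z'' (algebraMap C C'') hz''z.over).comp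
        (Ideal.ResidueField.map q z (algebraMap S C) (z.over_def q)) := by
      refine Ideal.ResidueField.ringHom_ext (RingHom.ext fun a => ?_)
      simp only [m₁, m₂, RingHom.comp_apply, Ideal.ResidueField.map_algebraMap]
      rw [← IsScalarTower.algebraMap_apply S S'' C'', ← IsScalarTower.algebraMap_apply S C C'']
    have h4' : Function.Bijective (m₂ ∘ m₁) := by
      rw [← RingHom.coe_comp, h3']; exact h2'.comp h1'
    exact ⟨m₁.injective, fun v => (h4'.2 (m₂ v)).imp fun _ hw => m₂.injective hw⟩
  haveI : Algebra.IsPushout S C S'' C'' := DevTools.isPushout_of_surjective hsurjC hπsurj (le_of_eq hker)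
  haveI : Algebra.IsPushout S S'' C C'' := Algebra.IsPushout.symm inferInstance
  let G'' := C'' ⊗[C] G
  let N'' := S'' ⊗[S] N
  let iso : N'' ≃ₗ[S''] G'' :=
    (TensorProduct.AlgebraTensorModule.congr (LinearEquiv.refl S'' S'') eN).trans
      (Algebra.IsPushout.cancelBaseChange S S'' C C'' G).symm
  haveI : Algebra.FiniteType R S'' := Algebra.FiniteType.trans (S := S) inferInstance inferInstance
  haveI : Algebra.FiniteType R'' S'' := Algebra.FiniteType.of_restrictScalars_finiteType R R'' S''
  obtain ⟨ξ, hξ, hξq, hξn⟩ := h1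
  obtain ⟨x', hx', hx'q, hx'n⟩ := DevTools.localDim_support_etale N N'' (TensorProduct.mk S S'' N 1)
    (TensorProduct.isBaseChange _ _ _) p q p'' q'' ξ hξq hξ
  have hirr : FlatCA.GeomIrredFibres R'' D'' := by
    haveI : GeometricallyIntegral (Spec.map (CommRingCat.ofHom (algebraMap R'' D''))) := hgi
    infer_instance
  haveI : Module.Finite D'' G'' := Module.Finite.trans C'' G''
  haveI : Module.Finite S'' C'' := Module.Finite.of_surjective (Algebra.linearMap S'' C'') hπsurj
  have hdim : Module.supportDim (p''.Fiber S'') (FlatCA.fiberMod p'' S'' N'') = n := by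
    refine le_antisymm ?_ ?_
    · have heq : Module.supportDim (p''.Fiber S'') (FlatCA.fiberMod p'' S'' N'') =
          Module.supportDim (p''.Fiber D'') (FlatCA.fiberMod p'' D'' G'') := by
        rw [supportDim_fiberMod_finite (S := D'') (C := C'') p'' G'',
          ← supportDim_fiberMod_finite (S := S'') (C := C'') p'' G'']
        letI : Algebra S'' (p''.Fiber S'') := Algebra.TensorProduct.rightAlgebra
        exact Module.supportDim_eq_of_equiv
          (TensorProduct.AlgebraTensorModule.congr (LinearEquiv.refl (p''.Fiber S'') (p''.Fiber S'')) iso)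
      haveI : Algebra.Smooth R'' D'' := Shrink.smooth_of_smoothRelDim hsm''
      rw [heq]
      exact (Module.supportDim_le_ringKrullDim _ _).trans (ringKrullDim_fiber_le hsm'' p'')
    · rw [← hξn, ← hx'n]
      exact DevTools.localDim_le_supportDim N'' p'' ⟨x', hx'⟩
  refine ⟨R'', inferInstance, inferInstance, inferInstance, inferInstance, p'', inferInstance, hR'', T, inferInstance,
    inferInstance, inferInstance, inferInstance, inferInstance, inferInstance, inferInstance,
    D'', inferInstance, inferInstance, inferInstance, inferInstance, inferInstance, inferInstance,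
    inferInstance, inferInstance, inferInstance, inferInstance, inferInstance, y'', inferInstance, inferInstance,
    inferInstance, hopen, C'', inferInstance, inferInstance, inferInstance, inferInstance, inferInstance,
    inferInstance, inferInstance, inferInstance, z'', inferInstance, inferInstance, inferInstance, inferInstance,
    G'', inferInstance, inferInstance, inferInstance, inferInstance, TensorProduct.mk C C'' G 1,
    TensorProduct.isBaseChange _ _ _, S'', inferInstance, inferInstance, inferInstance, inferInstance, inferInstance,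
    inferInstance, q'', inferInstance, inferInstance, inferInstance, inferInstance, inferInstance, inferInstance,
    inferInstance, inferInstance, (EtaleMaps.isEtaleNhd_iff q q'').2 ⟨hetS, hq'', hbq⟩, inferInstance,
    N'', inferInstance, inferInstance, inferInstance, inferInstance, inferInstance, inferInstance,
    TensorProduct.mk S S'' N 1, TensorProduct.isBaseChange _ _ _,
    ⟨⟨iso⟩, hπsurj, Algebra.FinitePresentation.equiv (Algebra.IsPushout.equiv S S'' C C''), inferInstance,
      inferInstance, hsm'', hirr, hdim⟩, ⟨x', hx', hx'q, hx'n.trans hξn⟩, fun z₂ _ hz₂ => ?_, hpt''⟩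
  haveI := hz₂
  refine FibreBij.eq_of_liesOver y y'' bDD z z₂ z'' ⟨(h3 (z₂.comap (algebraMap C C'')) ⟨?_⟩).symm⟩ hz''z
  rw [Ideal.under, Ideal.comap_comap, ← IsScalarTower.algebraMap_eq, IsScalarTower.algebraMap_eq D D'' C'',
    ← Ideal.comap_comap]
  exact lDD.over.trans (congrArg (Ideal.comap _) hz₂.over)

end Groth.Agent.RG.Dev.StepEtale
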